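import Cfsg.Agent.RootSub.QuadPair.Dichotomy
import Cfsg.Agent.RootSub.SpecialPerfect
import Cfsg.Agent.RootSub.Quasisimplicity

/-!
# The classes of root subgroups generate commuting quasisimple groups
-/

set_option autoImplicit false
set_option linter.unusedSectionVars false
set_option linter.unusedVariables false
set_option linter.unusedSimpArgs false
set_option linter.style.haveILetI false

open Cfsg
open scoped commutatorElement

namespace Cfsg.Lib.QuadPair

/-! ### A criterion -/

section Criterion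

variable {Γ : Type*} [Group Γ] {S : Set (Subgroup Γ)} {A B : Subgroup Γ} {N : Subgroup Γ}

theorem top_of_image_commute (hS : IsRootSubgroupClass S) (hN : N.Normal)
    (hperf : ∀ A ∈ S, ∀ B ∈ S, IsRankOnePair A B → ⁅A ⊔ B, A ⊔ B⁆ = A ⊔ B) (hA : A ∈ S) (hB : B ∈ S)
    (hp : IsRankOnePair A B)
    (hc : ⁅⁅A ⊔ B, A ⊔ B⁆, A ⊔ B⁆ ≤ N) : N = ⊤ :=
  RootSub.eq_top_of_member_le hS hN hA (by
    rw [hperf A hA B hB hp, hperf A hA B hB hp] at hc
    exact le_sup_left.trans hc)

/-- A normal subgroup is everything, or it preserves the partners of every member. -/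
theorem top_or_partners (hS : IsRootSubgroupClass S)
    (hperf : ∀ A ∈ S, ∀ B ∈ S, IsRankOnePair A B → ⁅A ⊔ B, A ⊔ B⁆ = A ⊔ B) (hN : N.Normal) :
    N = ⊤ ∨ ∀ n ∈ N, ∀ A ∈ S, rankOnePartners S (conjBy A n) = rankOnePartners S A := by
  refine or_iff_not_imp_left.mpr fun hne n hn A hA => ?_
  haveI := hN
  obtain ⟨q, hq⟩ : ∃ q : Γ →* Γ ⧸ N, q = QuotientGroup.mk' N := ⟨_, rfl⟩
  have hker : q.ker = N := by rw [hq, QuotientGroup.ker_mk']
  have hqn : q n = 1 := by rw [← MonoidHom.mem_ker, hker]; exact hn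
  have hAn : conjBy A n ∈ S := hS.1.conj_mem A hA n
  have himg : (conjBy A n).map q = A.map q := by
    ext y
    constructor
    · rintro ⟨x, hx, rfl⟩
      refine ⟨n⁻¹ * x * n, RootSub.mem_conjBy.mp hx, ?_⟩
      simp [map_mul, hqn]
    · rintro ⟨x, hx, rfl⟩
      refine ⟨n * x * n⁻¹, RootSub.mem_conjBy.mpr (by simpa [mul_assoc] using hx), ?_⟩
      simp [map_mul, hqn]
  -- two members with the same image have the same partners
  have key : ∀ P ∈ S, ∀ Q ∈ S, P.map q = Q.map q → rankOnePartners S P ⊆ rankOnePartners S Q := by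
    rintro P hP Q hQ hPQ B ⟨hB, hPB⟩
    refine ⟨hB, ?_⟩
    by_contra hQB
    refine hne (top_of_image_commute hS hN hperf hP hB hPB ?_)
    rw [← hker, ← Subgroup.map_eq_bot_iff, Subgroup.map_commutator, Subgroup.map_commutator, Subgroup.map_sup, hPQ,
      ← Subgroup.map_sup, ← Subgroup.map_commutator, ← Subgroup.map_commutator, Subgroup.map_eq_bot_iff]
    have hab := fun (X : Subgroup Γ) (hX : X ∈ S) => fun x hx x' hx' =>
      RootSub.abelian_comm hS.1 hX (a := x) (a' := x') hx hx'
    have hcen : ∀ c ∈ ⁅Q, B⁆, ∀ x ∈ Q ⊔ B, c * x = x * c := by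
      rcases hS.1.pair Q hQ B hB with h0 | hr | hc
      · intro c hc x _
        rw [h0, Subgroup.mem_bot] at hc
        rw [hc, one_mul, mul_one]
      · exact absurd hr hQB
      · exact hc.2.1
    refine le_trans (le_of_eq ?_) bot_le
    rw [Subgroup.commutator_eq_bot_iff_le_centralizer]
    exact (commutator_sup_le (hab Q hQ) (hab B hB) hcen).trans fun c hc =>
      Subgroup.mem_centralizer_iff.mpr fun x hx => (hcen c hc x hx).symm
  exact Set.Subset.antisymm (key _ hAn A hA himg) (key A hA _ hAn himg.symm)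

end Criterion

variable {k : Type*} [Field k] {M : Type*} [AddCommGroup M] [Module k M] [FiniteDimensional k M]

local notation "End'" => (M →ₗ[k] M)
local notation "GL'" => LinearMap.GeneralLinearGroup k M

variable {G : Subgroup (LinearMap.GeneralLinearGroup k M)} {a b c : M →ₗ[k] M}

/-- The component of `A`. -/
def part (G : Subgroup (LinearMap.GeneralLinearGroup k M)) (A : Subgroup (LinearMap.GeneralLinearGroup k M)) :
    Set (Subgroup (LinearMap.GeneralLinearGroup k M)) :=
  componentOf (FAdj (quadraticRootSubgroups G)) (quadraticRootSubgroups G) A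

/-- The group generated by the component of `A`. -/
def partGroup (G : Subgroup (LinearMap.GeneralLinearGroup k M)) (A : Subgroup (LinearMap.GeneralLinearGroup k M)) :
    Subgroup (LinearMap.GeneralLinearGroup k M) :=
  ⨆ B ∈ part G A, B

theorem pair_of_mid (h2 : (2 : k) ≠ 0) (h3 : Nat.card k ≠ 3) (ha : MinEl G a) (hb : MinEl G b)
    (h : b * a * b ≠ 0) : IsRankOnePair (rootOf ha) (rootOf hb) :=
  rank_one_pair h2 h3 ha hb fun hn => h ((pair_mid_iff h2 ha hb).mp hn)

/-- In the commutator case the first member lies in the component of the commutator. -/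
theorem reach_comm (h2 : (2 : k) ≠ 0) (h3 : Nat.card k ≠ 3) (hs : Semi G) (ha : MinEl G a) (hb : MinEl G b)
    (hn : IsNilpotent (a * b)) (hne : a * b ≠ b * a) (hX : MinEl G (a * b - b * a)) :
    Relation.ReflTransGen (FAdj (quadraticRootSubgroups G)) (rootOf ha) (rootOf hX) := by
  obtain ⟨c, hc, hI⟩ := exists_inv2 h2 h3 hs hX
  have hcX : c * (a * b - b * a) * c ≠ 0 := by rw [hI.cac]; exact hc.ne
  have hadj : ∀ {p q : End'} (hp : MinEl G p) (hq : MinEl G q), q * p * q ≠ 0 →
      FAdj (quadraticRootSubgroups G) (rootOf hp) (rootOf hq) := fun hp hq h =>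
    ⟨rootOf_mem hp, rootOf_mem hq, pair_of_mid h2 h3 hp hq h⟩
  by_cases hcac : c * a * c = 0
  swap
  · exact (Relation.ReflTransGen.single (hadj ha hc hcac)).tail (RootSub.fadj_symm (hadj hX hc hcX))
  have P := commPair h2 ha hb hn hne
  have ma' := ha.conj hb.toFam.xu_mem_one
  have hval : ((xu b hb.sq : GL') : End') * a * (↑(xu b hb.sq)⁻¹ : End') = a - (a * b - b * a) := by
    rw [conj_one_add, P.bab, sub_zero]; abel
  have h1 : Relation.ReflTransGen (FAdj (quadraticRootSubgroups G)) (rootOf ma') (rootOf hX) := by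
    refine (Relation.ReflTransGen.single (hadj ma' hc ?_)).tail (RootSub.fadj_symm (hadj hX hc hcX))
    rw [hval, mul_sub, sub_mul, hcac, zero_sub]
    exact neg_ne_zero.mpr hcX
  obtain ⟨q, hq, hIq⟩ := exists_inv2 h2 h3 hs ha
  have hqa : q * a * q ≠ 0 := by rw [hIq.cac]; exact hq.ne
  by_cases hqX : q * (a * b - b * a) * q = 0
  swap
  · exact (Relation.ReflTransGen.single (hadj ha hq hqa)).tail (RootSub.fadj_symm (hadj hX hq hqX))
  refine ((Relation.ReflTransGen.single (hadj ha hq hqa)).tail (RootSub.fadj_symm (hadj ma' hq ?_))).trans h1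
  rw [hval, mul_sub, sub_mul, hqX, sub_zero]
  exact hqa

theorem reach_case (h2 : (2 : k) ≠ 0) (h3 : Nat.card k ≠ 3) (hs : Semi G) (ha : MinEl G a) (hb : MinEl G b)
    (hn : IsNilpotent (a * b)) (hne : a * b ≠ b * a) :
    Relation.ReflTransGen (FAdj (quadraticRootSubgroups G)) (rootOf ha) (rootOf hb) := by
  have P := commPair h2 ha hb hn hne
  have P' := commPair h2 hb ha (nilp_swap hn) hne.symm
  have e : rootOf P'.minX = rootOf P.minX := rootOf_congr _ _ (by rw [← neg_sub, LinearMap.ker_neg])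
    (by rw [← neg_sub, LinearMap.range_neg])
  exact (reach_comm h2 h3 hs ha hb hn hne P.minX).trans
    (e ▸ RootSub.freach_symm (reach_comm h2 h3 hs hb ha (nilp_swap hn) hne.symm P'.minX))

theorem commute_of_not_reach (h2 : (2 : k) ≠ 0) (h3 : Nat.card k ≠ 3) (hs : Semi G) {A B : Subgroup GL'}
    (hA : A ∈ quadraticRootSubgroups G) (hB : B ∈ quadraticRootSubgroups G)
    (h : ¬ Relation.ReflTransGen (FAdj (quadraticRootSubgroups G)) A B) : ⁅A, B⁆ = ⊥ := by
  obtain ⟨a, ha, rfl⟩ := exists_root hA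
  obtain ⟨b, hb, rfl⟩ := exists_root hB
  by_cases hn : IsNilpotent (a * b)
  · by_cases hab : a * b = b * a
    · exact (root_comm_bot ha hb).mpr fun x y hx hy => commute_all h2 h3 ha hb hab hx hy
    · exact absurd (reach_case h2 h3 hs ha hb hn hab) h
  · exact absurd (Relation.ReflTransGen.single ⟨hA, hB, rank_one_pair h2 h3 ha hb hn⟩) h

theorem mem_part {A B : Subgroup GL'} (h : B ∈ part G A) :
    B ∈ quadraticRootSubgroups G ∧ Relation.ReflTransGen (FAdj (quadraticRootSubgroups G)) A B := h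

theorem le_partGroup {A B : Subgroup GL'} (h : B ∈ part G A) : B ≤ partGroup G A :=
  le_iSup₂ (f := fun B _ => B) B h

theorem self_mem_part {A : Subgroup GL'} (hA : A ∈ quadraticRootSubgroups G) : A ∈ part G A := ⟨hA, .refl⟩

theorem part_eq_of_mem {A B : Subgroup GL'} (h : B ∈ part G A) : part G B = part G A := by
  ext C
  exact and_congr_right fun _ => ⟨fun h' => h.2.trans h', fun h' => (RootSub.freach_symm h.2).trans h'⟩

theorem partGroup_le (A : Subgroup GL') : partGroup G A ≤ rootGroup G :=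
  iSup₂_le fun B hB => le_iSup₂ (f := fun B _ => B) B hB.1

theorem le_centralizer_of_not_mem (h2 : (2 : k) ≠ 0) (h3 : Nat.card k ≠ 3) (hs : Semi G) {A B : Subgroup GL'}
    (hB : B ∈ quadraticRootSubgroups G) (h : B ∉ part G A) :
    B ≤ Subgroup.centralizer (partGroup G A : Set GL') := by
  rw [Subgroup.le_centralizer_iff, partGroup]
  refine iSup₂_le fun C hC => ?_
  exact Subgroup.commutator_eq_bot_iff_le_centralizer.mp
    (commute_of_not_reach h2 h3 hs hC.1 hB fun hr => h ⟨hB, hC.2.trans hr⟩)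

/-- Conjugation keeps the components. -/
theorem reach_conj (h2 : (2 : k) ≠ 0) (h3 : Nat.card k ≠ 3) (hs : Semi G)
    (hq : Subgroup.closure (quadraticElements G) = G) {A : Subgroup GL'} (hA : A ∈ quadraticRootSubgroups G)
    {g : GL'} (hg : g ∈ G) :
    Relation.ReflTransGen (FAdj (quadraticRootSubgroups G)) A (conjBy A g) := by
  let K : Subgroup GL' :=
    { carrier := {g | g ∈ G ∧ ∀ A ∈ quadraticRootSubgroups G,
        Relation.ReflTransGen (FAdj (quadraticRootSubgroups G)) A (conjBy A g)}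
      one_mem' := ⟨one_mem G, fun B hB => by rw [RootSub.conjBy_one]⟩
      mul_mem' := fun {g h} hg hh => ⟨mul_mem hg.1 hh.1, fun B hB => by
        rw [← RootSub.conjBy_conjBy]
        exact (hh.2 B hB).trans (hg.2 _ (conj_mem_roots hB hh.1))⟩
      inv_mem' := fun {g} hg => ⟨inv_mem hg.1, fun B hB => by
        have := hg.2 _ (conj_mem_roots hB (inv_mem hg.1))
        rw [RootSub.conjBy_conjBy, mul_inv_cancel, RootSub.conjBy_one] at this
        exact RootSub.freach_symm this⟩ }
  have h1 : rootGroup G ≤ K := by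
    rw [rootGroup]
    refine iSup₂_le fun B hB x hx => ⟨mem_le hB hx, fun C hC => ?_⟩
    obtain ⟨b, hb, rfl⟩ := exists_root hB
    obtain ⟨d, hd, rfl⟩ := exists_root hC
    by_cases hn : IsNilpotent (d * b)
    · by_cases hdb : d * b = b * d
      · rw [RootSub.conjBy_eq_self_iff.mpr (Subgroup.centralizer_le_normalizer _ (Subgroup.mem_centralizer_iff.mpr
          fun y hy => RootSub.commute_of_bot
            ((root_comm_bot hd hb).mpr fun u v hu hv => commute_all h2 h3 hd hb hdb hu hv) hy hx))]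
      · obtain ⟨hX, heq, -, -, hcen, -, -, -⟩ := comm_case h2 h3 hs hd hb hn hdb
        have hr := reach_comm h2 h3 hs hd hb hn hdb hX
        have hLfix : conjBy (rootOf hX) x = rootOf hX := RootSub.conjBy_eq_self_iff.mpr
          (Subgroup.centralizer_le_normalizer _ (Subgroup.mem_centralizer_iff.mpr fun l hl =>
            hcen l hl x (Subgroup.mem_sup_right hx)))
        have hr' : Relation.ReflTransGen (FAdj (quadraticRootSubgroups G)) (conjBy (rootOf hd) x)
            (conjBy (rootOf hX) x) := by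
          refine hr.lift (fun P => conjBy P x) fun p q hpq => ?_
          exact ⟨conj_mem_roots hpq.1 (mem_le hB hx), conj_mem_roots hpq.2.1 (mem_le hB hx),
            RootSub.conj_pair hpq.2.2 x⟩
        rw [hLfix] at hr'
        exact hr.trans (RootSub.freach_symm hr')
    · have hp := rank_one_pair h2 h3 hd hb hn
      refine (Relation.ReflTransGen.single ⟨hC, hB, hp⟩).tail ⟨hB, conj_mem_roots hC (mem_le hB hx), ?_⟩
      have := RootSub.conj_pair (RankOnePair_symm hp) x
      rwa [RootSub.conjBy_self hx] at this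
  have h2' : G ⊓ Subgroup.centralizer (rootGroup G : Set GL') ≤ K := by
    intro x hx
    obtain ⟨hxG, hxc⟩ := Subgroup.mem_inf.mp hx
    refine ⟨hxG, fun C hC => ?_⟩
    rw [RootSub.conjBy_eq_self_iff.mpr (Subgroup.centralizer_le_normalizer _ (Subgroup.mem_centralizer_iff.mpr
      fun y hy => Subgroup.mem_centralizer_iff.mp hxc y ((le_iSup₂ (f := fun B _ => B) C hC : C ≤ rootGroup G) hy)))]
  exact (((dichotomy h2 h3 hs hq).1.trans (sup_le h1 h2')) hg).2 A hA

theorem conj_in_part {A C : Subgroup GL'} (hA : A ∈ quadraticRootSubgroups G) (hC : C ∈ part G A) :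
    ∃ g ∈ partGroup G A, C = conjBy A g := by
  obtain ⟨-, hr⟩ := mem_part hC
  clear hC
  induction hr with
  | refl => exact ⟨1, one_mem _, RootSub.conjBy_one.symm⟩
  | @tail Y Z hAY hbc ih =>
    obtain ⟨g, hg, hY⟩ := ih
    obtain ⟨x, hx, hxe⟩ := RootSub.right_mem hbc.2.2
    refine ⟨x * g, mul_mem ?_ hg, ?_⟩
    · exact (sup_le (le_partGroup ⟨hbc.1, hAY⟩) (le_partGroup ⟨hbc.2.1, hAY.tail hbc⟩)) hx
    · rw [hxe, hY, RootSub.conjBy_conjBy]

theorem part_pair_mem {A B C : Subgroup GL'} (hB : B ∈ part G A) (hC : C ∈ quadraticRootSubgroups G)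
    (h : IsRankOnePair B C) : C ∈ part G A := ⟨hC, hB.2.tail ⟨hB.1, hC, h⟩⟩

theorem part_rootSet (h2 : (2 : k) ≠ 0) (h3 : Nat.card k ≠ 3) (hs : Semi G)
    (hq : Subgroup.closure (quadraticElements G) = G) {A : Subgroup GL'} (hA : A ∈ quadraticRootSubgroups G) :
    IsRootSubgroupClass ((fun B : Subgroup GL' => B.subgroupOf (partGroup G A)) '' part G A) := by
  refine ⟨restrict_rootSet rfl ?_ ?_ ?_ ?_, ⟨_, ⟨A, self_mem_part hA, rfl⟩⟩, ?_⟩
  · intro B hB
    obtain ⟨b, hb, rfl⟩ := exists_root hB.1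
    exact fun g hg h hh => rootOf_abelian hb hg hh
  · intro B hB
    obtain ⟨b, hb, rfl⟩ := exists_root hB.1
    exact rootOf_ne_bot hb
  · intro B hB g hg
    have hgG := sup_le_group (partGroup_le A hg)
    exact ⟨conj_mem_roots hB.1 hgG, hB.2.trans (reach_conj h2 h3 hs hq hB.1 hgG)⟩
  · intro B hB C hC
    rcases trichotomy h2 h3 hs hB.1 hC.1 with h | h | ⟨h1, h4, h5, h6⟩
    · exact Or.inl h
    · exact Or.inr (Or.inl h)
    · refine Or.inr (Or.inr ⟨⟨h1, ?_⟩, h4, h5, h6⟩)
      obtain ⟨b, hb, rfl⟩ := exists_root hB.1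
      obtain ⟨d, hd, rfl⟩ := exists_root hC.1
      have hnb : ⁅rootOf hb, rootOf hd⁆ ≠ ⊥ := fun h0 => by
        rw [h0] at h1
        obtain ⟨z, hz, hz'⟩ := exists_root h1
        exact rootOf_ne_bot hz hz'.symm
      have hn : IsNilpotent (b * d) := by
        refine nilp_of_class_two h2 h3 hb hd ?_
        rw [Subgroup.commutator_eq_bot_iff_le_centralizer]
        refine (commutator_sup_le (fun g hg h hh => rootOf_abelian hb hg hh)
          (fun g hg h hh => rootOf_abelian hd hg hh) h4).trans fun l hl => ?_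
        exact Subgroup.mem_centralizer_iff.mpr fun x hx => (h4 l hl x hx).symm
      by_cases hbd : b * d = d * b
      · exact absurd ((root_comm_bot hb hd).mpr fun u v hu hv => commute_all h2 h3 hb hd hbd hu hv) hnb
      · obtain ⟨hX, heq, -⟩ := comm_case h2 h3 hs hb hd hn hbd
        rw [heq]
        exact hB.2.trans (reach_comm h2 h3 hs hb hd hn hbd hX)
  · rintro _ ⟨B, hB, rfl⟩ _ ⟨C, hC, rfl⟩
    obtain ⟨g, hg, hgB⟩ := conj_in_part hA hB
    obtain ⟨g', hg', hgC⟩ := conj_in_part hA hC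
    refine ⟨⟨g' * g⁻¹, mul_mem hg' (inv_mem hg)⟩, ?_⟩
    show C.subgroupOf _ = conjBy (B.subgroupOf _) _
    rw [← RootSub.subgroupOf_conjBy]
    show C.subgroupOf _ = (conjBy B (g' * g⁻¹)).subgroupOf _
    rw [hgB, RootSub.conjBy_conjBy, inv_mul_cancel_right, hgC]

theorem part_pairs_perfect (h2 : (2 : k) ≠ 0) (h3 : Nat.card k ≠ 3) {A B : Subgroup GL'}
    (hA : A ∈ quadraticRootSubgroups G) (hB : B ∈ quadraticRootSubgroups G) (h : IsRankOnePair A B) :
    ⁅A ⊔ B, A ⊔ B⁆ = A ⊔ B := by
  obtain ⟨a, ha, rfl⟩ := exists_root hA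
  obtain ⟨b, hb, rfl⟩ := exists_root hB
  exact RootSub.special_perfect (special_pair h2 h3 ha hb (pair_not_nilp h2 h3 ha hb h))
    ⟨⟨fun x y => Subtype.ext (rootOf_abelian ha x.2 y.2)⟩⟩ (root_card h2 h3 ha)

theorem part_quasisimple (h2 : (2 : k) ≠ 0) (h3 : Nat.card k ≠ 3) (hs : Semi G)
    (hq : Subgroup.closure (quadraticElements G) = G) {A : Subgroup GL'} (hA : A ∈ quadraticRootSubgroups G) :
    IsQuasisimple ↥(partGroup G A) := by
  have hS := part_rootSet h2 h3 hs hq hA
  obtain ⟨H, hH⟩ : ∃ H, H = partGroup G A := ⟨_, rfl⟩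
  rw [← hH] at hS ⊢
  have hle : ∀ B ∈ part G A, B ≤ H := fun B hB => hH ▸ le_partGroup hB
  obtain ⟨P, hP, hAP⟩ := exists_partner_root h2 h3 hs hA
  have hPp : P ∈ part G A := part_pair_mem (self_mem_part hA) hP hAP
  have hperf : ∀ X ∈ (fun B : Subgroup GL' => B.subgroupOf H) '' part G A,
      ∀ Y ∈ (fun B : Subgroup GL' => B.subgroupOf H) '' part G A, IsRankOnePair X Y →
      ⁅X ⊔ Y, X ⊔ Y⁆ = X ⊔ Y := by
    rintro _ ⟨B, hB, rfl⟩ _ ⟨C, hC, rfl⟩ hp
    apply Subgroup.map_injective H.subtype_injective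
    rw [Subgroup.map_commutator, Subgroup.map_sup, restrict_map (hle B hB), restrict_map (hle C hC)]
    exact part_pairs_perfect h2 h3 hB.1 hC.1 (pair_of_restrict (hle B hB) (hle C hC) hp)
  have hp : commutator ↥H = ⊤ := by
    have h1 : A.subgroupOf H ≤ commutator ↥H := by
      have h5 := hperf _ ⟨A, self_mem_part hA, rfl⟩ _ ⟨P, hPp, rfl⟩
        (pair_restrict (hle A (self_mem_part hA)) (hle P hPp) hAP)
      exact le_sup_left.trans (h5 ▸ Subgroup.commutator_mono le_top le_top)
    exact RootSub.eq_top_of_member_le hS inferInstance ⟨A, self_mem_part hA, rfl⟩ h1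
  have hc : Subgroup.center ↥H ≠ ⊤ := by
    intro h
    obtain ⟨x, hx, hx1⟩ := RootSub.exists_ne_one hAP
    obtain ⟨y, hy, hxy⟩ := RootSub.not_commute hAP hx hx1
    have := Subgroup.mem_center_iff.mp (h ▸ Subgroup.mem_top (⟨y, hle P hPp hy⟩ : ↥H) :
      (⟨y, hle P hPp hy⟩ : ↥H) ∈ Subgroup.center ↥H) ⟨x, hle A (self_mem_part hA) hx⟩
    exact hxy (congrArg Subtype.val this)
  have hN : ∀ N : Subgroup ↥H, N.Normal → N ≤ Subgroup.center ↥H ∨ N = ⊤ := by
    intro N hN
    rcases top_or_partners hS hperf hN with h | h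
    · exact Or.inr h
    refine Or.inl fun n hn => ?_
    have hnG : (n : GL') ∈ G := sup_le_group (partGroup_le A (hH ▸ n.2))
    have hker : (n : GL') ∈ classKernel G := by
      refine mem_classKernel.mpr ⟨hnG, fun B hB => ?_⟩
      by_cases hBP : B ∈ part G A
      · have hBn : conjBy B (n : GL') ∈ part G A :=
          ⟨conj_mem_roots hB hnG, hBP.2.trans (reach_conj h2 h3 hs hq hB hnG)⟩
        have hkey : rankOnePartners ((fun B : Subgroup GL' => B.subgroupOf H) '' part G A)
            ((conjBy B (n : GL')).subgroupOf H) =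
            rankOnePartners ((fun B : Subgroup GL' => B.subgroupOf H) '' part G A) (B.subgroupOf H) := by
          rw [RootSub.subgroupOf_conjBy H B n]
          exact h n hn _ ⟨B, hBP, rfl⟩
        have hsub : ∀ X ∈ part G A, ∀ Y ∈ part G A,
            rankOnePartners ((fun B : Subgroup GL' => B.subgroupOf H) '' part G A) (X.subgroupOf H) =
              rankOnePartners ((fun B : Subgroup GL' => B.subgroupOf H) '' part G A) (Y.subgroupOf H) →
            rankOnePartners (quadraticRootSubgroups G) X ⊆ rankOnePartners (quadraticRootSubgroups G) Y := by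
          rintro X hX Y hY he C ⟨hC, hXC⟩
          have hCp : C ∈ part G A := part_pair_mem hX hC hXC
          have hmem : C.subgroupOf H ∈
              rankOnePartners ((fun B : Subgroup GL' => B.subgroupOf H) '' part G A) (Y.subgroupOf H) :=
            he ▸ ⟨⟨C, hCp, rfl⟩, pair_restrict (hle X hX) (hle C hCp) hXC⟩
          exact ⟨hC, pair_of_restrict (hle Y hY) (hle C hCp) hmem.2⟩
        exact Set.Subset.antisymm (hsub _ hBn B hBP hkey) (hsub B hBP _ hBn hkey.symm)
      · rw [RootSub.conjBy_eq_self_iff.mpr (Subgroup.centralizer_le_normalizer _ (Subgroup.mem_centralizer_iff.mpr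
          fun y hy => (Subgroup.mem_centralizer_iff.mp (le_centralizer_of_not_mem h2 h3 hs hB hBP hy) _
            (hH ▸ n.2)).symm))]
    rw [Subgroup.mem_center_iff]
    intro x
    exact Subtype.ext (Subgroup.mem_centralizer_iff.mp (classKernel_centralizes h2 h3 hs hker) x
      (partGroup_le A (hH ▸ x.2)))
  exact Cfsg.Lib.Components.qs_congr' ((MulEquiv.subgroupCongr hp).trans Subgroup.topEquiv)
    (RootSub.isQuasisimple_commutator hp hc hN)

end Cfsg.Lib.QuadPair
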