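import Cfsg.Agent.RootSub.QuadPair.Classes

/-!
# A quadratic pair is a central product of quasisimple groups
-/

set_option autoImplicit false
set_option linter.unusedSectionVars false
set_option linter.unusedVariables false
set_option linter.unusedSimpArgs false
set_option linter.style.haveILetI false

open Cfsg
open scoped commutatorElement

namespace Cfsg.Lib.QuadPair

variable {k : Type*} [Field k] {M : Type*} [AddCommGroup M] [Module k M] [FiniteDimensional k M]

local notation "End'" => (M →ₗ[k] M)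
local notation "GL'" => LinearMap.GeneralLinearGroup k M

variable {G : Subgroup (LinearMap.GeneralLinearGroup k M)} {a u : M →ₗ[k] M}

theorem not_mem_part_of_ne {A B C : Subgroup GL'} (h : part G A ≠ part G B) (hC : C ∈ part G B) : C ∉ part G A :=
  fun hC' => h ((part_eq_of_mem hC').symm.trans (part_eq_of_mem hC))

theorem partGroup_le_centralizer (h2 : (2 : k) ≠ 0) (h3 : Nat.card k ≠ 3) (hs : Semi G) {A B : Subgroup GL'}
    (h : part G A ≠ part G B) : partGroup G B ≤ Subgroup.centralizer (partGroup G A : Set GL') := by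
  conv_lhs => rw [partGroup]
  exact iSup₂_le fun C hC => le_centralizer_of_not_mem h2 h3 hs hC.1 (not_mem_part_of_ne h hC)

theorem partGroup_comm (h2 : (2 : k) ≠ 0) (h3 : Nat.card k ≠ 3) (hs : Semi G) {A B : Subgroup GL'}
    (h : part G A ≠ part G B) : ⁅partGroup G A, partGroup G B⁆ = ⊥ := by
  rw [Subgroup.commutator_comm, Subgroup.commutator_eq_bot_iff_le_centralizer]
  exact partGroup_le_centralizer h2 h3 hs h

/-- There are only finitely many components. -/
theorem parts_finite (h2 : (2 : k) ≠ 0) (h3 : Nat.card k ≠ 3) (hs : Semi G) :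
    ((fun A => part G A) '' quadraticRootSubgroups G).Finite := by
  have hex : ∀ P : ↥((fun A => part G A) '' quadraticRootSubgroups G), ∃ x y : GL', x * y ≠ y * x ∧
      ∃ A ∈ quadraticRootSubgroups G, P.1 = part G A ∧ x ∈ partGroup G A ∧ y ∈ partGroup G A := by
    rintro ⟨_, A, hA, rfl⟩
    obtain ⟨B, hB, hAB⟩ := exists_partner_root h2 h3 hs hA
    obtain ⟨x, hx, hx1⟩ := RootSub.exists_ne_one hAB
    obtain ⟨y, hy, hxy⟩ := RootSub.not_commute hAB hx hx1
    exact ⟨x, y, hxy, A, hA, rfl, le_partGroup (self_mem_part hA) hx,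
      le_partGroup (part_pair_mem (self_mem_part hA) hB hAB) hy⟩
  choose x y hxy R hR hPR hx hy using hex
  have hli : LinearIndependent k fun P => (y P : End') - 1 := by
    rw [linearIndependent_iff']
    intro s c hsum Q hQ
    have h := congrArg (fun z => ((x Q : End') - 1) * z - z * ((x Q : End') - 1)) hsum
    simp only [mul_zero, zero_mul, sub_zero, Finset.mul_sum, Finset.sum_mul, ← Finset.sum_sub_distrib,
      mul_smul_comm, smul_mul_assoc, ← smul_sub] at h
    rw [Finset.sum_eq_single Q] at h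
    · exact (smul_eq_zero.mp h).resolve_right (sub_ne_zero.mpr fun e => hxy Q (unit_commute_iff.mpr e))
    · intro P _ hPQ
      have hne : part G (R P) ≠ part G (R Q) := fun e =>
        hPQ (Subtype.ext ((hPR P).trans (e.trans (hPR Q).symm)))
      have hc : (y P) * (x Q) = (x Q) * (y P) :=
        (Subgroup.mem_centralizer_iff.mp (partGroup_le_centralizer h2 h3 hs hne (hx Q)) _ (hy P))
      rw [unit_commute_iff.mp hc, sub_self, smul_zero]
    · exact fun h' => absurd hQ h'
  haveI := hli.finite_of_isNoetherian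
  exact Set.toFinite _

theorem rootGroup_le_split (h2 : (2 : k) ≠ 0) (h3 : Nat.card k ≠ 3) (hs : Semi G) (A : Subgroup GL') :
    rootGroup G ≤ partGroup G A ⊔ Subgroup.centralizer (partGroup G A : Set GL') := by
  rw [rootGroup]
  refine iSup₂_le fun B hB => ?_
  by_cases h : B ∈ part G A
  · exact (le_partGroup h).trans le_sup_left
  · exact (le_centralizer_of_not_mem h2 h3 hs hB h).trans le_sup_right

theorem quad_in_part (h2 : (2 : k) ≠ 0) (h3 : Nat.card k ≠ 3) (hs : Semi G)
    (hq : Subgroup.closure (quadraticElements G) = G) :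
    ∀ (u : End') (hu : Fam G u), u ≠ 0 → xu u hu.sq ∈ rootGroup G →
      ∃ A ∈ quadraticRootSubgroups G, xu u hu.sq ∈ partGroup G A := by
  have hgen := (dichotomy h2 h3 hs hq).1
  suffices key : ∀ (n : ℕ) (u : End') (hu : Fam G u), rk u ≤ n → u ≠ 0 → xu u hu.sq ∈ rootGroup G →
      ∃ A ∈ quadraticRootSubgroups G, xu u hu.sq ∈ partGroup G A from fun u hu => key _ u hu le_rfl
  intro n
  induction n using Nat.strong_induction_on with
  | _ n ih =>
    intro u hu hle hu0 hmem
    by_cases hall : ∀ a, MinEl G a → IsNilpotent (a * u)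
    · have hc := centralizes_of_sandwich h2 h3 hs hu fun a ha => sandwich h2 ha hu (hall a ha)
      exact absurd (no_mix hs sup_le_group (hgen.trans (sup_le_sup_left inf_le_right _)) hmem
        (by rw [xu_sub_one]; exact hu0) (commute_val hu.sq hc) (by rw [xu_sub_one]; exact hu.sq)) hu0
    · push Not at hall
      obtain ⟨a, ha, hn⟩ := hall
      obtain ⟨w, hw, hF, hw1, hw2, hlt, -⟩ := split_step h2 h3 ha hu hn
      have e : xu u hu.sq = xu w hw.sq * xu (u - w) hF.sq := Units.ext (by
        rw [Units.val_mul, xu_val, xu_val, xu_val,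
          show (1 + w) * (1 + (u - w)) = 1 + u + w * (u - w) by noncomm_ring, hw1, add_zero])
      have hA := rootOf_mem hw
      have hwA : xu w hw.sq ∈ partGroup G (rootOf hw) :=
        le_partGroup (self_mem_part hA) (xu_mem_rootOf hw (Same.refl hw))
      refine ⟨rootOf hw, hA, ?_⟩
      rcases eq_or_ne (u - w) 0 with h0 | h0
      · rw [e, show xu (u - w) hF.sq = 1 from Units.ext (by rw [xu_val, h0, add_zero, Units.val_one]), mul_one]
        exact hwA
      have hmem' : xu (u - w) hF.sq ∈ rootGroup G := by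
        rw [show xu (u - w) hF.sq = (xu w hw.sq)⁻¹ * xu u hu.sq by rw [e, inv_mul_cancel_left]]
        exact mul_mem (inv_mem (rootOf_le_rootGroup hw (xu_mem_rootOf hw (Same.refl hw)))) hmem
      obtain ⟨B, hB, hBm⟩ := ih (rk (u - w)) (lt_of_lt_of_le hlt hle) _ hF le_rfl h0 hmem'
      by_cases hsame : part G (rootOf hw) = part G B
      · rw [e]
        refine mul_mem hwA ?_
        rw [partGroup, hsame]
        exact hBm
      · refine absurd (no_mix hs ((partGroup_le _).trans sup_le_group) ?_ hwA (by rw [xu_sub_one]; exact hw.ne)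
          (commute_val hF.sq (partGroup_le_centralizer h2 h3 hs hsame hBm)) (by rw [xu_sub_one]; exact hw2)) h0
        exact hgen.trans (sup_le (rootGroup_le_split h2 h3 hs _) (inf_le_right.trans
          ((Subgroup.centralizer_le (SetLike.coe_subset_coe.mpr (partGroup_le _))).trans le_sup_right)))

theorem closure_quad_part (A : Subgroup GL') :
    Subgroup.closure (quadraticElements G ∩ (partGroup G A : Set GL')) = partGroup G A := by
  refine le_antisymm ((Subgroup.closure_le _).mpr Set.inter_subset_right) ?_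
  conv_lhs => rw [partGroup]
  refine iSup₂_le fun B hB => ?_
  have hle := le_partGroup hB
  obtain ⟨b, hb, rfl⟩ := exists_root hB.1
  intro g hg
  rcases eq_or_ne ((g : End') - 1) 0 with h | h
  · rw [show g = 1 from Units.ext (sub_eq_zero.mp h)]
    exact one_mem _
  · exact Subgroup.subset_closure
      ⟨mem_quadraticElements.mpr ⟨((mem_rootOf hb).mp hg).fam, h⟩, hle hg⟩

/-- Subspaces invariant under two subgroups are invariant under their join. -/
theorem invariant_sup {H K : Subgroup GL'} {W : Submodule k M} (hH : ∀ g ∈ H, ∀ w ∈ W, (g : End') w ∈ W)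
    (hK : ∀ g ∈ K, ∀ w ∈ W, (g : End') w ∈ W) : ∀ g ∈ H ⊔ K, ∀ w ∈ W, (g : End') w ∈ W := by
  let N : Subgroup GL' :=
    { carrier := {x | (∀ w ∈ W, (x : End') w ∈ W) ∧ ∀ w ∈ W, (↑x⁻¹ : End') w ∈ W}
      one_mem' := by simp
      inv_mem' := fun {x} hx => ⟨hx.2, by rw [inv_inv]; exact hx.1⟩
      mul_mem' := fun {x y} hx hy => ⟨fun w hw => by rw [Units.val_mul]; exact hx.1 _ (hy.1 w hw), fun w hw => by
        rw [_root_.mul_inv_rev, Units.val_mul]; exact hy.2 _ (hx.2 w hw)⟩ }
  have hle : H ⊔ K ≤ N := sup_le (fun g hg => ⟨hH g hg, hH _ (inv_mem hg)⟩)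
    fun g hg => ⟨hK g hg, hK _ (inv_mem hg)⟩
  exact fun g hg => (hle hg).1

theorem exists_minEl {σ : GL'} (hσ : σ ∈ quadraticElements G) : ∃ a, MinEl G a := by
  classical
  have hex : ∃ n, ∃ u : End', Fam G u ∧ u ≠ 0 ∧ rk u = n :=
    ⟨_, _, (mem_quadraticElements.mp hσ).1, (mem_quadraticElements.mp hσ).2, rfl⟩
  obtain ⟨u, hu, hu0, hr⟩ := Nat.find_spec hex
  exact ⟨u, hu, hu0, fun z hz hz0 => hr.trans_le (Nat.find_min' hex ⟨z, hz, hz0, rfl⟩)⟩

/-- The quadratic elements centralising the group of the root subgroups. -/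
def restGroup (G : Subgroup (LinearMap.GeneralLinearGroup k M)) : Subgroup (LinearMap.GeneralLinearGroup k M) :=
  Subgroup.closure {σ | σ ∈ quadraticElements G ∧ σ ∈ Subgroup.centralizer (rootGroup G : Set GL')}

theorem restGroup_le : restGroup G ≤ G := (Subgroup.closure_le _).mpr fun σ hσ => hσ.1.1

theorem restGroup_centralizes : restGroup G ≤ Subgroup.centralizer (rootGroup G : Set GL') :=
  (Subgroup.closure_le _).mpr fun σ hσ => hσ.2

theorem restGroup_quad {σ : GL'} (hσ : σ ∈ quadraticElements G)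
    (hc : σ ∈ Subgroup.centralizer (rootGroup G : Set GL')) : σ ∈ quadraticElements (restGroup G) := by
  obtain ⟨hF, hne⟩ := mem_quadraticElements.mp hσ
  refine mem_quadraticElements.mpr ⟨⟨hF.sq, fun c => ⟨xu (c • ((σ : End') - 1)) (smul_sq_zero c hF.sq), ?_, rfl⟩⟩, hne⟩
  rcases eq_or_ne c 0 with h0 | h0
  · rw [show xu (c • ((σ : End') - 1)) (smul_sq_zero c hF.sq) = 1 from
      Units.ext (by rw [xu_val, h0, zero_smul, add_zero, Units.val_one])]
    exact one_mem _
  · refine Subgroup.subset_closure ⟨mem_quadraticElements.mpr ?_, Subgroup.mem_centralizer_iff.mpr fun h hh => ?_⟩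
    · rw [xu_sub_one]
      exact ⟨hF.smul c, smul_ne_zero h0 hne⟩
    · rw [unit_commute_iff, xu_sub_one, mul_smul_comm, smul_mul_assoc,
        unit_commute_iff.mp (Subgroup.mem_centralizer_iff.mp hc h hh)]

theorem restGroup_gen : Subgroup.closure (quadraticElements (restGroup G)) = restGroup G := by
  refine le_antisymm ((Subgroup.closure_le _).mpr fun σ hσ => hσ.1) ?_
  exact Subgroup.closure_mono fun σ hσ => restGroup_quad hσ.1 hσ.2

theorem quad_mono {H K : Subgroup GL'} (h : H ≤ K) : quadraticElements H ⊆ quadraticElements K :=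
  fun σ hσ => ⟨h hσ.1, hσ.2.1, fun τ hτ => h (hσ.2.2 hτ)⟩

theorem le_sup_restGroup (h2 : (2 : k) ≠ 0) (h3 : Nat.card k ≠ 3) (hs : Semi G)
    (hq : Subgroup.closure (quadraticElements G) = G) : G ≤ rootGroup G ⊔ restGroup G := by
  conv_lhs => rw [← hq]
  rw [Subgroup.closure_le]
  intro σ hσ
  obtain ⟨hF, -⟩ := mem_quadraticElements.mp hσ
  have h := (dichotomy h2 h3 hs hq).2 _ hF
  rw [show xu ((σ : End') - 1) hF.sq = σ from Units.ext (by rw [xu_val, add_sub_cancel])] at h
  rcases h with h | h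
  · exact Subgroup.mem_sup_left h
  · exact Subgroup.mem_sup_right (Subgroup.subset_closure ⟨hσ, h⟩)

theorem restGroup_semi (h2 : (2 : k) ≠ 0) (h3 : Nat.card k ≠ 3) (hs : Semi G)
    (hq : Subgroup.closure (quadraticElements G) = G) : Semi (restGroup G) := by
  refine ⟨hs.1, fun W h1 h1' => hs.2 W ?_ fun g hg => h1' g
    (Subgroup.centralizer_le (SetLike.coe_subset_coe.mpr restGroup_le) hg)⟩
  have hr : ∀ g ∈ rootGroup G, ∀ w ∈ W, (g : End') w ∈ W := fun g hg =>
    h1' g (Subgroup.le_centralizer_iff.mp restGroup_centralizes hg)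
  exact fun g hg => invariant_sup hr h1 g (le_sup_restGroup h2 h3 hs hq hg)

theorem restGroup_lt (h2 : (2 : k) ≠ 0) (h3 : Nat.card k ≠ 3) (hs : Semi G) (ha : MinEl G a) :
    Module.finrank k (RootSub.dSpan (restGroup G)) < Module.finrank k (RootSub.dSpan G) := by
  refine Submodule.finrank_lt_finrank_of_lt (lt_of_le_not_ge (RootSub.dSpan_mono restGroup_le) fun hge => ?_)
  obtain ⟨g, hg, hn⟩ := exists_conj_not_nilp h2 h3 hs ha
  have hb := ha.conj hg
  refine hn (commute_nilpotent ha.sq ?_)
  have hmem : a ∈ RootSub.dSpan (restGroup G) := by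
    refine hge ?_
    have := RootSub.sub_one_mem_dSpan (H := G) ha.toFam.xu_mem_one
    rwa [xu_sub_one] at this
  clear hn hge
  generalize (g : End') * a * (↑g⁻¹ : End') = b at hb ⊢
  suffices hall : ∀ e ∈ RootSub.dSpan (restGroup G), e * b = b * e from hall a hmem
  intro e he
  induction he using Submodule.span_induction with
  | mem x hx =>
    obtain ⟨h, hh, rfl⟩ := hx
    have := unit_commute_iff.mp (Subgroup.mem_centralizer_iff.mp (restGroup_centralizes hh) (xu b hb.sq)
      (rootOf_le_rootGroup hb (xu_mem_rootOf hb (Same.refl hb))))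
    rw [xu_sub_one] at this
    exact this.symm
  | zero => rw [zero_mul, mul_zero]
  | add x y _ _ hx hy => rw [add_mul, mul_add, hx, hy]
  | smul c x _ hx => rw [smul_mul_assoc, mul_smul_comm, hx]

/-- The decomposition into commuting quasisimple groups. -/
theorem central_product (h2 : (2 : k) ≠ 0) (h3 : Nat.card k ≠ 3) : ∀ (n : ℕ) (G : Subgroup GL'), Semi G →
    Subgroup.closure (quadraticElements G) = G → Module.finrank k (RootSub.dSpan G) ≤ n →
    ∃ 𝒢 : Set (Subgroup GL'), 𝒢.Finite ∧
      (∀ H ∈ 𝒢, H ≤ G ∧ IsQuasisimple ↥H ∧ Subgroup.closure (quadraticElements G ∩ (H : Set GL')) = H) ∧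
      (∀ H ∈ 𝒢, ∀ H' ∈ 𝒢, H ≠ H' → ⁅H, H'⁆ = ⊥) ∧ ∀ σ ∈ quadraticElements G, ∃ H ∈ 𝒢, σ ∈ H := by
  intro n
  induction n using Nat.strong_induction_on with
  | _ n ih =>
    intro G hs hq hle
    rcases (quadraticElements G).eq_empty_or_nonempty with hempty | ⟨σ₀, hσ₀⟩
    · exact ⟨∅, Set.finite_empty, by simp, by simp, by simp [hempty]⟩
    obtain ⟨a, ha⟩ := exists_minEl hσ₀
    obtain ⟨𝒢₁, hfin₁, hmem₁, hcomm₁, hcov₁⟩ := ih _ (lt_of_lt_of_le (restGroup_lt h2 h3 hs ha) hle)
      (restGroup G) (restGroup_semi h2 h3 hs hq) restGroup_gen le_rfl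
    refine ⟨(fun A => partGroup G A) '' quadraticRootSubgroups G ∪ 𝒢₁, Set.Finite.union ?_ hfin₁, ?_, ?_, ?_⟩
    · refine ((parts_finite h2 h3 hs).image fun P => ⨆ B ∈ P, B).subset ?_
      rintro _ ⟨A, hA, rfl⟩
      exact ⟨part G A, ⟨A, hA, rfl⟩, rfl⟩
    · rintro H (⟨A, hA, rfl⟩ | hH)
      · exact ⟨(partGroup_le A).trans sup_le_group, part_quasisimple h2 h3 hs hq hA, closure_quad_part A⟩
      · obtain ⟨h1, hqs, hc⟩ := hmem₁ H hH
        refine ⟨h1.trans restGroup_le, hqs, le_antisymm ((Subgroup.closure_le _).mpr Set.inter_subset_right) ?_⟩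
        exact (le_of_eq hc.symm).trans (Subgroup.closure_mono (Set.inter_subset_inter_left _ (quad_mono restGroup_le)))
    · have hx : ∀ A H, H ∈ 𝒢₁ → ⁅H, partGroup G A⁆ = ⊥ := fun A H hH =>
        Subgroup.commutator_eq_bot_iff_le_centralizer.mpr (((hmem₁ H hH).1.trans restGroup_centralizes).trans
          (Subgroup.centralizer_le (SetLike.coe_subset_coe.mpr (partGroup_le A))))
      rintro H (⟨A, hA, rfl⟩ | hH) H' (⟨B, hB, rfl⟩ | hH') hne
      · exact partGroup_comm h2 h3 hs fun e => hne (by simp only [partGroup, e])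
      · rw [Subgroup.commutator_comm]; exact hx A H' hH'
      · exact hx B H hH
      · exact hcomm₁ H hH H' hH' hne
    · intro σ hσ
      obtain ⟨hF, hne⟩ := mem_quadraticElements.mp hσ
      have e : xu ((σ : End') - 1) hF.sq = σ := Units.ext (by rw [xu_val, add_sub_cancel])
      rcases (dichotomy h2 h3 hs hq).2 _ hF with h | h
      · obtain ⟨A, hA, hm⟩ := quad_in_part h2 h3 hs hq _ hF hne h
        exact ⟨_, Or.inl ⟨A, hA, rfl⟩, e ▸ hm⟩
      · obtain ⟨H, hH, hm⟩ := hcov₁ σ (restGroup_quad hσ (e ▸ h))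
        exact ⟨H, Or.inr hH, hm⟩

end Cfsg.Lib.QuadPair
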