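import Cfsg.Agent.RootSub.QuadPair.Structure
import Cfsg.Agent.RootSub.Unipotent

/-!
# The subgroups attached to quadratic elements of smallest rank
-/

set_option autoImplicit false
set_option linter.unusedSectionVars false
set_option linter.unusedVariables false
set_option linter.unusedSimpArgs false
set_option linter.style.haveILetI false

open Cfsg
open scoped commutatorElement Pointwise

namespace Cfsg.Lib.QuadPair

variable {k : Type*} [Field k] {M : Type*} [AddCommGroup M] [Module k M]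

local notation "End'" => (M →ₗ[k] M)
local notation "GL'" => LinearMap.GeneralLinearGroup k M

variable {G : Subgroup (LinearMap.GeneralLinearGroup k M)} {a b x x' y y' : M →ₗ[k] M}

theorem char_two_ne (h : ringChar k ≠ 2) : (2 : k) ≠ 0 := Ring.two_ne_zero h

/-! ### The dictionary -/

theorem mem_quadraticElements {σ : GL'} :
    σ ∈ quadraticElements G ↔ Fam G ((σ : End') - 1) ∧ (σ : End') - 1 ≠ 0 := by
  constructor
  · rintro ⟨hσ, ⟨hsq, hne⟩, hfam⟩
    exact ⟨⟨hsq, fun c => ⟨xu (c • ((σ : End') - 1)) (smul_sq_zero c hsq), hfam ⟨c, rfl⟩, rfl⟩⟩, hne⟩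
  · rintro ⟨hF, hne⟩
    refine ⟨?_, ⟨hF.sq, hne⟩, ?_⟩
    · obtain ⟨g, hg, e⟩ := hF.mem 1
      rwa [show σ = g from Units.ext (by rw [e, one_smul, add_sub_cancel])]
    · rintro τ ⟨c, hτ⟩
      obtain ⟨g, hg, e⟩ := hF.mem c
      rw [show τ = g from Units.ext (by rw [e, hτ])]
      exact hg

theorem mem_minimal {σ : GL'} : σ ∈ minimalQuadraticElements G ↔ MinEl G ((σ : End') - 1) := by
  constructor
  · rintro ⟨hσ, hmin⟩
    rw [mem_quadraticElements] at hσ
    refine ⟨hσ.1, hσ.2, fun z hz hz0 => ?_⟩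
    have h := hmin (xu z hz.sq) (mem_quadraticElements.mpr
      ⟨by rw [xu_val, add_sub_cancel_left]; exact hz, by rwa [xu_val, add_sub_cancel_left]⟩)
    rwa [commutatorRank, commutatorRank, xu_val, add_sub_cancel_left] at h
  · intro h
    refine ⟨mem_quadraticElements.mpr ⟨h.toFam, h.ne⟩, fun τ hτ => ?_⟩
    rw [mem_quadraticElements] at hτ
    exact h.min _ hτ.1 hτ.2

theorem Fam.range_le_ker (ha : Fam G a) : LinearMap.range a ≤ LinearMap.ker a := by
  rintro _ ⟨v, rfl⟩
  rw [LinearMap.mem_ker, ← Module.End.mul_apply, ha.sq]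
  rfl

theorem mul_eq_zero_of_range (h : LinearMap.range b ≤ LinearMap.ker a) : a * b = 0 :=
  LinearMap.ext fun v => LinearMap.mem_ker.mp (h ⟨v, rfl⟩)

theorem range_le_of_mul_eq_zero (h : a * b = 0) : LinearMap.range b ≤ LinearMap.ker a := by
  rintro _ ⟨v, rfl⟩
  rw [LinearMap.mem_ker, ← Module.End.mul_apply, h]
  rfl

/-- Zero, or a member of smallest rank with the kernel and the range of `a`. -/
def Same (G : Subgroup (LinearMap.GeneralLinearGroup k M)) (a x : M →ₗ[k] M) : Prop :=
  x = 0 ∨ (MinEl G x ∧ LinearMap.ker x = LinearMap.ker a ∧ LinearMap.range x = LinearMap.range a)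

theorem Same.zero : Same G a 0 := Or.inl rfl

theorem Same.refl (ha : MinEl G a) : Same G a a := Or.inr ⟨ha, rfl, rfl⟩

theorem Same.fam (hx : Same G a x) : Fam G x := by
  rcases hx with rfl | ⟨h, -, -⟩
  · exact ⟨mul_zero _, fun c => ⟨1, one_mem _, by simp⟩⟩
  · exact h.toFam

theorem Same.data (hx : Same G a x) (h : x ≠ 0) :
    MinEl G x ∧ LinearMap.ker x = LinearMap.ker a ∧ LinearMap.range x = LinearMap.range a := hx.resolve_left h

theorem Same.range_le (hx : Same G a x) : LinearMap.range x ≤ LinearMap.range a := by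
  rcases hx with rfl | ⟨-, -, h⟩
  · simp
  · exact h.le

theorem Same.le_ker (hx : Same G a x) : LinearMap.ker a ≤ LinearMap.ker x := by
  rcases hx with rfl | ⟨-, h, -⟩
  · simp
  · exact h.ge

theorem Same.mul_eq_zero (ha : MinEl G a) (hx : Same G a x) (hx' : Same G a x') : x * x' = 0 :=
  mul_eq_zero_of_range (hx'.range_le.trans (ha.toFam.range_le_ker.trans hx.le_ker))

theorem Same.smul (hx : Same G a x) (c : k) : Same G a (c • x) := by
  rcases eq_or_ne c 0 with rfl | hc
  · exact Or.inl (zero_smul k x)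
  rcases hx with rfl | ⟨h, hk, hr⟩
  · exact Or.inl (smul_zero c)
  refine Or.inr ⟨⟨h.toFam.smul c, smul_ne_zero hc h.ne, fun z hz hz0 => ?_⟩, by rw [LinearMap.ker_smul _ _ hc, hk],
    by rw [LinearMap.range_smul _ _ hc, hr]⟩
  rw [rk, LinearMap.range_smul _ _ hc]
  exact h.min z hz hz0

theorem Same.neg (hx : Same G a x) : Same G a (-x) := by
  have := hx.smul (-1)
  rwa [neg_one_smul] at this

theorem Same.trans {c : M →ₗ[k] M} (hk : LinearMap.ker a = LinearMap.ker c) (hr : LinearMap.range a = LinearMap.range c)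
    (hx : Same G a x) : Same G c x := by
  rcases hx with rfl | ⟨h, h1, h2⟩
  · exact Same.zero
  · exact Or.inr ⟨h, h1.trans hk, h2.trans hr⟩

theorem Same.conj (hx : Same G a x) {g : GL'} (hg : g ∈ G) :
    Same G ((g : End') * a * (↑g⁻¹ : End')) ((g : End') * x * (↑g⁻¹ : End')) := by
  rcases hx with rfl | ⟨h, hk, hr⟩
  · exact Or.inl (by simp)
  have hsurj : LinearMap.range (↑g⁻¹ : End') = ⊤ := LinearMap.range_eq_top.mpr fun v => ⟨(g : End') v, by
    rw [← Module.End.mul_apply, Units.inv_mul]; rfl⟩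
  have hker : LinearMap.ker (g : End') = ⊥ := LinearMap.ker_eq_bot.mpr fun u v e => by
    have := congrArg (↑g⁻¹ : End') e
    rwa [← Module.End.mul_apply, ← Module.End.mul_apply, Units.inv_mul] at this
  refine Or.inr ⟨h.conj hg, ?_, ?_⟩
  · rw [Module.End.mul_eq_comp, Module.End.mul_eq_comp, Module.End.mul_eq_comp, Module.End.mul_eq_comp,
      LinearMap.ker_comp, LinearMap.ker_comp, LinearMap.ker_comp, LinearMap.ker_comp, hker]
    rw [show Submodule.comap x ⊥ = LinearMap.ker x from rfl, show Submodule.comap a ⊥ = LinearMap.ker a from rfl, hk]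
  · rw [Module.End.mul_eq_comp, Module.End.mul_eq_comp, Module.End.mul_eq_comp, Module.End.mul_eq_comp,
      LinearMap.range_comp_of_range_eq_top _ hsurj, LinearMap.range_comp_of_range_eq_top _ hsurj,
      LinearMap.range_comp, LinearMap.range_comp, hr]

variable [FiniteDimensional k M]

theorem Same.add (ha : MinEl G a) (hx : Same G a x) (hy : Same G a y) : Same G a (x + y) := by
  rcases eq_or_ne (x + y) 0 with h0 | h0
  · exact Or.inl h0
  have hF : Fam G (x + y) := hx.fam.add hy.fam (hx.mul_eq_zero ha hy) (hy.mul_eq_zero ha hx)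
  have hr : LinearMap.range (x + y) ≤ LinearMap.range a := by
    rintro _ ⟨v, rfl⟩
    exact add_mem (hx.range_le ⟨v, rfl⟩) (hy.range_le ⟨v, rfl⟩)
  have hk : LinearMap.ker a ≤ LinearMap.ker (x + y) := fun v hv => by
    rw [LinearMap.mem_ker, LinearMap.add_apply, LinearMap.mem_ker.mp (hx.le_ker hv),
      LinearMap.mem_ker.mp (hy.le_ker hv), add_zero]
  have hre := Submodule.eq_of_le_of_finrank_le hr (ha.min _ hF h0)
  refine Or.inr ⟨⟨hF, h0, fun z hz hz0 => ?_⟩, (Submodule.eq_of_le_of_finrank_le hk ?_).symm, hre⟩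
  · rw [rk, hre]; exact ha.min z hz hz0
  · have e1 := LinearMap.finrank_range_add_finrank_ker (x + y)
    have e2 := LinearMap.finrank_range_add_finrank_ker a
    rw [hre] at e1
    omega

theorem Same.sub (ha : MinEl G a) (hx : Same G a x) (hy : Same G a y) : Same G a (x - y) := by
  rw [sub_eq_add_neg]; exact hx.add ha hy.neg

theorem inv_sub_one_of_sq {g : GL'} (h : ((g : End') - 1) * ((g : End') - 1) = 0) :
    (↑g⁻¹ : End') - 1 = -((g : End') - 1) := by
  have e : (g : End') * (1 - ((g : End') - 1)) = 1 := by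
    rw [show (g : End') * (1 - ((g : End') - 1)) = 1 - ((g : End') - 1) * ((g : End') - 1) by noncomm_ring, h,
      sub_zero]
  rw [Units.inv_eq_of_mul_eq_one_right e]
  abel

/-- The group of all `1 + x` with `x` of the same kind as `a`. -/
def sameGroup (ha : MinEl G a) : Subgroup GL' where
  carrier := {g | Same G a ((g : End') - 1)}
  one_mem' := Or.inl (by simp)
  mul_mem' := fun {g h} hg hh => by
    show Same G a (((g * h : GL') : End') - 1)
    rw [Units.val_mul, show (g : End') * h - 1 = ((g : End') - 1) * ((h : End') - 1) + (((g : End') - 1) + ((h : End') - 1))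
      by noncomm_ring, hg.mul_eq_zero ha hh, zero_add]
    exact hg.add ha hh
  inv_mem' := fun {g} hg => by
    show Same G a ((↑g⁻¹ : End') - 1)
    rw [inv_sub_one_of_sq (hg.mul_eq_zero ha hg)]
    exact hg.neg

/-- The root subgroup of `a`. -/
def rootOf (ha : MinEl G a) : Subgroup GL' := sameActionSubgroup G (xu a ha.sq)

theorem xu_sub_one (ha : a * a = 0) : ((xu a ha : GL') : End') - 1 = a := by rw [xu_val, add_sub_cancel_left]

theorem rootOf_eq_same (ha : MinEl G a) : rootOf ha = sameGroup ha := by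
  refine le_antisymm (by
    rw [rootOf, sameActionSubgroup, Subgroup.closure_le]
    rintro τ ⟨hτ, hk, hr⟩
    rw [xu_sub_one] at hk hr
    exact Or.inr ⟨mem_minimal.mp hτ, hk, hr⟩) ?_
  intro g hg
  rcases (hg : Same G a _) with h0 | ⟨h, hk, hr⟩
  · rw [show g = 1 from Units.ext (sub_eq_zero.mp h0)]; exact one_mem _
  · exact Subgroup.subset_closure ⟨mem_minimal.mpr h, by rw [xu_sub_one]; exact hk, by rw [xu_sub_one]; exact hr⟩

theorem mem_rootOf (ha : MinEl G a) {g : GL'} : g ∈ rootOf ha ↔ Same G a ((g : End') - 1) := by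
  rw [rootOf_eq_same]; rfl

theorem xu_mem_rootOf (ha : MinEl G a) (hx : Same G a x) : xu x hx.fam.sq ∈ rootOf ha := by
  rw [mem_rootOf, xu_sub_one]; exact hx

theorem rootOf_congr (ha : MinEl G a) (hb : MinEl G b) (hk : LinearMap.ker a = LinearMap.ker b)
    (hr : LinearMap.range a = LinearMap.range b) : rootOf ha = rootOf hb := by
  ext g
  rw [mem_rootOf, mem_rootOf]
  exact ⟨Same.trans hk hr, Same.trans hk.symm hr.symm⟩

theorem rootOf_mem (ha : MinEl G a) : rootOf ha ∈ quadraticRootSubgroups G :=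
  ⟨xu a ha.sq, mem_minimal.mpr (by rw [xu_sub_one]; exact ha), rfl⟩

theorem sameAction_eq {σ : GL'} (hσ : MinEl G ((σ : End') - 1)) : sameActionSubgroup G σ = rootOf hσ := by
  rw [rootOf, sameActionSubgroup, sameActionSubgroup, sameActionClass, sameActionClass, xu_sub_one]

theorem exists_root {A : Subgroup GL'} (hA : A ∈ quadraticRootSubgroups G) :
    ∃ (a : End') (ha : MinEl G a), A = rootOf ha := by
  obtain ⟨σ, hσ, rfl⟩ := hA
  exact ⟨_, mem_minimal.mp hσ, sameAction_eq _⟩

theorem rootOf_le (ha : MinEl G a) : rootOf ha ≤ G := fun g hg => by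
  obtain ⟨h, hh, e⟩ := ((mem_rootOf ha).mp hg).fam.mem 1
  rwa [show g = h from Units.ext (by rw [e, one_smul, add_sub_cancel])]

theorem rootOf_ne_bot (ha : MinEl G a) : rootOf ha ≠ ⊥ := fun h => ha.ne (by
  have := xu_mem_rootOf ha (Same.refl ha)
  rw [h, Subgroup.mem_bot] at this
  have e := congrArg (fun u : GL' => (u : End') - 1) this
  simpa [xu_val] using e)

theorem rootOf_conj (ha : MinEl G a) {g : GL'} (hg : g ∈ G) : conjBy (rootOf ha) g = rootOf (ha.conj hg) := by
  ext h
  rw [RootSub.mem_conjBy, mem_rootOf, mem_rootOf, Units.val_mul, Units.val_mul]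
  have e : ∀ u : End', (↑g⁻¹ : End') * u * g - 1 = (↑g⁻¹ : End') * (u - 1) * g := fun u => by
    rw [mul_sub, sub_mul, mul_one, Units.inv_mul]
  rw [e]
  constructor
  · intro hs
    have := hs.conj hg
    rwa [show (g : End') * ((↑g⁻¹ : End') * ((h : End') - 1) * g) * ↑g⁻¹ = (h : End') - 1 by
      simp only [← mul_assoc, Units.mul_inv, one_mul]; rw [mul_assoc, Units.mul_inv, mul_one]] at this
  · intro hs
    have := hs.conj (inv_mem hg)
    rw [inv_inv] at this
    rwa [show (↑g⁻¹ : End') * ((g : End') * a * ↑g⁻¹) * g = a by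
      simp only [← mul_assoc, Units.inv_mul, one_mul]; rw [mul_assoc, Units.inv_mul, mul_one]] at this

theorem rootOf_abelian (ha : MinEl G a) {g h : GL'} (hg : g ∈ rootOf ha) (hh : h ∈ rootOf ha) : g * h = h * g := by
  rw [mem_rootOf] at hg hh
  ext1
  rw [Units.val_mul, Units.val_mul,
    show (g : End') * h = ((g : End') - 1) * ((h : End') - 1) + (g : End') + h - 1 by noncomm_ring,
    show (h : End') * g = ((h : End') - 1) * ((g : End') - 1) + (h : End') + g - 1 by noncomm_ring,
    hg.mul_eq_zero ha hh, hh.mul_eq_zero ha hg]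
  abel

/-! ### Pairs -/

theorem nilp_congr (h2 : (2 : k) ≠ 0) (h3 : Nat.card k ≠ 3) (ha : MinEl G a) (hb : MinEl G b)
    (hn : IsNilpotent (a * b)) (hx : Same G a x) (hy : Same G b y) : IsNilpotent (x * y) := by
  rcases eq_or_ne x 0 with rfl | hx0
  · rw [zero_mul]; exact IsNilpotent.zero
  rcases eq_or_ne y 0 with rfl | hy0
  · rw [mul_zero]; exact IsNilpotent.zero
  by_contra hxy
  obtain ⟨mx, kx, rx⟩ := hx.data hx0
  obtain ⟨my, ky, ry⟩ := hy.data hy0
  obtain ⟨Q, c, -, -, -, D, -, -, -, hd1, hd2⟩ := oppPair_data h2 h3 mx my hxy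
  rw [rx, ky] at hd1
  rw [ry, kx] at hd2
  have h1 := (nilpotent_pair h2 ha hb hn).1
  have hba : b * a = 0 := by
    refine LinearMap.ext fun v => ?_
    have : (b * a) v ∈ LinearMap.range b ⊓ LinearMap.ker a :=
      ⟨⟨a v, rfl⟩, by rw [SetLike.mem_coe, LinearMap.mem_ker, ← Module.End.mul_apply, ← mul_assoc, h1]; rfl⟩
    rwa [hd2.eq_bot, Submodule.mem_bot] at this
  refine ha.ne (LinearMap.range_eq_bot.mp ?_)
  rw [← hd1.eq_bot]
  exact (inf_eq_left.mpr (range_le_of_mul_eq_zero hba)).symm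

theorem triple_zero (h2 : (2 : k) ≠ 0) (h3 : Nat.card k ≠ 3) (ha : MinEl G a) (hb : MinEl G b)
    (hn : IsNilpotent (a * b)) (hx : Same G a x) (hx' : Same G a x') (hy : Same G b y) : x * y * x' = 0 := by
  rw [mul_assoc]
  by_cases hc : x' * y = y * x'
  · rw [← hc, ← mul_assoc, hx.mul_eq_zero ha hx', zero_mul]
  have hx0 : x' ≠ 0 := by rintro rfl; simp at hc
  have hy0 : y ≠ 0 := by rintro rfl; simp at hc
  obtain ⟨mx, kx, -⟩ := hx'.data hx0
  have hP := commPair h2 mx (hy.data hy0).1 (nilp_congr h2 h3 ha hb hn hx' hy) hc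
  refine mul_eq_zero_of_range ?_
  rw [hP.rangeBA]
  exact inf_le_right.trans (kx.le.trans hx.le_ker)

theorem nilp_swap {E : Type*} [Ring E] {p q : E} (h : IsNilpotent (p * q)) : IsNilpotent (q * p) := by
  obtain ⟨n, hn⟩ := h
  refine ⟨n + 1, ?_⟩
  have : ∀ m, (q * p) ^ (m + 1) = q * (p * q) ^ m * p := by
    intro m
    induction m with
    | zero => simp
    | succ m ih => rw [pow_succ, ih, pow_succ]; simp only [mul_assoc]
  rw [this, hn, mul_zero, zero_mul]

theorem commute_all (h2 : (2 : k) ≠ 0) (h3 : Nat.card k ≠ 3) (ha : MinEl G a) (hb : MinEl G b)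
    (h : a * b = b * a) (hx : Same G a x) (hy : Same G b y) : x * y = y * x := by
  by_contra hc
  have hn : IsNilpotent (a * b) := commute_nilpotent ha.sq h
  have hx0 : x ≠ 0 := by rintro rfl; simp at hc
  have hy0 : y ≠ 0 := by rintro rfl; simp at hc
  obtain ⟨mx, kx, rx⟩ := hx.data hx0
  obtain ⟨my, ky, ry⟩ := hy.data hy0
  have hP := commPair h2 mx my (nilp_congr h2 h3 ha hb hn hx hy) hc
  obtain ⟨h1, h1'⟩ := nilpotent_pair h2 ha hb hn
  have hab : a * b = 0 := by
    refine LinearMap.range_eq_bot.mp ?_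
    rw [eq_bot_iff, ← disjoint_iff.mp hP.disj, hP.rangeAB, hP.rangeBA, rx, ry, kx, ky]
    refine le_inf (le_inf (range_mul_le a b) ?_) (le_inf ?_ ?_)
    · exact range_le_of_mul_eq_zero (by rw [← mul_assoc, h1'])
    · rw [h]; exact range_mul_le b a
    · exact range_le_of_mul_eq_zero (by rw [← mul_assoc, ha.sq, zero_mul])
  refine hc ?_
  rw [mul_eq_zero_of_range (hy.range_le.trans ((range_le_of_mul_eq_zero hab).trans hx.le_ker)),
    mul_eq_zero_of_range (hx.range_le.trans ((range_le_of_mul_eq_zero (h.symm.trans hab)).trans hy.le_ker))]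

theorem unit_commute_iff {g h : GL'} :
    g * h = h * g ↔ ((g : End') - 1) * ((h : End') - 1) = ((h : End') - 1) * ((g : End') - 1) := by
  rw [Units.ext_iff, Units.val_mul, Units.val_mul,
    show ((g : End') - 1) * ((h : End') - 1) = (g : End') * h - g - h + 1 by noncomm_ring,
    show ((h : End') - 1) * ((g : End') - 1) = (h : End') * g - g - h + 1 by noncomm_ring]
  constructor
  · intro e; rw [e]
  · intro e; simpa using e

theorem root_comm_bot (ha : MinEl G a) (hb : MinEl G b) :
    ⁅rootOf ha, rootOf hb⁆ = ⊥ ↔ ∀ x y, Same G a x → Same G b y → x * y = y * x := by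
  rw [Subgroup.commutator_eq_bot_iff_le_centralizer]
  constructor
  · intro h x y hx hy
    have := unit_commute_iff.mp (Subgroup.mem_centralizer_iff.mp (h (xu_mem_rootOf ha hx)) _ (xu_mem_rootOf hb hy))
    rw [xu_sub_one, xu_sub_one] at this
    exact this.symm
  · intro h g hg
    rw [Subgroup.mem_centralizer_iff]
    intro e he
    exact unit_commute_iff.mpr (h _ _ ((mem_rootOf ha).mp hg) ((mem_rootOf hb).mp he)).symm

theorem root_unipotent (h2 : (2 : k) ≠ 0) (h3 : Nat.card k ≠ 3) (ha : MinEl G a) (hb : MinEl G b)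
    (hn : IsNilpotent (a * b)) : IsUnipotentOn (rootOf ha ⊔ rootOf hb) := by
  set S : Set End' := {z | Same G a z ∨ Same G b z} with hS
  set P := Submodule.span k S with hP
  have hzero : P * P * P = ⊥ := by
    rw [hP, Submodule.span_mul_span, Submodule.span_mul_span, Submodule.span_eq_bot]
    rintro _ ⟨_, ⟨u, hu, v, hv, rfl⟩, w, hw, rfl⟩
    show u * v * w = 0
    rcases hu with hu | hu <;> rcases hv with hv | hv <;> rcases hw with hw | hw
    · rw [hu.mul_eq_zero ha hv, zero_mul]
    · rw [hu.mul_eq_zero ha hv, zero_mul]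
    · exact triple_zero h2 h3 ha hb hn hu hw hv
    · rw [mul_assoc, hv.mul_eq_zero hb hw, mul_zero]
    · rw [mul_assoc, hv.mul_eq_zero ha hw, mul_zero]
    · exact triple_zero h2 h3 hb ha (nilp_swap hn) hu hw hv
    · rw [hu.mul_eq_zero hb hv, zero_mul]
    · rw [hu.mul_eq_zero hb hv, zero_mul]
  set J := P ⊔ P * P with hJ
  have hJJ : J * J ≤ P * P := by
    rw [hJ, Submodule.mul_sup, Submodule.sup_mul, Submodule.sup_mul, hzero, ← mul_assoc P P P, hzero, ← mul_assoc,
      hzero, Submodule.bot_mul]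
    simp
  have hJJJ : J * J * J = ⊥ := by
    refine le_bot_iff.mp ((mul_le_mul' hJJ le_rfl).trans ?_)
    rw [hJ, Submodule.mul_sup, hzero, ← mul_assoc, hzero, Submodule.bot_mul]
    try simp
  have hnull : RootSub.IsNull J 3 := by
    intro l hl hlen
    match l, hlen with
    | u :: v :: w :: t, _ =>
      simp only [List.mem_cons, forall_eq_or_imp] at hl
      have := Submodule.mul_mem_mul (Submodule.mul_mem_mul hl.1 hl.2.1) hl.2.2.1
      rw [hJJJ, Submodule.mem_bot] at this
      rw [List.prod_cons, List.prod_cons, List.prod_cons, ← mul_assoc, ← mul_assoc, this, zero_mul]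
  have hclosed : ∀ u ∈ J, ∀ v ∈ J, u * v ∈ J := fun u hu v hv => by
    have := hJJ (Submodule.mul_mem_mul hu hv)
    rw [hJ]
    exact Submodule.mem_sup_right this
  let K : Subgroup GL' :=
    { carrier := {g | (g : End') - 1 ∈ J ∧ (↑g⁻¹ : End') - 1 ∈ J}
      one_mem' := by simp
      inv_mem' := fun {g} hg => ⟨hg.2, by rw [inv_inv]; exact hg.1⟩
      mul_mem' := by
        intro g h hg hh
        have key : ∀ u v : End', u - 1 ∈ J → v - 1 ∈ J → u * v - 1 ∈ J := by
          intro u v hu hv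
          rw [show u * v - 1 = (u - 1) * (v - 1) + (u - 1) + (v - 1) by noncomm_ring]
          exact add_mem (add_mem (hclosed _ hu _ hv) hu) hv
        refine ⟨by rw [Units.val_mul]; exact key _ _ hg.1 hh.1, ?_⟩
        rw [_root_.mul_inv_rev, Units.val_mul]
        exact key _ _ hh.2 hg.2 }
  have hle : rootOf ha ⊔ rootOf hb ≤ K := by
    refine sup_le (fun g hg => ⟨?_, ?_⟩) (fun g hg => ⟨?_, ?_⟩)
    · exact Submodule.mem_sup_left (Submodule.subset_span (Or.inl ((mem_rootOf ha).mp hg)))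
    · exact Submodule.mem_sup_left (Submodule.subset_span (Or.inl ((mem_rootOf ha).mp (inv_mem hg))))
    · exact Submodule.mem_sup_left (Submodule.subset_span (Or.inr ((mem_rootOf hb).mp hg)))
    · exact Submodule.mem_sup_left (Submodule.subset_span (Or.inr ((mem_rootOf hb).mp (inv_mem hg))))
  exact RootSub.isUnipotentOn_of_null hnull fun g hg => (hle hg).1

theorem nilp_of_unipotent {H : Subgroup GL'} (hu : IsUnipotentOn H) {g h : GL'} (hg : g ∈ H) (hh : h ∈ H) :
    IsNilpotent (((g : End') - 1) * ((h : End') - 1)) := by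
  obtain ⟨n, hn⟩ := RootSub.isNull_of_unipotent hu
  refine ⟨n, ?_⟩
  rw [← List.prod_replicate]
  refine hn _ (fun z hz => ?_) (by simp)
  rw [(List.mem_replicate.mp hz).2]
  exact RootSub.dSpan_mul H _ (RootSub.sub_one_mem_dSpan hg) _ (RootSub.sub_one_mem_dSpan hh)

theorem root_unipotent_iff (h2 : (2 : k) ≠ 0) (h3 : Nat.card k ≠ 3) (ha : MinEl G a) (hb : MinEl G b) :
    IsUnipotentOn (rootOf ha ⊔ rootOf hb) ↔ IsNilpotent (a * b) := by
  refine ⟨fun hu => ?_, root_unipotent h2 h3 ha hb⟩
  have := nilp_of_unipotent hu (Subgroup.mem_sup_left (xu_mem_rootOf ha (Same.refl ha)))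
    (Subgroup.mem_sup_right (xu_mem_rootOf hb (Same.refl hb)))
  rwa [xu_sub_one, xu_sub_one] at this

theorem conj_one_add (hx : x * x = 0) :
    (((xu x hx : GL') : End') * y * (↑(xu x hx)⁻¹ : End')) = y + (x * y - y * x) - x * y * x := by
  rw [xu_val, xu_inv]; noncomm_ring

/-- A non-identity element normalising the partner commutes with it. -/
theorem commute_of_normalizes (h2 : (2 : k) ≠ 0) (h3 : Nat.card k ≠ 3) (ha : MinEl G a) (hb : MinEl G b)
    (h : ∀ y, Same G b y → Same G b (((xu a ha.sq : GL') : End') * y * (↑(xu a ha.sq)⁻¹ : End'))) :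
    a * b = b * a := by
  by_cases hn : IsNilpotent (a * b)
  · by_contra hc
    have hP := commPair h2 ha hb hn hc
    have hz := h b (Same.refl hb)
    rw [conj_one_add, hP.aba, sub_zero] at hz
    have hX : Same G b (a * b - b * a) := by simpa using hz.sub hb (Same.refl hb)
    have hX0 : a * b - b * a ≠ 0 := sub_ne_zero.mpr hc
    obtain ⟨mX, kX, rX⟩ := hX.data hX0
    have hcomm : a * (a * b - b * a) = (a * b - b * a) * a := by
      rw [mul_sub, sub_mul, ← mul_assoc, ha.sq, ← mul_assoc, hP.aba, mul_assoc b a a, ha.sq]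
      simp
    exact hc (commute_all h2 h3 ha mX hcomm (Same.refl ha) ((Same.refl hb).trans kX.symm rX.symm))
  · exfalso
    obtain ⟨Q, c, -, -, -, D, -, -, -, hd1, hd2⟩ := oppPair_data h2 h3 ha hb hn
    refine hn ⟨1, (pow_one _).trans (LinearMap.ext fun v => ?_)⟩
    have hz := (h b (Same.refl hb)).range_le ⟨((xu a ha.sq : GL') : End') v, rfl⟩
    rw [← Module.End.mul_apply, mul_assoc, Units.inv_mul, mul_one, xu_val, add_mul, one_mul, LinearMap.add_apply] at hz
    have hmem : (a * b) v ∈ LinearMap.range b :=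
      (Submodule.add_mem_iff_right _ (⟨v, rfl⟩ : b v ∈ LinearMap.range b)).mp hz
    have : (a * b) v ∈ LinearMap.range b ⊓ LinearMap.ker a :=
      ⟨hmem, ha.toFam.range_le_ker ⟨b v, rfl⟩⟩
    rwa [hd2.eq_bot, Submodule.mem_bot] at this

end Cfsg.Lib.QuadPair
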