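import Cfsg.Agent.RootSub.QuadPair.Graded

/-!
# Partners, and pairs generating a group of class two
-/

set_option autoImplicit false
set_option linter.unusedSectionVars false
set_option linter.unusedVariables false
set_option linter.unusedSimpArgs false
set_option linter.style.haveILetI false

open Cfsg
open scoped commutatorElement

namespace Cfsg.Lib.QuadPair

variable {k : Type*} [Field k] {M : Type*} [AddCommGroup M] [Module k M] [FiniteDimensional k M]

local notation "End'" => (M →ₗ[k] M)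
local notation "GL'" => LinearMap.GeneralLinearGroup k M

variable {G : Subgroup (LinearMap.GeneralLinearGroup k M)} {a b c x y z : M →ₗ[k] M}

theorem exists_fixed_of_unipotent {H : Subgroup GL'} (hu : IsUnipotentOn H) (hM : ∃ m : M, m ≠ 0) :
    ∃ v : M, v ≠ 0 ∧ v ∈ fixedSubmodule H := by
  obtain ⟨n, hn⟩ := RootSub.isNull_of_unipotent hu
  obtain ⟨m, hm⟩ := hM
  by_contra hcon
  push Not at hcon
  have hstep : ∀ v : M, v ≠ 0 → ∃ g ∈ H, ((g : End') - 1) v ≠ 0 := by
    intro v hv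
    by_contra hno
    push Not at hno
    refine hcon v hv ?_
    simp only [fixedSubmodule, Submodule.mem_iInf, LinearMap.mem_ker]
    exact hno
  have key : ∀ j, ∃ l : List End', l.length = j ∧ (∀ u ∈ l, u ∈ RootSub.dSpan H) ∧ l.prod m ≠ 0 := by
    intro j
    induction j with
    | zero => exact ⟨[], rfl, by simp, by simpa using hm⟩
    | succ j ih =>
      obtain ⟨l, hl, hlu, hlm⟩ := ih
      obtain ⟨g, hg, hgl⟩ := hstep _ hlm
      exact ⟨((g : End') - 1) :: l, by simp [hl], by simpa [RootSub.sub_one_mem_dSpan hg] using hlu,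
        by simpa using hgl⟩
  obtain ⟨l, hl, hlu, hlm⟩ := key n
  exact hlm (by rw [hn l hlu hl.ge]; rfl)

theorem nilp_conj (g : GL') {u : End'} (h : IsNilpotent u) : IsNilpotent ((g : End') * u * ↑g⁻¹) := by
  obtain ⟨n, hn⟩ := h
  refine ⟨n, ?_⟩
  rw [Units.conj_pow, hn, mul_zero, zero_mul]

/-- The space is irreducible for `G` together with its centraliser. -/
def Semi (G : Subgroup (LinearMap.GeneralLinearGroup k M)) : Prop :=
  (∃ m : M, m ≠ 0) ∧ ∀ W : Submodule k M, (∀ g ∈ G, ∀ w ∈ W, (g : End') w ∈ W) →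
    (∀ g ∈ Subgroup.centralizer (G : Set GL'), ∀ w ∈ W, (g : End') w ∈ W) → W = ⊥ ∨ W = ⊤

theorem semi_of_irreducible (h : IsIrreducibleFor G) : Semi G := ⟨h.1, fun W h1 _ => h.2 W h1⟩

theorem semi_unipotent_trivial (hs : Semi G) {U : Subgroup GL'} (hUG : U ≤ G)
    (hnorm : ∀ g ∈ G, ∀ u ∈ U, g⁻¹ * u * g ∈ U) (hu : IsUnipotentOn U) : U = ⊥ := by
  obtain ⟨v, hv, hvf⟩ := exists_fixed_of_unipotent hu hs.1
  have key : ∀ g : GL', (∀ u ∈ U, g⁻¹ * u * g ∈ U) → ∀ w ∈ fixedSubmodule U, (g : End') w ∈ fixedSubmodule U := by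
    intro g hg w hw
    simp only [fixedSubmodule, Submodule.mem_iInf, LinearMap.mem_ker, LinearMap.sub_apply, Module.End.one_apply,
      sub_eq_zero] at hw ⊢
    intro h hh
    have := congrArg (g : End') (hw _ (hg h hh))
    rwa [Units.val_mul, Units.val_mul, ← Module.End.mul_apply, ← mul_assoc, ← mul_assoc, Units.mul_inv, one_mul,
      Module.End.mul_apply] at this
  rcases hs.2 _ (fun g hg => key g (hnorm g hg)) (fun g hg => key g fun u hu' => by
      rw [mul_assoc, Subgroup.mem_centralizer_iff.mp hg u (hUG hu'), inv_mul_cancel_left]; exact hu') with h | h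
  · exact absurd (by rwa [h, Submodule.mem_bot] at hvf) hv
  · rw [eq_bot_iff]
    intro u hu'
    rw [Subgroup.mem_bot]
    refine Units.ext (LinearMap.ext fun w => ?_)
    have hw : w ∈ fixedSubmodule U := h ▸ Submodule.mem_top
    simp only [fixedSubmodule, Submodule.mem_iInf, LinearMap.mem_ker, LinearMap.sub_apply, sub_eq_zero] at hw
    exact hw u hu'

theorem exists_conj_not_nilp (h2 : (2 : k) ≠ 0) (h3 : Nat.card k ≠ 3) (hirr : Semi G) (ha : MinEl G a) :
    ∃ g, g ∈ G ∧ ¬ IsNilpotent (a * ((g : End') * a * ↑g⁻¹)) := by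
  by_contra hcon
  push Not at hcon
  obtain ⟨W, hW⟩ : ∃ W : Set (Subgroup GL'), W = {A | ∃ g ∈ G, A = conjBy (rootOf ha) g} := ⟨_, rfl⟩
  have hWG : ∀ A ∈ W, A ≤ G := by
    rw [hW]
    rintro _ ⟨g, hg, rfl⟩
    rw [rootOf_conj ha hg]
    exact rootOf_le _
  have hWW : ∀ A ∈ W, ∀ B ∈ W, IsUnipotentOn (A ⊔ B) := by
    rw [hW]
    rintro _ ⟨g, hg, rfl⟩ _ ⟨h, hh, rfl⟩
    rw [rootOf_conj ha hg, rootOf_conj ha hh]
    refine root_unipotent h2 h3 _ _ ?_
    have := nilp_conj g (hcon _ (mul_mem (inv_mem hg) hh))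
    convert this using 1
    simp only [Units.val_mul, _root_.mul_inv_rev, inv_inv]
    rw [show (g : End') * (a * ((↑g⁻¹ : End') * ↑h * a * (↑h⁻¹ * ↑g))) * ↑g⁻¹ =
      (g : End') * a * ↑g⁻¹ * (↑h * a * ↑h⁻¹) * ((g : End') * ↑g⁻¹) by simp only [mul_assoc], Units.mul_inv, mul_one]
  have hWc : ∀ A ∈ W, ∀ g ∈ G, conjBy A g ∈ W := by
    rw [hW]
    rintro _ ⟨g, hg, rfl⟩ h hh
    exact ⟨h * g, mul_mem hh hg, RootSub.conjBy_conjBy g h⟩
  obtain ⟨H, hH⟩ : ∃ H : Subgroup GL', H = ⨆ A ∈ W, A := ⟨_, rfl⟩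
  have hu : IsUnipotentOn H := hH ▸ RootSub.isUnipotentOn_family hWG hWW hWc
  have hnorm : ∀ g ∈ G, ∀ h ∈ H, g⁻¹ * h * g ∈ H := by
    intro g hg
    suffices hle : H ≤ conjBy H g from fun h hh => RootSub.mem_conjBy.mp (hle hh)
    conv_lhs => rw [hH]
    refine iSup₂_le fun A hA => ?_
    have h1 : A = conjBy (conjBy A g⁻¹) g := by rw [RootSub.conjBy_conjBy, mul_inv_cancel, RootSub.conjBy_one]
    rw [h1]
    exact Subgroup.map_mono (hH ▸ le_iSup₂ (f := fun B _ => B) _ (hWc A hA _ (inv_mem hg)))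
  have hm : rootOf ha ≤ H :=
    hH ▸ le_iSup₂ (f := fun B _ => B) _ (by rw [hW]; exact ⟨1, one_mem _, RootSub.conjBy_one.symm⟩)
  have hHG : H ≤ G := hH ▸ iSup₂_le hWG
  exact rootOf_ne_bot ha (le_bot_iff.mp (hm.trans (semi_unipotent_trivial hirr hHG hnorm hu).le))

theorem exists_inv2 (h2 : (2 : k) ≠ 0) (h3 : Nat.card k ≠ 3) (hirr : Semi G) (ha : MinEl G a) :
    ∃ c, MinEl G c ∧ Inv2 a c := by
  obtain ⟨g, hg, hn⟩ := exists_conj_not_nilp h2 h3 hirr ha
  obtain ⟨c, hc, hc0, hI⟩ := opposite h2 h3 ha (ha.conj hg) hn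
  exact ⟨c, (hc.data hc0).1, hI⟩

theorem comm_surjective' (h2 : (2 : k) ≠ 0) (h3 : Nat.card k ≠ 3) (hirr : Semi G) (ha : MinEl G a)
    (hb : MinEl G b) (hn : IsNilpotent (a * b)) (hne : a * b ≠ b * a) (hx : Same G a x) (hx0 : x ≠ 0)
    (hz : Same G (a * b - b * a) z) : ∃ f, Same G b f ∧ x * f - f * x = z := by
  obtain ⟨mx, kx, rx⟩ := hx.data hx0
  have hn' := nilp_congr h2 h3 ha hb hn hx (Same.refl hb)
  have hne' : x * b ≠ b * x := fun h =>
    hne (commute_all h2 h3 mx hb h ((Same.refl ha).trans kx.symm rx.symm) (Same.refl hb))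
  obtain ⟨c, hc, hI⟩ := exists_inv2 h2 h3 hirr (commPair h2 mx hb hn' hne').minX
  obtain ⟨-, kX, rX⟩ := (comm_spaces h2 h3 ha hb hn hne hx (Same.refl hb)).data (sub_ne_zero.mpr hne')
  exact comm_surjective h2 h3 mx hb hn' hne' hc hI (hz.trans kX.symm rX.symm)

theorem root_comm_val (h2 : (2 : k) ≠ 0) (h3 : Nat.card k ≠ 3) (ha : MinEl G a) (hb : MinEl G b)
    (hn : IsNilpotent (a * b)) {g h : GL'} (hg : g ∈ rootOf ha) (hh : h ∈ rootOf hb) :
    ((g * h * g⁻¹ * h⁻¹ : GL') : End') =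
      1 + (((g : End') - 1) * ((h : End') - 1) - ((h : End') - 1) * ((g : End') - 1)) := by
  have hx := (mem_rootOf ha).mp hg
  have hy := (mem_rootOf hb).mp hh
  have := comm_exact hx.fam.sq hy.fam.sq (triple_zero h2 h3 ha hb hn hx hx hy)
    (triple_zero h2 h3 hb ha (nilp_swap hn) hy hy hx)
  rw [show xu ((g : End') - 1) hx.fam.sq = g from Units.ext (by rw [xu_val, add_sub_cancel]),
    show xu ((h : End') - 1) hy.fam.sq = h from Units.ext (by rw [xu_val, add_sub_cancel]), commutatorElement_def]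
    at this
  exact this

theorem comm_image_eq (h2 : (2 : k) ≠ 0) (h3 : Nat.card k ≠ 3) (hirr : Semi G) (ha : MinEl G a)
    (hb : MinEl G b) (hn : IsNilpotent (a * b)) (hne : a * b ≠ b * a) (hX : MinEl G (a * b - b * a)) {e : GL'}
    (he : e ∈ rootOf ha) (he1 : e ≠ 1) :
    (fun f : GL' => e * f * e⁻¹ * f⁻¹) '' (rootOf hb : Set GL') = (rootOf hX : Set GL') := by
  have hx := (mem_rootOf ha).mp he
  have hx0 : (e : End') - 1 ≠ 0 := fun h0 => he1 (Units.ext (sub_eq_zero.mp h0))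
  ext l
  constructor
  · rintro ⟨f, hf, rfl⟩
    rw [SetLike.mem_coe, mem_rootOf, root_comm_val h2 h3 ha hb hn he hf, add_sub_cancel_left]
    exact comm_spaces h2 h3 ha hb hn hne hx ((mem_rootOf hb).mp hf)
  · intro hl
    obtain ⟨f, hf, hfz⟩ := comm_surjective' h2 h3 hirr ha hb hn hne hx hx0 ((mem_rootOf hX).mp hl)
    refine ⟨xu f hf.fam.sq, xu_mem_rootOf hb hf, Units.ext ?_⟩
    show ((e * xu f hf.fam.sq * e⁻¹ * (xu f hf.fam.sq)⁻¹ : GL') : End') = _
    rw [root_comm_val h2 h3 ha hb hn he (xu_mem_rootOf hb hf), xu_sub_one, hfz, add_sub_cancel]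

theorem comm_image_eq' (h2 : (2 : k) ≠ 0) (h3 : Nat.card k ≠ 3) (hirr : Semi G) (ha : MinEl G a)
    (hb : MinEl G b) (hn : IsNilpotent (a * b)) (hne : a * b ≠ b * a) (hX : MinEl G (a * b - b * a)) {f : GL'}
    (hf : f ∈ rootOf hb) (hf1 : f ≠ 1) :
    (fun e : GL' => e * f * e⁻¹ * f⁻¹) '' (rootOf ha : Set GL') = (rootOf hX : Set GL') := by
  have hX' : MinEl G (b * a - a * b) := by rw [← neg_sub]; exact hX.neg
  have h := comm_image_eq h2 h3 hirr hb ha (nilp_swap hn) hne.symm hX' hf hf1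
  rw [rootOf_congr hX' hX (by rw [← neg_sub, LinearMap.ker_neg]) (by rw [← neg_sub, LinearMap.range_neg])] at h
  ext l
  constructor
  · rintro ⟨e, he, rfl⟩
    have := (Set.ext_iff.mp h _).mp ⟨e, he, rfl⟩
    show e * f * e⁻¹ * f⁻¹ ∈ rootOf hX
    rw [show e * f * e⁻¹ * f⁻¹ = (f * e * f⁻¹ * e⁻¹)⁻¹ by group]
    exact inv_mem this
  · intro hl
    obtain ⟨e, he, hee⟩ := (Set.ext_iff.mp h l⁻¹).mpr (inv_mem hl)
    refine ⟨e, he, ?_⟩
    show e * f * e⁻¹ * f⁻¹ = l
    rw [show e * f * e⁻¹ * f⁻¹ = (f * e * f⁻¹ * e⁻¹)⁻¹ by group, show f * e * f⁻¹ * e⁻¹ = l⁻¹ from hee, inv_inv]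

theorem comm_case (h2 : (2 : k) ≠ 0) (h3 : Nat.card k ≠ 3) (hirr : Semi G) (ha : MinEl G a)
    (hb : MinEl G b) (hn : IsNilpotent (a * b)) (hne : a * b ≠ b * a) :
    ∃ hX : MinEl G (a * b - b * a), ⁅rootOf ha, rootOf hb⁆ = rootOf hX ∧
      (∀ e ∈ rootOf ha, e ≠ 1 →
        Subgroup.closure ((fun f : GL' => e * f * e⁻¹ * f⁻¹) '' (rootOf hb : Set GL')) = ⁅rootOf ha, rootOf hb⁆) ∧
      (∀ f ∈ rootOf hb, f ≠ 1 →
        Subgroup.closure ((fun e : GL' => e * f * e⁻¹ * f⁻¹) '' (rootOf ha : Set GL')) = ⁅rootOf ha, rootOf hb⁆) ∧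
      (∀ l ∈ rootOf hX, ∀ u ∈ rootOf ha ⊔ rootOf hb, l * u = u * l) ∧
      ⁅rootOf ha ⊔ rootOf hb, rootOf ha ⊔ rootOf hb⁆ ≠ ⊥ ∧
      ⁅⁅rootOf ha ⊔ rootOf hb, rootOf ha ⊔ rootOf hb⁆, rootOf ha ⊔ rootOf hb⁆ = ⊥ ∧
      ((rootOf ha ⊔ rootOf hb : Subgroup GL') : Set GL') ⊆ quadraticUnipotentCore G (rootOf hX) := by
  have P := commPair h2 ha hb hn hne
  have hX := P.minX
  obtain ⟨z1, z2, z3, z4⟩ := P.zero ha.sq hb.sq
  have hEF : ⁅rootOf ha, rootOf hb⁆ = rootOf hX := by
    refine le_antisymm (Subgroup.commutator_le.mpr fun g hg h hh => ?_) fun l hl => ?_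
    · rw [commutatorElement_def, mem_rootOf, root_comm_val h2 h3 ha hb hn hg hh, add_sub_cancel_left]
      exact comm_spaces h2 h3 ha hb hn hne ((mem_rootOf ha).mp hg) ((mem_rootOf hb).mp hh)
    · have h1 : xu a ha.sq ≠ 1 := fun e => ha.ne (by
        have := congrArg (fun u : GL' => (u : End') - 1) e
        simpa [xu_val] using this)
      obtain ⟨f, hf, rfl⟩ := (Set.ext_iff.mp
        (comm_image_eq h2 h3 hirr ha hb hn hne hX (xu_mem_rootOf ha (Same.refl ha)) h1) l).mpr hl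
      exact Subgroup.commutator_mem_commutator (xu_mem_rootOf ha (Same.refl ha)) hf
  have hcen : ∀ l ∈ rootOf hX, ∀ u ∈ rootOf ha ⊔ rootOf hb, l * u = u * l := by
    intro l hl
    have hz := (mem_rootOf hX).mp hl
    suffices hle : rootOf ha ⊔ rootOf hb ≤ Subgroup.centralizer {l} from
      fun u hu => (Subgroup.mem_centralizer_singleton_iff.mp (hle hu)).symm
    refine sup_le (fun g hg => ?_) (fun g hg => ?_) <;> rw [Subgroup.mem_centralizer_singleton_iff, unit_commute_iff]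
    · have hx := (mem_rootOf ha).mp hg
      rw [mul_eq_zero_of_range (hx.range_le.trans ((range_le_of_mul_eq_zero z1).trans hz.le_ker)),
        mul_eq_zero_of_range (hz.range_le.trans ((range_le_of_mul_eq_zero z2).trans hx.le_ker))]
    · have hx := (mem_rootOf hb).mp hg
      rw [mul_eq_zero_of_range (hx.range_le.trans ((range_le_of_mul_eq_zero z3).trans hz.le_ker)),
        mul_eq_zero_of_range (hz.range_le.trans ((range_le_of_mul_eq_zero z4).trans hx.le_ker))]
  refine ⟨hX, hEF, ?_, ?_, hcen, ?_, ?_, ?_⟩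
  · intro e he he1
    rw [comm_image_eq h2 h3 hirr ha hb hn hne hX he he1, Subgroup.closure_eq, hEF]
  · intro f hf hf1
    rw [comm_image_eq' h2 h3 hirr ha hb hn hne hX hf hf1, Subgroup.closure_eq, hEF]
  · intro h
    exact rootOf_ne_bot hX (le_bot_iff.mp (hEF ▸ h ▸ Subgroup.commutator_mono le_sup_left le_sup_right))
  · obtain ⟨L, hL⟩ : ∃ L, L = rootOf hX := ⟨_, rfl⟩
    rw [← hL] at hEF hcen
    obtain ⟨S, hS⟩ : ∃ S : Set GL', S = (rootOf ha : Set GL') ∪ (rootOf hb : Set GL') := ⟨_, rfl⟩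
    have hcl : rootOf ha ⊔ rootOf hb = Subgroup.closure S := by rw [hS, Subgroup.sup_eq_closure]
    have hgen : ∀ g ∈ S, ∀ h ∈ S, ⁅g, h⁆ ∈ L := by
      rw [hS]
      rintro g (hg | hg) h (hh | hh)
      · rw [commutatorElement_eq_one_iff_mul_comm.mpr (rootOf_abelian ha hg hh)]; exact one_mem _
      · rw [← hEF]; exact Subgroup.commutator_mem_commutator hg hh
      · rw [← hEF, ← commutatorElement_inv]; exact inv_mem (Subgroup.commutator_mem_commutator hh hg)
      · rw [commutatorElement_eq_one_iff_mul_comm.mpr (rootOf_abelian hb hg hh)]; exact one_mem _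
    have hright : ∀ g : GL', (∀ h ∈ S, ⁅g, h⁆ ∈ L) → ∀ h ∈ Subgroup.closure S, ⁅g, h⁆ ∈ L := by
      intro g hg h hh
      induction hh using Subgroup.closure_induction with
      | mem h hh => exact hg h hh
      | one => rw [commutatorElement_one_right]; exact one_mem _
      | mul p q hp hq hp' hq' =>
        have : ⁅g, p * q⁆ = ⁅g, p⁆ * ⁅g, q⁆ := by
          rw [show ⁅g, p * q⁆ = ⁅g, p⁆ * (p * ⁅g, q⁆ * p⁻¹) by simp only [commutatorElement_def]; group,
            ← hcen _ hq' p (hcl ▸ hp), mul_inv_cancel_right]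
        rw [this]
        exact mul_mem hp' hq'
      | inv p hp hp' =>
        have : ⁅g, p⁻¹⁆ = ⁅g, p⁆⁻¹ := by
          rw [show ⁅g, p⁻¹⁆ = p⁻¹ * ⁅g, p⁆⁻¹ * p by simp only [commutatorElement_def]; group,
            mul_assoc, hcen _ (inv_mem hp') p (hcl ▸ hp), inv_mul_cancel_left]
        rw [this]
        exact inv_mem hp'
    have hall : ∀ g ∈ Subgroup.closure S, ∀ h ∈ Subgroup.closure S, ⁅g, h⁆ ∈ L := by
      intro g hg h hh
      refine hright g (fun t ht => ?_) h hh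
      rw [← commutatorElement_inv]
      exact inv_mem (hright t (hgen t ht) g hg)
    rw [Subgroup.commutator_eq_bot_iff_le_centralizer]
    refine (Subgroup.commutator_le.mpr fun g hg h hh => hall g (hcl ▸ hg) h (hcl ▸ hh)).trans fun l hl => ?_
    rw [Subgroup.mem_centralizer_iff]
    exact fun u hu => (hcen l hl u hu).symm
  · have hfix : fixedSubmodule (rootOf hX) = LinearMap.ker (a * b - b * a) := by
      refine le_antisymm (fun v hv => ?_) (le_iInf₂ fun g hg => ((mem_rootOf hX).mp hg).le_ker)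
      simp only [fixedSubmodule, Submodule.mem_iInf] at hv
      have := hv _ (xu_mem_rootOf hX (Same.refl hX))
      rwa [xu_sub_one] at this
    have hcm : commutatorSubmodule (rootOf hX) = LinearMap.range (a * b - b * a) := by
      refine le_antisymm (iSup₂_le fun g hg => ((mem_rootOf hX).mp hg).range_le) ?_
      refine le_trans (le_of_eq ?_) (le_iSup₂ (f := fun (g : GL') (_ : g ∈ rootOf hX) =>
        LinearMap.range ((g : End') - 1)) _ (xu_mem_rootOf hX (Same.refl hX)))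
      rw [xu_sub_one]
    obtain ⟨X, hXeq⟩ : ∃ X, X = a * b - b * a := ⟨_, rfl⟩
    let Q : End' → Prop := fun u => (∀ v, u v ∈ LinearMap.ker X) ∧ u * X = 0 ∧
      ∀ v ∈ LinearMap.ker X, u v ∈ LinearMap.range X
    let K : Subgroup GL' :=
      { carrier := {g | Q ((g : End') - 1) ∧ Q ((↑g⁻¹ : End') - 1)}
        one_mem' := by
          simp [Q]
          exact fun v _ => ⟨0, map_zero X⟩
        inv_mem' := fun {g} hg => ⟨hg.2, by rw [inv_inv]; exact hg.1⟩
        mul_mem' := by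
          intro g h hg hh
          have key : ∀ u v : End', Q (u - 1) → Q (v - 1) → Q (u * v - 1) := by
            intro u v hu hv
            rw [show u * v - 1 = (u - 1) * (v - 1) + (u - 1) + (v - 1) by noncomm_ring]
            refine ⟨fun w => add_mem (add_mem (hu.1 _) (hu.1 w)) (hv.1 w), ?_, fun w hw => ?_⟩
            · rw [add_mul, add_mul, mul_assoc, hv.2.1, hu.2.1, mul_zero, add_zero, add_zero]
            · exact add_mem (add_mem (hu.2.2 _ (hv.1 w)) (hu.2.2 w hw)) (hv.2.2 w hw)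
          refine ⟨by rw [Units.val_mul]; exact key _ _ hg.1 hh.1, ?_⟩
          rw [_root_.mul_inv_rev, Units.val_mul]
          exact key _ _ hh.2 hg.2 }
    have hgA : ∀ g ∈ rootOf ha, Q ((g : End') - 1) := by
      intro g hg
      have hx := (mem_rootOf ha).mp hg
      refine ⟨fun v => hXeq ▸ range_le_of_mul_eq_zero z1 (hx.range_le ⟨v, rfl⟩),
        mul_eq_zero_of_range ((range_le_of_mul_eq_zero (by rw [hXeq]; exact z2)).trans hx.le_ker), fun v hv => ?_⟩
      rcases eq_or_ne ((g : End') - 1) 0 with h0 | h0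
      · rw [h0]; exact zero_mem _
      obtain ⟨mx, kx, rx⟩ := hx.data h0
      have hne' : ((g : End') - 1) * b ≠ b * ((g : End') - 1) := fun h =>
        hne (commute_all h2 h3 mx hb h ((Same.refl ha).trans kx.symm rx.symm) (Same.refl hb))
      obtain ⟨-, kX, rX⟩ := (comm_spaces h2 h3 ha hb hn hne hx (Same.refl hb)).data (sub_ne_zero.mpr hne')
      rw [hXeq, ← kX] at hv
      rw [hXeq, ← rX]
      exact (commPair_spaces h2 mx hb (nilp_congr h2 h3 ha hb hn hx (Same.refl hb)) hne').1 v hv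
    have hgB : ∀ g ∈ rootOf hb, Q ((g : End') - 1) := by
      intro g hg
      have hx := (mem_rootOf hb).mp hg
      refine ⟨fun v => hXeq ▸ range_le_of_mul_eq_zero z3 (hx.range_le ⟨v, rfl⟩),
        mul_eq_zero_of_range ((range_le_of_mul_eq_zero (by rw [hXeq]; exact z4)).trans hx.le_ker), fun v hv => ?_⟩
      rcases eq_or_ne ((g : End') - 1) 0 with h0 | h0
      · rw [h0]; exact zero_mem _
      obtain ⟨mx, kx, rx⟩ := hx.data h0
      have hne' : a * ((g : End') - 1) ≠ ((g : End') - 1) * a := fun h =>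
        hne (commute_all h2 h3 ha mx h (Same.refl ha) ((Same.refl hb).trans kx.symm rx.symm))
      obtain ⟨-, kX, rX⟩ := (comm_spaces h2 h3 ha hb hn hne (Same.refl ha) hx).data (sub_ne_zero.mpr hne')
      rw [hXeq, ← kX] at hv
      rw [hXeq, ← rX]
      exact (commPair_spaces h2 ha mx (nilp_congr h2 h3 ha hb hn (Same.refl ha) hx) hne').2 v hv
    have hle : rootOf ha ⊔ rootOf hb ≤ K :=
      sup_le (fun g hg => ⟨hgA g hg, hgA _ (inv_mem hg)⟩) fun g hg => ⟨hgB g hg, hgB _ (inv_mem hg)⟩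
    intro g hg
    obtain ⟨⟨h1, h1', h1''⟩, -⟩ := hle hg
    refine ⟨(sup_le (rootOf_le ha) (rootOf_le hb)) hg, Subgroup.centralizer_le_normalizer _
      (Subgroup.mem_centralizer_iff.mpr fun l hl => hcen l hl g hg), fun m => ?_, fun m hm => ?_, fun m hm => ?_⟩
    · rw [hfix, ← hXeq]
      exact h1 m
    · rw [hfix, ← hXeq] at hm
      rw [hcm, ← hXeq]
      exact h1'' m hm
    · rw [hcm, ← hXeq] at hm
      obtain ⟨w, rfl⟩ := hm
      have := LinearMap.congr_fun h1' w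
      rwa [Module.End.mul_apply, LinearMap.sub_apply, LinearMap.zero_apply, sub_eq_zero] at this

theorem nilp_of_class_two (h2 : (2 : k) ≠ 0) (h3 : Nat.card k ≠ 3) (ha : MinEl G a) (hb : MinEl G b)
    (h : ⁅⁅rootOf ha ⊔ rootOf hb, rootOf ha ⊔ rootOf hb⁆, rootOf ha ⊔ rootOf hb⁆ = ⊥) :
    IsNilpotent (a * b) := by
  by_contra hn
  obtain ⟨c, hc, hc0, hI⟩ := opposite h2 h3 ha hb hn
  have he : xu a ha.sq ∈ rootOf ha ⊔ rootOf hb := Subgroup.mem_sup_left (xu_mem_rootOf ha (Same.refl ha))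
  have hf : xu c hI.cc ∈ rootOf ha ⊔ rootOf hb := Subgroup.mem_sup_right (xu_mem_rootOf hb hc)
  have hm := Subgroup.commutator_mem_commutator (Subgroup.commutator_mem_commutator he hf) he
  rw [h, Subgroup.mem_bot, commutatorElement_eq_one_iff_mul_comm, unit_commute_iff, xu_sub_one] at hm
  have hz : ((⁅xu a ha.sq, xu c hI.cc⁆ : GL') : End') - 1 = (2 : k) • (a * c) - c * a + c - a := by
    rw [commutatorElement_def, Units.val_mul, Units.val_mul, Units.val_mul, xu_val, xu_val, xu_inv, xu_inv,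
      show (1 + a) * (1 + c) * (1 - a) * (1 - c) - 1 = a * c - c * a - a * a + a * a * c - c * c + c * a * c
        - a * c * a - a * (c * c) + a * c * a * c by noncomm_ring, hI.aa, hI.cc, hI.aca, hI.cac, two_smul]
    simp only [zero_mul, mul_zero]
    abel
  rw [hz] at hm
  have h5 := congrArg (fun u => a * u) hm
  have e1 : a * ((2 : k) • (a * c) - c * a + c - a) = -a + a * c := by
    simp only [mul_add, mul_sub, mul_smul_comm, ← mul_assoc, hI.aa, hI.aca, zero_mul, smul_zero]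
    abel
  have e2 : ((2 : k) • (a * c) - c * a + c - a) * a = (2 : k) • a + c * a := by
    simp only [add_mul, sub_mul, smul_mul_assoc, mul_assoc c a a, hI.aa, hI.aca, mul_zero]
    abel
  simp only [e1, e2, mul_add, mul_neg, mul_smul_comm, ← mul_assoc, hI.aa, hI.aca, zero_mul, smul_zero, neg_zero,
    zero_add] at h5
  exact ha.ne h5

end Cfsg.Lib.QuadPair
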