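import Cfsg.Agent.RootSub.QuadPair.Hankel

/-!
# Root elements deep in the group generated by `k` and `k t`
-/

set_option autoImplicit false
set_option linter.unusedSectionVars false
set_option linter.unusedVariables false
set_option linter.unusedSimpArgs false
set_option linter.style.haveILetI false

open Matrix
open scoped commutatorElement

namespace Cfsg.Lib.QuadPair

local notation "SL2" A => Matrix.SpecialLinearGroup (Fin 2) A

section Field

variable {k K : Type*} [Field k] [Field K] [Algebra k K]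

theorem rmix_eq_mixGen (a : K) : rmix k a = RootSub.mixGen k a := by
  rw [rmix, RootSub.mixGen]
  congr 2

theorem rmix_field_top (h2 : (2 : k) ≠ 0) (h3 : Nat.card k ≠ 3) {a : K} (ha : a ≠ 0) (pb : PowerBasis k K)
    (hg : pb.gen = a) : rmix k a = ⊤ := by
  haveI := pb.finite
  rw [rmix_eq_mixGen]
  rcases finite_or_infinite k with hk | hk
  · haveI : Finite K := Module.finite_of_finite k
    exact RootSub.mixGen_finite ha h2 h3 pb hg
  · exact RootSub.mixGen_infinite ha h2 pb hg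

theorem lcs_top (h2 : (2 : k) ≠ 0) (h3 : Nat.card k ≠ 3) (H : Subgroup (SL2 K)) (hH : H = ⊤) (n : ℕ) :
    H.lowerCentralSeries n = ⊤ := by
  obtain ⟨s, hs⟩ := exists_sq_ne_one (k := k) h2 h3
  have hall := all_lcs H (fun x => hH ▸ Subgroup.mem_top _) (fun x => hH ▸ Subgroup.mem_top _) s hs n
  rw [eq_top_iff, ← RootSub.lower_sup_upper]
  refine sup_le (fun g hg => ?_) fun g hg => ?_
  · obtain ⟨t, rfl⟩ := RootSub.mem_lower_iff.mp hg
    exact (hall t).2
  · obtain ⟨t, rfl⟩ := RootSub.mem_upper_iff.mp hg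
    exact (hall t).1

theorem ru_ne_one {x : K} (hx : x ≠ 0) : (ru x : SL2 K) ≠ 1 := fun h => hx (ru_inj (h.trans ru_zero.symm))

theorem prime_dvd_card [Finite K] (p : ℕ) [hp : Fact p.Prime] [CharP K p] : p ∣ Nat.card (SL2 K) := by
  have h : orderOf (ru (1 : K)) = p :=
    orderOf_eq_prime (by rw [ru_pow, mul_one, CharP.cast_eq_zero, ru_zero]) (ru_ne_one one_ne_zero)
  calc p = orderOf (ru (1 : K)) := h.symm
    _ ∣ Nat.card (SL2 K) := orderOf_dvd_natCard _

end Field

section Finite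

variable {k A : Type*} [Field k] [CommRing A] [Algebra k A] [Finite A] {p : ℕ} [hp : Fact p.Prime] [CharP A p]

theorem isPGroup_ru : IsPGroup p (Subgroup.zpowers (ru (1 : A))) := by
  have h : orderOf (ru (1 : A)) ∣ p := orderOf_dvd_of_pow_eq_one (by rw [ru_pow, mul_one, CharP.cast_eq_zero, ru_zero])
  rcases (Nat.dvd_prime hp.out).mp h with h | h
  · exact IsPGroup.of_card (n := 0) (by rw [Nat.card_zpowers, h, pow_zero])
  · exact IsPGroup.of_card (n := 1) (by rw [Nat.card_zpowers, h, pow_one])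

/-- A normalized subgroup of order divisible by `p` meets the upper unitriangular group. -/
theorem exists_ru_of_dvd (hodd : Odd p) {a : A} {Γ : Subgroup (SL2 A)} (hle : Γ ≤ rmix k a)
    (hnorm : rmix k a ≤ Subgroup.normalizer (Γ : Set (SL2 A))) (hdvd : p ∣ Nat.card Γ) :
    ∃ z : A, z ≠ 0 ∧ ru z ∈ Γ := by
  set H := rmix k a with hH
  set Γ' := Γ.subgroupOf H with hΓ
  haveI : Γ'.Normal := (Subgroup.normal_subgroupOf_iff_le_normalizer hle).mpr hnorm
  have hu : ru (1 : A) ∈ H := by rw [← map_one (algebraMap k A)]; exact ru_base_mem 1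
  obtain ⟨g, hg⟩ := exists_prime_orderOf_dvd_card' p hdvd
  have hgP : IsPGroup p (Subgroup.zpowers (⟨g.1, hle g.2⟩ : H)) := by
    refine IsPGroup.of_card (n := 1) ?_
    rw [Nat.card_zpowers, pow_one]
    rw [show orderOf (⟨g.1, hle g.2⟩ : H) = orderOf g.1 from Subgroup.orderOf_mk _ _, Subgroup.orderOf_coe, hg]
  have huP : IsPGroup p (Subgroup.zpowers (⟨_, hu⟩ : H)) := by
    have := (isPGroup_ru (A := A) (p := p)).comap_of_injective H.subtype H.subtype_injective
    refine this.to_le ?_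
    rw [Subgroup.zpowers_le]
    exact Subgroup.mem_zpowers (ru (1 : A))
  obtain ⟨S, hS⟩ := huP.exists_le_sylow
  obtain ⟨T, hT⟩ := hgP.exists_le_sylow
  obtain ⟨x, hx⟩ := MulAction.exists_smul_eq H T S
  have hgS : x * (⟨g.1, hle g.2⟩ : H) * x⁻¹ ∈ (S : Subgroup H) := by
    rw [← hx]
    exact Subgroup.smul_mem_pointwise_smul _ (MulAut.conj x) (T : Subgroup H) (hT (Subgroup.mem_zpowers _))
  haveI : Group.IsNilpotent (S : Subgroup H) := S.isPGroup'.isNilpotent
  obtain ⟨c, hc⟩ := Subgroup.nilpotent_iff_lowerCentralSeries.mp ‹Group.IsNilpotent (S : Subgroup H)›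
  let u : (S : Subgroup H) := ⟨⟨_, hu⟩, hS (Subgroup.mem_zpowers _)⟩
  obtain ⟨y, hy, hy1, hcom⟩ : ∃ y : (S : Subgroup H), (y : H) ∈ Γ' ∧ y ≠ 1 ∧ y * u = u * y := by
    by_contra hcon
    push Not at hcon
    have hseq : ∀ n, ∃ y : (S : Subgroup H), y ∈ (⊤ : Subgroup (S : Subgroup H)).lowerCentralSeries n ∧
        (y : H) ∈ Γ' ∧ y ≠ 1 := by
      intro n
      induction n with
      | zero =>
        refine ⟨⟨_, hgS⟩, Subgroup.mem_top _, ‹Γ'.Normal›.conj_mem _ (Subgroup.mem_subgroupOf.mpr g.2) x, fun h => ?_⟩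
        have h' := congrArg (fun y : (S : Subgroup H) => (y : H)) h
        rw [Subgroup.coe_one, mul_inv_eq_one, mul_eq_left] at h'
        have h'' : g.1 = 1 := congrArg Subtype.val h'
        rw [show g = 1 from Subtype.ext h'', orderOf_one] at hg
        exact hp.out.ne_one hg.symm
      | succ n ih =>
        obtain ⟨y, hyn, hy, hy1⟩ := ih
        refine ⟨⁅y, u⁆, Subgroup.commutator_mem_commutator hyn (Subgroup.mem_top _), ?_, fun h =>
          hcon y hy hy1 (commutatorElement_eq_one_iff_mul_comm.mp h)⟩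
        rw [commutatorElement_def]
        have := mul_mem hy (‹Γ'.Normal›.conj_mem _ (inv_mem hy) (u : H))
        simpa [mul_assoc] using this
    obtain ⟨y, hyn, -, hy1⟩ := hseq c
    rw [hc, Subgroup.mem_bot] at hyn
    exact hy1 hyn
  have hcom' : ((y : H) : SL2 A) * ru 1 = ru 1 * ((y : H) : SL2 A) :=
    congrArg (fun z : (S : Subgroup H) => ((z : H) : SL2 A)) hcom
  obtain ⟨n, hn⟩ := S.isPGroup' y
  have hyeq := eq_ru_of_commute hodd (n := n)
    (congrArg (fun z : (S : Subgroup H) => ((z : H) : SL2 A)) hn) hcom'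
  refine ⟨((y : H) : SL2 A).1 0 1, fun h0 => hy1 ?_, ?_⟩
  · rw [h0, ru_zero] at hyeq
    exact Subtype.ext (Subtype.ext hyeq)
  · rw [← hyeq]
    exact Subgroup.mem_subgroupOf.mp hy

end Finite

section Main

variable {k A : Type*} [Field k] [CommRing A] [Algebra k A] (h2 : (2 : k) ≠ 0) (h3 : Nat.card k ≠ 3)
  (α : Aˣ) (pb : PowerBasis k A) (hg : pb.gen = (α : A))
include h2 h3 hg

theorem rmix_map_top (P : Ideal A) [P.IsMaximal] :
    (rmix k (α : A)).map (Matrix.SpecialLinearGroup.map (Ideal.Quotient.mk P)) = ⊤ := by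
  letI := Ideal.Quotient.field P
  haveI := pb.finite
  set t := Ideal.Quotient.mk P (α : A) with ht
  have ht0 : t ≠ 0 := (α.isUnit.map (Ideal.Quotient.mk P)).ne_zero
  haveI : FiniteDimensional k (A ⧸ P) := Module.Finite.of_surjective (Ideal.Quotient.mkₐ k P).toLinearMap
    Ideal.Quotient.mk_surjective
  have hgen : Algebra.adjoin k ({t} : Set (A ⧸ P)) = ⊤ := by
    have := congrArg (Subalgebra.map (Ideal.Quotient.mkₐ k P)) pb.adjoin_gen_eq_top
    rw [AlgHom.map_adjoin, Set.image_singleton, Algebra.map_top, hg] at this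
    change Algebra.adjoin k ({t} : Set (A ⧸ P)) = _ at this
    rw [this, AlgHom.range_eq_top]
    exact Ideal.Quotient.mk_surjective
  rw [← rmix_field_top h2 h3 ht0
    (PowerBasis.ofAdjoinEqTop (Algebra.IsIntegral.isIntegral t) hgen) (PowerBasis.ofAdjoinEqTop_gen _ _)]
  rw [rmix, rmix, MonoidHom.map_closure, Set.image_union, ← Set.range_comp, ← Set.range_comp]
  congr 3
  · funext c
    exact map_ru _ _
  · funext c
    rw [Function.comp_apply, map_rl, map_mul]
    rfl

theorem finite_case_data [Finite k] : Finite A ∧ ∃ p, p.Prime ∧ Odd p ∧ CharP k p := by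
  haveI := pb.finite
  obtain ⟨p, hp⟩ := CharP.exists k
  haveI := hp
  have hpp : p.Prime := CharP.char_is_prime k p
  refine ⟨Module.finite_of_finite k, p, hpp, hpp.odd_of_ne_two fun e => h2 ?_, hp⟩
  subst e
  exact_mod_cast CharP.cast_eq_zero k 2

theorem exists_deep [Nontrivial A] (N : ℕ) :
    ∃ z : A, z ≠ 0 ∧ ∀ c : k, ru (c • z) ∈ (rmix k (α : A)).lowerCentralSeries N := by
  haveI := pb.finite
  rcases finite_or_infinite k with hk | hk
  · obtain ⟨hA, p, hpp, hodd, hchar⟩ := finite_case_data h2 h3 α pb hg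
    haveI := hA
    haveI := hchar
    haveI : Fact p.Prime := ⟨hpp⟩
    haveI : CharP A p := charP_of_injective_algebraMap (algebraMap k A).injective p
    obtain ⟨P, hP⟩ := Ideal.exists_maximal A
    haveI := hP
    letI := Ideal.Quotient.field P
    haveI : CharP (A ⧸ P) p := charP_of_injective_algebraMap (algebraMap k (A ⧸ P)).injective p
    haveI : Finite (A ⧸ P) := Finite.of_surjective _ Ideal.Quotient.mk_surjective
    set Γ := (rmix k (α : A)).lowerCentralSeries N with hΓ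
    have hmap : Γ.map (Matrix.SpecialLinearGroup.map (Ideal.Quotient.mk P)) = ⊤ := by
      rw [hΓ, Subgroup.map_lowerCentralSeries, rmix_map_top h2 h3 α pb hg P]
      exact lcs_top h2 h3 _ rfl N
    have hdvd : p ∣ Nat.card Γ := by
      refine (prime_dvd_card (K := A ⧸ P) p).trans ?_
      rw [← Subgroup.card_top (G := SL2 (A ⧸ P)), ← hmap]
      exact Subgroup.card_map_dvd _ _
    obtain ⟨z, hz, hzm⟩ := exists_ru_of_dvd hodd ((rmix k (α : A)).lowerCentralSeries_antitone (Nat.zero_le N))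
      ((rmix k (α : A)).self_le_normalizer_lowerCentralSeries N) hdvd
    exact ⟨z, hz, fun c => smul_lcs _ N hzm c⟩
  · have htop := rmix_infinite α pb hg h2
    obtain ⟨s, hs⟩ := exists_sq_ne_one (k := k) h2 h3
    have hu : ∀ x : A, ru x ∈ rmix k (α : A) := fun x => (mem_rUpper α).mp (htop ▸ Submodule.mem_top)
    have hl : ∀ x : A, rl x ∈ rmix k (α : A) := fun x => by
      have := rl_mem_of_upper α (htop ▸ Submodule.mem_top : (↑α⁻¹ : A) * x ∈ rUpper (k := k) α)
      rwa [← mul_assoc, Units.mul_inv, one_mul] at this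
    exact ⟨1, one_ne_zero, fun c => smul_lcs _ N (all_lcs _ hu hl s hs N 1).1 c⟩

theorem exists_nonunit (hnf : ∃ x : A, x ≠ 0 ∧ ¬ IsUnit x) :
    ∃ z : A, z ≠ 0 ∧ ¬ IsUnit z ∧ ∀ c : k, ru (c • z) ∈ rmix k (α : A) := by
  classical
  haveI := pb.finite
  obtain ⟨x₀, hx₀, hx₀u⟩ := hnf
  rcases finite_or_infinite k with hk | hk
  swap
  · have htop := rmix_infinite α pb hg h2
    exact ⟨x₀, hx₀, hx₀u, fun c => (mem_rUpper α).mp (htop ▸ Submodule.mem_top)⟩
  haveI : Nontrivial A := ⟨x₀, 0, hx₀⟩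
  obtain ⟨hA, p, hpp, hodd, hchar⟩ := finite_case_data h2 h3 α pb hg
  haveI := hA
  haveI := hchar
  haveI : Fact p.Prime := ⟨hpp⟩
  haveI : CharP A p := charP_of_injective_algebraMap (algebraMap k A).injective p
  obtain ⟨P, hP⟩ := Ideal.exists_maximal A
  haveI := hP
  letI := Ideal.Quotient.field P
  haveI : CharP (A ⧸ P) p := charP_of_injective_algebraMap (algebraMap k (A ⧸ P)).injective p
  haveI : Finite (A ⧸ P) := Finite.of_surjective _ Ideal.Quotient.mk_surjective
  set mk := Ideal.Quotient.mk P with hmk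
  set π := Matrix.SpecialLinearGroup.map (n := Fin 2) mk with hπ
  set H := rmix k (α : A) with hH
  have hsurj : H.map π = ⊤ := rmix_map_top h2 h3 α pb hg P
  set N := H ⊓ π.ker with hN
  by_cases hpN : p ∣ Nat.card N
  · obtain ⟨z, hz, hzN⟩ := exists_ru_of_dvd hodd (inf_le_left : N ≤ H) (fun g hg' => by
      rw [Subgroup.mem_normalizer_iff]
      intro y
      refine ⟨fun hy => ⟨H.mul_mem (H.mul_mem hg' hy.1) (H.inv_mem hg'), π.normal_ker.conj_mem y hy.2 g⟩, fun hy => ⟨?_, ?_⟩⟩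
      · have := H.mul_mem (H.mul_mem (H.inv_mem hg') hy.1) hg'
        simpa [mul_assoc] using this
      · have := π.normal_ker.conj_mem _ hy.2 g⁻¹
        simpa [mul_assoc] using this) hpN
    have hz0 : mk z = 0 := ru_inj (by rw [← map_ru, ru_zero]; exact hzN.2)
    refine ⟨z, hz, fun hu => ?_, fun c => smul_lcs _ 0 hzN.1 c⟩
    exact (hu.map mk).ne_zero hz0
  exfalso
  have hNone : ∀ x : SL2 A, x ∈ N → ∀ j : ℕ, x ^ p ^ j = 1 → x = 1 := by
    intro x hx j hj
    have h1 : orderOf (⟨x, hx⟩ : N) ∣ p ^ j := orderOf_dvd_of_pow_eq_one (Subtype.ext hj)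
    have h2' : orderOf (⟨x, hx⟩ : N) ∣ Nat.card N := orderOf_dvd_natCard _
    obtain ⟨i, -, hi⟩ := (Nat.dvd_prime_pow hpp).mp h1
    rcases Nat.eq_zero_or_pos i with rfl | hi0
    · have e : (⟨x, hx⟩ : N) = 1 := orderOf_eq_one_iff.mp (by simpa using hi)
      exact congrArg (fun y : N => (y : SL2 A)) e
    · exact absurd ((dvd_pow_self p hi0.ne').trans (hi ▸ h2')) hpN
  have hNc : ∀ ν : SL2 A, ν ∈ N → ∀ h : SL2 A, h ∈ H → ν * h = h * ν := by
    intro ν hν h hh
    rw [← commutatorElement_eq_one_iff_mul_comm]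
    set x := ⁅ν, h⁆ with hx
    have hxN : x ∈ N := by
      rw [hx, commutatorElement_def]
      refine Subgroup.mem_inf.mpr ⟨H.mul_mem (H.mul_mem (H.mul_mem hν.1 hh) (H.inv_mem hν.1)) (H.inv_mem hh), ?_⟩
      have := π.ker.mul_mem hν.2 (π.normal_ker.conj_mem _ (π.ker.inv_mem hν.2) h)
      simpa only [mul_assoc] using this
    have hent : ∀ (Q : Ideal A), Q.IsPrime → Matrix.SpecialLinearGroup.map (n := Fin 2) (Ideal.Quotient.mk Q) x = (1 : SL2 (A ⧸ Q)) := by
      intro Q hQ
      haveI := hQ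
      haveI : Finite (A ⧸ Q) := Finite.of_surjective _ Ideal.Quotient.mk_surjective
      haveI : Q.IsMaximal := Ideal.Quotient.maximal_of_isField Q (Finite.isField_of_domain _)
      letI := Ideal.Quotient.field Q
      haveI : CharP (A ⧸ Q) p := charP_of_injective_algebraMap (algebraMap k (A ⧸ Q)).injective p
      set σ := Matrix.SpecialLinearGroup.map (n := Fin 2) (Ideal.Quotient.mk Q)
      have hs' : H.map σ = ⊤ := rmix_map_top h2 h3 α pb hg Q
      set Y := N.map σ with hY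
      haveI : Y.Normal := ⟨fun y hy g => by
        obtain ⟨n, hn, rfl⟩ := hy
        obtain ⟨g', hg', rfl⟩ : g ∈ H.map σ := hs' ▸ Subgroup.mem_top g
        refine ⟨g' * n * g'⁻¹, Subgroup.mem_inf.mpr ⟨mul_mem (mul_mem hg' hn.1) (inv_mem hg'), π.normal_ker.conj_mem n hn.2 g'⟩, ?_⟩
        simp⟩
      rcases RootSub.normal_sup_eq_top ⟨RootSub.lower_sup_upper, RootSub.sl2_isRankOnePair⟩ Y inferInstance with hc | hc
      · exfalso
        refine hpN ((prime_dvd_card (K := A ⧸ Q) p).trans ?_)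
        have hcomm : (⊤ : Subgroup (SL2 (A ⧸ Q))).lowerCentralSeries 1 ≤ Y := by
          rw [Subgroup.top_lowerCentralSeries_one, commutator_def, Subgroup.commutator_le]
          intro a _ b _
          rw [← QuotientGroup.eq_one_iff]
          have key : ∀ z : SL2 (A ⧸ Q), ∃ l ∈ Cfsg.lowerUnipotentSL2 (A ⧸ Q),
              (QuotientGroup.mk z : (SL2 (A ⧸ Q)) ⧸ Y) = QuotientGroup.mk l := by
            intro z
            have hz : z ∈ (↑(Y ⊔ Cfsg.lowerUnipotentSL2 (A ⧸ Q)) : Set (SL2 (A ⧸ Q))) := by rw [hc]; exact Subgroup.mem_top z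
            rw [Subgroup.normal_mul] at hz
            obtain ⟨y, hy, l, hl, rfl⟩ := hz
            exact ⟨l, hl, by rw [QuotientGroup.mk_mul, (QuotientGroup.eq_one_iff y).mpr hy, one_mul]⟩
          obtain ⟨l, hl, ea⟩ := key a
          obtain ⟨l', hl', eb⟩ := key b
          obtain ⟨t, rfl⟩ := RootSub.mem_lower_iff.mp hl
          obtain ⟨t', rfl⟩ := RootSub.mem_lower_iff.mp hl'
          rw [show ((⁅a, b⁆ : SL2 (A ⧸ Q)) : (SL2 (A ⧸ Q)) ⧸ Y) = ⁅(QuotientGroup.mk a : (SL2 (A ⧸ Q)) ⧸ Y), QuotientGroup.mk b⁆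
            from map_commutatorElement (QuotientGroup.mk' Y) a b, ea, eb, commutatorElement_eq_one_iff_mul_comm,
            ← QuotientGroup.mk_mul, ← QuotientGroup.mk_mul, RootSub.loEl_mul, RootSub.loEl_mul, add_comm]
        rw [lcs_top h2 h3 _ rfl 1, top_le_iff] at hcomm
        rw [← Subgroup.card_top (G := SL2 (A ⧸ Q)), ← hcomm]
        exact Subgroup.card_map_dvd _ _
      · rw [hx, map_commutatorElement, commutatorElement_eq_one_iff_mul_comm]
        exact (Subgroup.mem_center_iff.mp (hc ⟨ν, hν, rfl⟩) _).symm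
    set M := x.1 - 1 with hM
    have hnil : ∀ i j, IsNilpotent (M i j) := by
      intro i j
      rw [← mem_nilradical, nilradical_eq_sInf, Submodule.mem_sInf]
      intro Q hQ
      have h := congrArg (fun g : SL2 (A ⧸ Q) => g.1 i j) (hent Q hQ)
      rw [← Ideal.Quotient.eq_zero_iff_mem, hM, Matrix.sub_apply, map_sub, sub_eq_zero]
      change Ideal.Quotient.mk Q (x.1 i j) = (1 : Matrix (Fin 2) (Fin 2) (A ⧸ Q)) i j at h
      rw [h, Matrix.one_apply, Matrix.one_apply]
      split <;> simp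
    have hMM : M * M = (M 0 0 + M 1 1) • M + -(M 0 0 * M 1 1 - M 0 1 * M 1 0) • (1 : Matrix (Fin 2) (Fin 2) A) := by
      ext i j
      fin_cases i <;> fin_cases j <;> simp [Matrix.mul_apply, Fin.sum_univ_two] <;> ring
    have hMnil : IsNilpotent M := by
      have htr : IsNilpotent (M 0 0 + M 1 1) := (Commute.all _ _).isNilpotent_add (hnil 0 0) (hnil 1 1)
      have hdt : IsNilpotent (-(M 0 0 * M 1 1 - M 0 1 * M 1 0)) :=
        ((Commute.all _ _).isNilpotent_sub ((Commute.all _ _).isNilpotent_mul_right (hnil 0 0))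
          ((Commute.all _ _).isNilpotent_mul_right (hnil 0 1))).neg
      have hA : IsNilpotent ((M 0 0 + M 1 1) • M) := by
        obtain ⟨n, hn⟩ := htr
        exact ⟨n, by rw [smul_pow, hn, zero_smul]⟩
      have hB : IsNilpotent (-(M 0 0 * M 1 1 - M 0 1 * M 1 0) • (1 : Matrix (Fin 2) (Fin 2) A)) := by
        obtain ⟨n, hn⟩ := hdt
        exact ⟨n, by rw [smul_pow, hn, zero_smul]⟩
      obtain ⟨n, hn⟩ := hMM ▸ ((Commute.one_right _).smul_right _).isNilpotent_add hA hB
      exact ⟨2 * n, by rw [pow_mul, pow_two, hn]⟩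
    obtain ⟨n, hn⟩ := hMnil
    refine hNone x hxN n (Subtype.ext ?_)
    rw [Matrix.SpecialLinearGroup.coe_pow, show x.1 = 1 + M by rw [hM, add_sub_cancel],
      add_pow_char_pow_of_commute (p := p) (n := n) (Commute.one_left M), one_pow,
      pow_eq_zero_of_le (Nat.lt_pow_self hpp.one_lt).le hn, add_zero, Matrix.SpecialLinearGroup.coe_one]
  have hptrick : ∀ u v : SL2 A, u ∈ H → v ∈ H → u ^ p = 1 → v ^ p = 1 → π u = π v → u = v := by
    intro u v hu hv hu1 hv1 he
    have hc : v * u⁻¹ ∈ N :=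
      Subgroup.mem_inf.mpr ⟨mul_mem hv (inv_mem hu), by rw [MonoidHom.mem_ker, map_mul, map_inv, he, mul_inv_cancel]⟩
    have hcm : Commute (v * u⁻¹) u := hNc _ hc _ hu
    have : (v * u⁻¹) ^ p = 1 := by
      have e := hcm.mul_pow p
      rw [inv_mul_cancel_right, hv1, hu1, mul_one] at e
      exact e.symm
    exact (mul_inv_eq_one.mp (hNone _ hc 1 (by rwa [pow_one]))).symm
  have hrup : ∀ z : A, ru z ^ p = 1 := fun z => by rw [ru_pow, CharP.cast_eq_zero, zero_mul, ru_zero]
  have hrlp : ∀ z : A, rl z ^ p = 1 := fun z => by rw [rl_pow, CharP.cast_eq_zero, zero_mul, rl_zero]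
  have hone : (1 : A) ∈ rUpper (k := k) α := one_mem_rUpper α
  set T := rUpper (k := k) α with hT
  have hlift : ∀ x : A ⧸ P, ∃ z ∈ T, mk z = x := by
    intro x
    obtain ⟨h, hh, he⟩ : ru x ∈ H.map π := hsurj ▸ Subgroup.mem_top _
    have hp1 : h ^ p ∈ N := Subgroup.mem_inf.mpr ⟨pow_mem hh p, by
      rw [MonoidHom.mem_ker, map_pow, he, ru_pow, CharP.cast_eq_zero, zero_mul, ru_zero]⟩
    set m := Nat.card N with hm
    have hcop : Nat.Coprime m p := (hpp.coprime_iff_not_dvd.mpr hpN).symm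
    have hm1 : (m ^ (p - 1) : ℕ) ≡ 1 [MOD p] := by
      have := Nat.ModEq.pow_totient hcop
      rwa [Nat.totient_prime hpp] at this
    set h' := h ^ m ^ (p - 1) with hh'
    have hp' : h' ^ p = 1 := by
      rw [hh', ← pow_mul, mul_comm, pow_mul]
      obtain ⟨l, hl⟩ : m ∣ m ^ (p - 1) := dvd_pow_self m (by have := hpp.two_le; omega)
      rw [hl, pow_mul, show (h ^ p) ^ m = 1 from congrArg Subtype.val (pow_card_eq_one' (x := (⟨_, hp1⟩ : N))),
        one_pow]
    have he' : π h' = ru x := by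
      rw [hh', map_pow, he, ru_pow, show ((m ^ (p - 1) : ℕ) : A ⧸ P) = ((1 : ℕ) : A ⧸ P) from
        (CharP.natCast_eq_natCast (A ⧸ P) p).mpr hm1, Nat.cast_one, one_mul]
    have hu1 : ru (1 : A) ∈ H := (mem_rUpper α).mp hone
    have hcomm : h' * ru 1 = ru 1 * h' := by
      have := hptrick (h' * ru 1 * h'⁻¹) (ru 1) (mul_mem (mul_mem (pow_mem hh _) hu1) (inv_mem (pow_mem hh _))) hu1
        (by rw [conj_pow, hrup, mul_one, mul_inv_cancel]) (hrup 1) (by
          rw [map_mul, map_mul, map_inv, he', hπ, map_ru, map_one, ru_mul, ru_inv, ru_mul]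
          congr 1; ring)
      exact mul_inv_eq_iff_eq_mul.mp this
    have heq := eq_ru_of_commute hodd (n := 1) (by rw [pow_one]; exact hp') hcomm
    refine ⟨h'.1 0 1, (mem_rUpper α).mpr (heq ▸ pow_mem hh _), ru_inj ?_⟩
    rw [← map_ru, ← heq, he']
  choose φ hφT hφ using hlift
  have hφu : ∀ z ∈ T, φ (mk z) = z := fun z hz => ru_inj (hptrick _ _ ((mem_rUpper α).mp (hφT _))
    ((mem_rUpper α).mp hz) (hrup _) (hrup _) (by rw [hπ, map_ru, map_ru, hφ]))
  have hφadd : ∀ x y, φ (x + y) = φ x + φ y := fun x y => by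
    conv_lhs => rw [← hφ x, ← hφ y, ← map_add]
    exact hφu _ (add_mem (hφT x) (hφT y))
  have hφsmul : ∀ (c : k) x, φ (c • x) = c • φ x := fun c x => by
    conv_lhs => rw [← hφ x, show c • mk (φ x) = mk (c • φ x) from
      (map_smul (Ideal.Quotient.mkₐ k P) c (φ x)).symm]
    exact hφu _ (Submodule.smul_mem _ _ (hφT x))
  have hφ1 : φ 1 = 1 := by
    conv_lhs => rw [← map_one mk]
    exact hφu 1 hone
  have hsq : ∀ (s x : A ⧸ P), s ≠ 0 → φ (s * s * x) = φ (s * s) * φ x := by
    intro s x hs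
    obtain ⟨d, hd'⟩ : ∃ d : SL2 (A ⧸ P), d.1 = !![s, 0; 0, s⁻¹] :=
      ⟨⟨!![s, 0; 0, s⁻¹], by simp [Matrix.det_fin_two, hs]⟩, rfl⟩
    obtain ⟨h, hh, he⟩ : d ∈ H.map π := hsurj ▸ Subgroup.mem_top _
    have key : ∀ y, h * ru (φ y) = ru (φ (s * s * y)) * h := by
      intro y
      have hy := (mem_rUpper α).mp (hφT y)
      have := hptrick (h * ru (φ y) * h⁻¹) (ru (φ (s * s * y))) (mul_mem (mul_mem hh hy) (inv_mem hh))
        ((mem_rUpper α).mp (hφT _)) (by rw [conj_pow, hrup, mul_one, mul_inv_cancel]) (hrup _) (by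
          rw [map_mul, map_mul, map_inv, he, hπ, map_ru, map_ru, hφ, hφ]
          refine mul_inv_eq_iff_eq_mul.mpr (Subtype.ext ?_)
          rw [Matrix.SpecialLinearGroup.coe_mul, Matrix.SpecialLinearGroup.coe_mul, ru_coe, ru_coe, hd']
          ext i j
          fin_cases i <;> fin_cases j <;> simp [Matrix.mul_apply, Fin.sum_univ_two] <;> field_simp)
      exact mul_inv_eq_iff_eq_mul.mp this
    obtain ⟨a1, -, a3⟩ := shape_of_ru (hφ1 ▸ key 1)
    rw [mul_one] at a1
    rw [mul_one, mul_one] at a3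
    obtain ⟨-, -, b3⟩ := shape_of_ru (key x)
    have hd := h.2
    rw [Matrix.det_fin_two, a1, mul_zero, sub_zero] at hd
    linear_combination (φ (s * s) * φ x - φ (s * s * x)) * hd - h.1 0 0 * b3 +
      (h.1 0 0 * φ x) * a3
  have hne2 : (2 : A ⧸ P) ≠ 0 := by
    rw [← map_ofNat (algebraMap k (A ⧸ P)) 2]
    exact (map_ne_zero _).mpr h2
  have hsq' : ∀ (s x : A ⧸ P), φ (s * s * x) = φ (s * s) * φ x := by
    intro s x
    rcases eq_or_ne s 0 with rfl | hs
    · have h0 : φ 0 = 0 := by simpa using hφadd 0 0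
      simp [h0]
    · exact hsq s x hs
  have hmul : ∀ x y : A ⧸ P, φ (x * y) = φ x * φ y := by
    intro x y
    set u := (x + 1) / 2
    set v := (x - 1) / 2
    have hxe : x = u * u - v * v := by simp only [u, v]; field_simp; ring
    have hsub : ∀ a b, φ (a - b) = φ a - φ b := fun a b => by
      have := hφadd (a - b) b
      rw [sub_add_cancel] at this
      exact eq_sub_of_add_eq this.symm
    rw [hxe, sub_mul, hsub, hsub, hsq', hsq', sub_mul]
  set t := mk (α : A) with ht
  have ht0 : t ≠ 0 := (α.isUnit.map mk).ne_zero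
  have hφα : φ t = (α : A) := by
    set n : SL2 A := ru 1 * rl ((α : A) * φ (-t⁻¹)) * ru 1 with hn
    have hu1 : ru (1 : A) ∈ H := (mem_rUpper α).mp hone
    have hnH : n ∈ H := mul_mem (mul_mem hu1 (rl_mem_of_upper α (hφT _))) hu1
    have hlH : rl ((α : A) * φ (-t⁻¹)) ∈ H := rl_mem_of_upper α (hφT _)
    have he := hptrick (n * ru 1 * n⁻¹) (rl ((α : A) * φ (-t⁻¹))) (mul_mem (mul_mem hnH hu1) (inv_mem hnH)) hlH
      (by rw [conj_pow, hrup, mul_one, mul_inv_cancel]) (hrlp _) (by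
        rw [hn, map_mul, map_mul, map_mul, map_mul, map_inv, map_mul, map_mul, hπ, map_ru, map_rl, map_mul,
          hφ, map_one, mul_neg, ← ht, mul_inv_cancel₀ ht0, mul_inv_eq_iff_eq_mul]
        apply Subtype.ext
        simp only [Matrix.SpecialLinearGroup.coe_mul, ru_coe, rl_coe]
        ext i j
        fin_cases i <;> fin_cases j <;> simp [Matrix.mul_apply, Fin.sum_univ_two] <;> ring)
    have h00 := shape_of_rl (mul_inv_eq_iff_eq_mul.mp he)
    rw [hn] at h00
    simp only [Matrix.SpecialLinearGroup.coe_mul, ru_coe, rl_coe] at h00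
    simp [Matrix.mul_apply, Fin.sum_univ_two] at h00
    have e := hmul t (-t⁻¹)
    rw [mul_neg, mul_inv_cancel₀ ht0] at e
    have hneg : φ (-1) = -1 := by
      have := hφsmul (-1) 1
      rwa [neg_one_smul, neg_one_smul, hφ1] at this
    rw [hneg] at e
    linear_combination (α : A) * e + φ t * h00
  let Φ : (A ⧸ P) →ₐ[k] A :=
    { toFun := φ
      map_one' := hφ1
      map_mul' := hmul
      map_zero' := by simpa using hφadd 0 0
      map_add' := hφadd
      commutes' := fun c => by rw [Algebra.algebraMap_eq_smul_one, hφsmul, hφ1, ← Algebra.algebraMap_eq_smul_one] }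
  have hΦs : Function.Surjective Φ := by
    rw [← AlgHom.range_eq_top, eq_top_iff, ← pb.adjoin_gen_eq_top, Algebra.adjoin_le_iff, Set.singleton_subset_iff, hg]
    exact ⟨t, hφα⟩
  obtain ⟨y, hy⟩ := hΦs x₀
  refine hx₀u (hy ▸ (IsUnit.map Φ ?_))
  exact isUnit_iff_ne_zero.mpr fun h => hx₀ (by rw [← hy, h, map_zero])

end Main

end Cfsg.Lib.QuadPair
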