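import Cfsg.Agent.RootSub.QuadPair.Split

/-!
# Every quadratic element lies in the group of the root subgroups or centralises it
-/

set_option autoImplicit false
set_option linter.unusedSectionVars false
set_option linter.unusedVariables false
set_option linter.unusedSimpArgs false
set_option linter.style.haveILetI false

open Cfsg
open scoped commutatorElement

namespace Cfsg.Lib.QuadPair

section Partners

variable {Γ : Type*} [Group Γ] {S : Set (Subgroup Γ)} {A B : Subgroup Γ} {g : Γ}

theorem partners_conj (hS : ∀ C ∈ S, conjBy C g ∈ S ∧ conjBy C g⁻¹ ∈ S) :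
    rankOnePartners S (conjBy A g) = (fun C => conjBy C g) '' rankOnePartners S A := by
  have e1 : ∀ C : Subgroup Γ, conjBy (conjBy C g⁻¹) g = C := fun C => by
    rw [RootSub.conjBy_conjBy, mul_inv_cancel, RootSub.conjBy_one]
  have e2 : ∀ C : Subgroup Γ, conjBy (conjBy C g) g⁻¹ = C := fun C => by
    rw [RootSub.conjBy_conjBy, inv_mul_cancel, RootSub.conjBy_one]
  ext C
  constructor
  · rintro ⟨hC, hp⟩
    refine ⟨conjBy C g⁻¹, ⟨(hS C hC).2, ?_⟩, e1 C⟩
    have := RootSub.conj_pair hp g⁻¹
    rwa [e2] at this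
  · rintro ⟨C', ⟨hC', hp⟩, rfl⟩
    exact ⟨(hS C' hC').1, RootSub.conj_pair hp g⟩

theorem partners_conj_congr (hS : ∀ C ∈ S, conjBy C g ∈ S ∧ conjBy C g⁻¹ ∈ S)
    (h : rankOnePartners S A = rankOnePartners S B) :
    rankOnePartners S (conjBy A g) = rankOnePartners S (conjBy B g) := by
  rw [partners_conj hS, partners_conj hS, h]

theorem not_pair_of_partners (hB : B ∈ S) (h : rankOnePartners S A = rankOnePartners S B) : ¬ IsRankOnePair A B := by
  intro hp
  have : B ∈ rankOnePartners S B := h ▸ ⟨hB, hp⟩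
  exact this.2.ne rfl

end Partners

variable {k : Type*} [Field k] {M : Type*} [AddCommGroup M] [Module k M] [FiniteDimensional k M]

local notation "End'" => (M →ₗ[k] M)
local notation "GL'" => LinearMap.GeneralLinearGroup k M

variable {G : Subgroup (LinearMap.GeneralLinearGroup k M)} {a c u v m : M →ₗ[k] M}

/-- The group generated by the root subgroups. -/
def rootGroup (G : Subgroup (LinearMap.GeneralLinearGroup k M)) : Subgroup (LinearMap.GeneralLinearGroup k M) :=
  ⨆ A ∈ quadraticRootSubgroups G, A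

theorem roots_closed {g : GL'} (hg : g ∈ G) : ∀ C ∈ quadraticRootSubgroups G,
    conjBy C g ∈ quadraticRootSubgroups G ∧ conjBy C g⁻¹ ∈ quadraticRootSubgroups G :=
  fun C hC => ⟨conj_mem_roots hC hg, conj_mem_roots hC (inv_mem hg)⟩

theorem rootOf_le_rootGroup (ha : MinEl G a) : rootOf ha ≤ rootGroup G :=
  le_iSup₂ (f := fun A _ => A) _ (rootOf_mem ha)

theorem rootGroup_normal {g : GL'} (hg : g ∈ G) : conjBy (rootGroup G) g = rootGroup G := by
  have hle : ∀ g ∈ G, conjBy (rootGroup G) g ≤ rootGroup G := by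
    intro g hg
    rw [Subgroup.map_le_iff_le_comap, rootGroup]
    refine iSup₂_le fun A hA => Subgroup.map_le_iff_le_comap.mp ?_
    exact le_iSup₂ (f := fun A _ => A) _ (conj_mem_roots hA hg)
  refine le_antisymm (hle g hg) ?_
  have h1 := Subgroup.map_mono (f := (MulAut.conj g).toMonoidHom) (hle g⁻¹ (inv_mem hg))
  refine le_trans (le_of_eq ?_) h1
  show rootGroup G = conjBy (conjBy (rootGroup G) g⁻¹) g
  rw [RootSub.conjBy_conjBy, mul_inv_cancel, RootSub.conjBy_one]

/-! ### The elements preserving all classes -/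

/-- The stabiliser of the class of `A`. -/
def classStab (G : Subgroup (LinearMap.GeneralLinearGroup k M)) {A : Subgroup (LinearMap.GeneralLinearGroup k M)}
    (hA : A ∈ quadraticRootSubgroups G) : Subgroup (LinearMap.GeneralLinearGroup k M) where
  carrier := {g | g ∈ G ∧
    rankOnePartners (quadraticRootSubgroups G) (conjBy A g) = rankOnePartners (quadraticRootSubgroups G) A}
  one_mem' := ⟨one_mem G, by rw [RootSub.conjBy_one]⟩
  mul_mem' := by
    rintro g h ⟨hg, hg'⟩ ⟨hh, hh'⟩
    refine ⟨mul_mem hg hh, ?_⟩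
    rw [← RootSub.conjBy_conjBy, partners_conj_congr (roots_closed hg) hh', hg']
  inv_mem' := by
    rintro g ⟨hg, hg'⟩
    refine ⟨inv_mem hg, ?_⟩
    have := partners_conj_congr (A := conjBy A g) (roots_closed (inv_mem hg)) hg'
    rw [RootSub.conjBy_conjBy, inv_mul_cancel, RootSub.conjBy_one] at this
    exact this.symm

/-- The elements preserving every class. -/
def classKernel (G : Subgroup (LinearMap.GeneralLinearGroup k M)) : Subgroup (LinearMap.GeneralLinearGroup k M) :=
  G ⊓ ⨅ A : quadraticRootSubgroups G, classStab G A.2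

theorem mem_classKernel {g : GL'} : g ∈ classKernel G ↔ g ∈ G ∧ ∀ A ∈ quadraticRootSubgroups G,
    rankOnePartners (quadraticRootSubgroups G) (conjBy A g) = rankOnePartners (quadraticRootSubgroups G) A := by
  rw [classKernel, Subgroup.mem_inf, Subgroup.mem_iInf]
  exact ⟨fun h => ⟨h.1, fun A hA => (h.2 ⟨A, hA⟩).2⟩, fun h => ⟨h.1, fun A => ⟨h.1, h.2 A.1 A.2⟩⟩⟩

theorem classKernel_conj {g n : GL'} (hg : g ∈ G) (hn : n ∈ classKernel G) : g * n * g⁻¹ ∈ classKernel G := by
  rw [mem_classKernel] at hn ⊢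
  refine ⟨mul_mem (mul_mem hg hn.1) (inv_mem hg), fun A hA => ?_⟩
  rw [← RootSub.conjBy_conjBy, ← RootSub.conjBy_conjBy,
    partners_conj_congr (roots_closed hg) (hn.2 _ (conj_mem_roots hA (inv_mem hg))), RootSub.conjBy_conjBy,
    mul_inv_cancel, RootSub.conjBy_one]

/-- The group generated by the class of `A`. -/
def classGroup (G : Subgroup (LinearMap.GeneralLinearGroup k M)) (A : Subgroup (LinearMap.GeneralLinearGroup k M)) :
    Subgroup (LinearMap.GeneralLinearGroup k M) :=
  ⨆ B ∈ {B | B ∈ quadraticRootSubgroups G ∧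
    rankOnePartners (quadraticRootSubgroups G) B = rankOnePartners (quadraticRootSubgroups G) A}, B

theorem classGroup_conj {A : Subgroup GL'} (hA : A ∈ quadraticRootSubgroups G) {g : GL'} (hg : g ∈ G) :
    conjBy (classGroup G A) g = classGroup G (conjBy A g) := by
  have hle : ∀ g ∈ G, ∀ A ∈ quadraticRootSubgroups G, conjBy (classGroup G A) g ≤ classGroup G (conjBy A g) := by
    intro g hg A hA
    rw [Subgroup.map_le_iff_le_comap, classGroup]
    refine iSup₂_le fun B hB => Subgroup.map_le_iff_le_comap.mp ?_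
    exact le_iSup₂ (f := fun A _ => A) _ (show conjBy B g ∈ {B | B ∈ quadraticRootSubgroups G ∧
      rankOnePartners (quadraticRootSubgroups G) B = rankOnePartners (quadraticRootSubgroups G) (conjBy A g)} from
      ⟨conj_mem_roots hB.1 hg, partners_conj_congr (roots_closed hg) hB.2⟩)
  refine le_antisymm (hle g hg A hA) ?_
  have h1 := hle g⁻¹ (inv_mem hg) _ (conj_mem_roots hA hg)
  rw [RootSub.conjBy_conjBy, inv_mul_cancel, RootSub.conjBy_one] at h1
  have h2 := Subgroup.map_mono (f := (MulAut.conj g).toMonoidHom) h1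
  refine le_trans (le_of_eq ?_) h2
  show classGroup G (conjBy A g) = conjBy (conjBy (classGroup G (conjBy A g)) g⁻¹) g
  rw [RootSub.conjBy_conjBy, mul_inv_cancel, RootSub.conjBy_one]

theorem classGroup_unipotent (h2 : (2 : k) ≠ 0) (h3 : Nat.card k ≠ 3) {A : Subgroup GL'}
    (hA : A ∈ quadraticRootSubgroups G) : IsUnipotentOn (classGroup G A) := by
  refine RootSub.isUnipotentOn_family (G := classGroup G A) (fun B hB => le_iSup₂ (f := fun A _ => A) B hB) ?_ ?_
  · intro B hB C hC
    obtain ⟨b, hb, rfl⟩ := exists_root hB.1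
    obtain ⟨d, hd, rfl⟩ := exists_root hC.1
    have hnp := not_pair_of_partners hC.1 (hB.2.trans hC.2.symm)
    rw [pair_iff h2 h3 hb hd, not_not] at hnp
    exact root_unipotent h2 h3 hb hd hnp
  · intro B hB g hg
    have hK : classGroup G A ≤ classStab G hA := by
      rw [classGroup]
      refine iSup₂_le fun C hC x hx => ⟨mem_le hC.1 hx, ?_⟩
      rw [partners_conj_congr (roots_closed (mem_le hC.1 hx)) hC.2.symm, RootSub.conjBy_self hx, hC.2]
    obtain ⟨hgG, hgA⟩ := hK hg
    exact ⟨conj_mem_roots hB.1 hgG, (partners_conj_congr (roots_closed hgG) hB.2).trans hgA⟩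

theorem classKernel_centralizes (h2 : (2 : k) ≠ 0) (h3 : Nat.card k ≠ 3) (hs : Semi G) :
    classKernel G ≤ Subgroup.centralizer (rootGroup G : Set GL') := by
  obtain ⟨W, hW⟩ : ∃ W : Set (Subgroup GL'),
      W = {V | ∃ A ∈ quadraticRootSubgroups G, V = classGroup G A ⊓ classKernel G} := ⟨_, rfl⟩
  have hWG : ∀ V ∈ W, V ≤ G := by
    rw [hW]
    rintro _ ⟨A, hA, rfl⟩
    exact inf_le_right.trans inf_le_left
  have hnorm : ∀ A ∈ quadraticRootSubgroups G, ∀ g ∈ classKernel G,
      conjBy (classGroup G A ⊓ classKernel G) g = classGroup G A ⊓ classKernel G := by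
    intro A hA g hg
    have hgG := (mem_classKernel.mp hg).1
    rw [conjBy, Subgroup.map_inf _ _ _ (MulAut.conj g).injective]
    show conjBy (classGroup G A) g ⊓ conjBy (classKernel G) g = _
    rw [classGroup_conj hA hgG]
    have e1 : classGroup G (conjBy A g) = classGroup G A := by
      rw [classGroup, classGroup, (mem_classKernel.mp hg).2 A hA]
    rw [e1]
    congr 1
    exact RootSub.conjBy_self hg
  have hWW : ∀ V ∈ W, ∀ V' ∈ W, IsUnipotentOn (V ⊔ V') := by
    rw [hW]
    rintro _ ⟨A, hA, rfl⟩ _ ⟨B, hB, rfl⟩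
    refine RootSub.isUnipotentOn_sup (RootSub.IsUnipotentOn.mono (classGroup_unipotent h2 h3 hA) inf_le_left)
      (RootSub.IsUnipotentOn.mono (classGroup_unipotent h2 h3 hB) inf_le_left) fun g hg => ?_
    rw [← RootSub.conjBy_eq_self_iff]
    exact hnorm A hA g (Subgroup.mem_inf.mp hg).2
  have hkn : ∀ g ∈ G, conjBy (classKernel G) g = classKernel G := by
    intro g hg
    ext x
    rw [RootSub.mem_conjBy]
    constructor
    · intro hx
      have := classKernel_conj hg hx
      simpa [mul_assoc] using this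
    · intro hx
      have := classKernel_conj (inv_mem hg) hx
      simpa [mul_assoc] using this
  have hWc : ∀ V ∈ W, ∀ g ∈ G, conjBy V g ∈ W := by
    rw [hW]
    rintro _ ⟨A, hA, rfl⟩ g hg
    refine ⟨conjBy A g, conj_mem_roots hA hg, ?_⟩
    rw [conjBy, Subgroup.map_inf _ _ _ (MulAut.conj g).injective]
    show conjBy (classGroup G A) g ⊓ conjBy (classKernel G) g = _
    rw [classGroup_conj hA hg]
    congr 1
    exact hkn g hg
  obtain ⟨U, hU⟩ : ∃ U : Subgroup GL', U = ⨆ V ∈ W, V := ⟨_, rfl⟩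
  have hUbot : U = ⊥ := by
    refine semi_unipotent_trivial hs (hU ▸ iSup₂_le hWG) ?_ (hU ▸ RootSub.isUnipotentOn_family hWG hWW hWc)
    intro g hg
    suffices hle : U ≤ conjBy U g from fun u hu => RootSub.mem_conjBy.mp (hle hu)
    conv_lhs => rw [hU]
    refine iSup₂_le fun V hV => ?_
    have h1 : V = conjBy (conjBy V g⁻¹) g := by rw [RootSub.conjBy_conjBy, mul_inv_cancel, RootSub.conjBy_one]
    rw [h1]
    exact Subgroup.map_mono (hU ▸ le_iSup₂ (f := fun B _ => B) _ (hWc V hV _ (inv_mem hg)))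
  intro n hn
  suffices hle : rootGroup G ≤ Subgroup.centralizer {n} from
    Subgroup.mem_centralizer_iff.mpr fun x hx => Subgroup.mem_centralizer_singleton_iff.mp (hle hx)
  rw [rootGroup]
  refine iSup₂_le fun A hA x hx => Subgroup.mem_centralizer_singleton_iff.mpr ?_
  have hnG := (mem_classKernel.mp hn).1
  have hm : n * x * n⁻¹ * x⁻¹ ∈ classGroup G A ⊓ classKernel G := by
    refine Subgroup.mem_inf.mpr ⟨mul_mem ?_ (inv_mem ?_), ?_⟩
    · refine le_iSup₂ (f := fun A _ => A) (conjBy A n) (show conjBy A n ∈ {B | B ∈ quadraticRootSubgroups G ∧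
        rankOnePartners (quadraticRootSubgroups G) B = rankOnePartners (quadraticRootSubgroups G) A} from
        ⟨conj_mem_roots hA hnG, (mem_classKernel.mp hn).2 A hA⟩) ?_
      rw [RootSub.mem_conjBy]
      simpa [mul_assoc] using hx
    · exact le_iSup₂ (f := fun A _ => A) A (show A ∈ {B | B ∈ quadraticRootSubgroups G ∧
        rankOnePartners (quadraticRootSubgroups G) B = rankOnePartners (quadraticRootSubgroups G) A} from ⟨hA, rfl⟩) hx
    · rw [show n * x * n⁻¹ * x⁻¹ = n * (x * n⁻¹ * x⁻¹) by group]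
      exact mul_mem hn (classKernel_conj (mem_le hA hx) (inv_mem hn))
  have hVU : classGroup G A ⊓ classKernel G ≤ U :=
    hU ▸ le_iSup₂ (f := fun B _ => B) _ (by rw [hW]; exact ⟨A, hA, rfl⟩)
  have h1 := hVU hm
  rw [hUbot, Subgroup.mem_bot] at h1
  have : ⁅n, x⁆ = 1 := by rw [commutatorElement_def]; exact h1
  exact (commutatorElement_eq_one_iff_mul_comm.mp this).symm

/-! ### Elements annihilated between all elements of smallest rank -/

theorem pair_mid_iff (h2 : (2 : k) ≠ 0) (ha : MinEl G a) (hc : MinEl G c) : IsNilpotent (a * c) ↔ c * a * c = 0 :=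
  ⟨fun h => (nilpotent_pair h2 ha hc h).2, fun h => ⟨2, by rw [pow_two, mul_assoc, ← mul_assoc c, h, mul_zero]⟩⟩

theorem centralizes_of_sandwich (h2 : (2 : k) ≠ 0) (h3 : Nat.card k ≠ 3) (hs : Semi G) (hu : Fam G u)
    (hall : ∀ a, MinEl G a → a * u * a = 0) :
    xu u hu.sq ∈ Subgroup.centralizer (rootGroup G : Set GL') := by
  have hg := hu.xu_mem_one
  have key1 : ∀ a c, MinEl G a → MinEl G c → a * (u * c - c * u) * a = 0 := by
    intro a c ha hc
    have hz := hall _ (ha.conj hc.toFam.xu_mem_one)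
    rw [xu_val, xu_inv] at hz
    have h5 : (1 - c) * ((1 + c) * a * (1 - c) * u * ((1 + c) * a * (1 - c))) * (1 + c) = 0 := by
      rw [hz, mul_zero, zero_mul]
    rw [show (1 - c) * ((1 + c) * a * (1 - c) * u * ((1 + c) * a * (1 - c))) * (1 + c) =
      ((1 - c) * (1 + c)) * (a * ((1 - c) * u * (1 + c)) * a) * ((1 - c) * (1 + c)) by simp only [mul_assoc],
      show (1 - c) * (1 + c) = 1 - c * c by noncomm_ring, hc.sq, sub_zero, one_mul, mul_one,
      show (1 - c) * u * (1 + c) = u + (u * c - c * u) - c * u * c by noncomm_ring, hall c hc, sub_zero,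
      mul_add, add_mul, hall a ha, zero_add] at h5
    exact h5
  have key2 : ∀ a c, MinEl G a → MinEl G c → a * (u * c * u) * a = 0 := by
    intro a c ha hc
    have h5 := key1 a _ ha (hc.conj hg)
    rw [conj_one_add] at h5
    have e : u * (c + (u * c - c * u) - u * c * u) - (c + (u * c - c * u) - u * c * u) * u =
        (u * c - c * u) - (2 : k) • (u * c * u) := by
      rw [two_smul, show u * (c + (u * c - c * u) - u * c * u) - (c + (u * c - c * u) - u * c * u) * u =
        (u * c - c * u) + (u * u) * c - (u * u) * (c * u) + c * (u * u) + u * c * (u * u) - (u * c * u + u * c * u) by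
        noncomm_ring, hu.sq]
      simp
    rw [e, mul_sub, sub_mul, key1 a c ha hc, zero_sub, neg_eq_zero, mul_smul_comm, smul_mul_assoc, smul_eq_zero]
      at h5
    exact h5.resolve_left h2
  refine classKernel_centralizes h2 h3 hs (mem_classKernel.mpr ⟨hg, fun A hA => ?_⟩)
  obtain ⟨a, ha, rfl⟩ := exists_root hA
  rw [rootOf_conj ha hg]
  ext C
  refine and_congr_right fun hC => ?_
  obtain ⟨c, hc, rfl⟩ := exists_root hC
  rw [pair_iff h2 h3 _ hc, pair_iff h2 h3 ha hc, pair_mid_iff h2 (ha.conj hg) hc, pair_mid_iff h2 ha hc,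
    conj_one_add, show c * (a + (u * a - a * u) - u * a * u) * c =
      c * a * c + c * (u * a - a * u) * c - c * (u * a * u) * c by noncomm_ring, key1 c a hc ha, key2 c a hc ha,
    add_zero, sub_zero]

/-- An element commuting with `H` which kills an element of `H` vanishes. -/
theorem no_mix (hs : Semi G) {H : Subgroup GL'} (hHG : H ≤ G)
    (hgen : G ≤ H ⊔ Subgroup.centralizer (H : Set GL')) {g : GL'} (hgH : g ∈ H) (hg1 : (g : End') - 1 ≠ 0)
    (hvH : ∀ h ∈ H, (h : End') * v = v * (h : End')) (hvg : v * ((g : End') - 1) = 0) : v = 0 := by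
  obtain ⟨S, hS⟩ : ∃ S : Submodule k M, S = ⨆ h ∈ H, LinearMap.range (((h * g * h⁻¹ : GL') : End') - 1) := ⟨_, rfl⟩
  have hker : S ≤ LinearMap.ker v := by
    rw [hS]
    refine iSup₂_le fun h hh => range_le_of_mul_eq_zero ?_
    rw [Units.val_mul, Units.val_mul, show (h : End') * g * ↑h⁻¹ - 1 = (h : End') * ((g : End') - 1) * ↑h⁻¹ by
      rw [mul_sub, sub_mul, mul_one, Units.mul_inv], ← mul_assoc, ← mul_assoc, ← hvH h hh, mul_assoc (h : End') v, hvg,
      mul_zero, zero_mul]
  let N : Subgroup GL' :=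
    { carrier := {x | (∀ w ∈ S, (x : End') w ∈ S) ∧ ∀ w ∈ S, (↑x⁻¹ : End') w ∈ S}
      one_mem' := by simp
      inv_mem' := fun {x} hx => ⟨hx.2, by rw [inv_inv]; exact hx.1⟩
      mul_mem' := fun {x y} hx hy => ⟨fun w hw => by rw [Units.val_mul]; exact hx.1 _ (hy.1 w hw), fun w hw => by
        rw [_root_.mul_inv_rev, Units.val_mul]; exact hy.2 _ (hx.2 w hw)⟩ }
  have hmove : ∀ x : GL', (∀ h ∈ H, ∃ h' ∈ H, x * (h * g * h⁻¹) * x⁻¹ = h' * g * h'⁻¹) →
      ∀ w ∈ S, (x : End') w ∈ S := by
    intro x hx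
    suffices hle : S ≤ S.comap (x : End') from fun w hw => hle hw
    conv_lhs => rw [hS]
    refine iSup₂_le fun h hh => ?_
    rintro _ ⟨w, rfl⟩
    obtain ⟨h', hh', e⟩ := hx h hh
    rw [Submodule.mem_comap, hS]
    refine Submodule.mem_iSup_of_mem h' (Submodule.mem_iSup_of_mem hh' ⟨(x : End') w, ?_⟩)
    rw [← e, ← Module.End.mul_apply, ← Module.End.mul_apply]
    congr 1
    rw [Units.val_mul (x * (h * g * h⁻¹)) x⁻¹, Units.val_mul x, sub_mul, one_mul, mul_sub, mul_one,
      Units.inv_mul_cancel_right]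
  have hH : H ≤ N := by
    have : ∀ x ∈ H, ∀ w ∈ S, (x : End') w ∈ S := fun x hx => hmove x fun h hh =>
      ⟨x * h, mul_mem hx hh, by group⟩
    exact fun x hx => ⟨this x hx, this _ (inv_mem hx)⟩
  have hC : Subgroup.centralizer (H : Set GL') ≤ N := by
    have : ∀ x ∈ Subgroup.centralizer (H : Set GL'), ∀ w ∈ S, (x : End') w ∈ S := fun x hx => hmove x fun h hh =>
      ⟨h, hh, by
        have hc := Subgroup.mem_centralizer_iff.mp hx _ (mul_mem (mul_mem hh hgH) (inv_mem hh))
        rw [← hc, mul_inv_cancel_right]⟩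
    exact fun x hx => ⟨this x hx, this _ (inv_mem hx)⟩
  rcases hs.2 S (fun x hx => ((hgen.trans (sup_le hH hC)) hx).1)
    (fun x hx => (hC (Subgroup.centralizer_le (SetLike.coe_subset_coe.mpr hHG) hx)).1) with h0 | h0
  · refine absurd ?_ hg1
    have h1 : LinearMap.range ((g : End') - 1) ≤ S := by
      rw [hS]
      intro w hw
      exact Submodule.mem_iSup_of_mem 1 (Submodule.mem_iSup_of_mem (one_mem H) (by simpa using hw))
    rw [h0, le_bot_iff, LinearMap.range_eq_bot] at h1
    exact h1
  · exact LinearMap.ker_eq_top.mp (top_le_iff.mp (h0 ▸ hker))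

theorem commute_val {H : Subgroup GL'} (hv : v * v = 0) (h : xu v hv ∈ Subgroup.centralizer (H : Set GL')) :
    ∀ x ∈ H, (x : End') * v = v * (x : End') := by
  intro x hx
  have h1 := unit_commute_iff.mp (Subgroup.mem_centralizer_iff.mp h x hx)
  rw [xu_sub_one] at h1
  rw [← sub_add_cancel (x : End') 1, add_mul, mul_add, h1, one_mul, mul_one]

/-- A quadratic element lies in the group of the root subgroups or centralises it. -/
theorem dichotomy (h2 : (2 : k) ≠ 0) (h3 : Nat.card k ≠ 3) (hs : Semi G)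
    (hq : Subgroup.closure (quadraticElements G) = G) :
    G ≤ rootGroup G ⊔ (G ⊓ Subgroup.centralizer (rootGroup G : Set GL')) ∧
      ∀ (u : End') (hu : Fam G u), xu u hu.sq ∈ rootGroup G ∨
        xu u hu.sq ∈ Subgroup.centralizer (rootGroup G : Set GL') := by
  have hsplit : ∀ (n : ℕ) (u : End') (hu : Fam G u), rk u ≤ n →
      xu u hu.sq ∈ rootGroup G ⊔ (G ⊓ Subgroup.centralizer (rootGroup G : Set GL')) := by
    intro n
    induction n using Nat.strong_induction_on with
    | _ n ih =>
      intro u hu hle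
      by_cases hall : ∀ a, MinEl G a → IsNilpotent (a * u)
      · exact Subgroup.mem_sup_right (Subgroup.mem_inf.mpr ⟨hu.xu_mem_one,
          centralizes_of_sandwich h2 h3 hs hu fun a ha => sandwich h2 ha hu (hall a ha)⟩)
      · push Not at hall
        obtain ⟨a, ha, hn⟩ := hall
        obtain ⟨w, hw, hF, hw1, hw2, hlt, -⟩ := split_step h2 h3 ha hu hn
        have e : xu u hu.sq = xu w hw.sq * xu (u - w) hF.sq := Units.ext (by
          rw [Units.val_mul, xu_val, xu_val, xu_val,
            show (1 + w) * (1 + (u - w)) = 1 + u + w * (u - w) by noncomm_ring, hw1, add_zero])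
        rw [e]
        exact mul_mem (Subgroup.mem_sup_left (rootOf_le_rootGroup hw (xu_mem_rootOf hw (Same.refl hw))))
          (ih (rk (u - w)) (lt_of_lt_of_le hlt hle) _ hF le_rfl)
  have hgen : G ≤ rootGroup G ⊔ (G ⊓ Subgroup.centralizer (rootGroup G : Set GL')) := by
    conv_lhs => rw [← hq]
    rw [Subgroup.closure_le]
    intro σ hσ
    obtain ⟨hF, -⟩ := mem_quadraticElements.mp hσ
    have := hsplit _ _ hF le_rfl
    rwa [show xu ((σ : End') - 1) hF.sq = σ from Units.ext (by rw [xu_val, add_sub_cancel])] at this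
  have hgen' : G ≤ rootGroup G ⊔ Subgroup.centralizer (rootGroup G : Set GL') :=
    hgen.trans (sup_le_sup_left inf_le_right _)
  refine ⟨hgen, ?_⟩
  suffices key : ∀ (n : ℕ) (u : End') (hu : Fam G u), rk u ≤ n →
      xu u hu.sq ∈ rootGroup G ∨ xu u hu.sq ∈ Subgroup.centralizer (rootGroup G : Set GL') from
    fun u hu => key _ u hu le_rfl
  intro n
  induction n using Nat.strong_induction_on with
  | _ n ih =>
    intro u hu hle
    by_cases hall : ∀ a, MinEl G a → IsNilpotent (a * u)
    · exact Or.inr (centralizes_of_sandwich h2 h3 hs hu fun a ha => sandwich h2 ha hu (hall a ha))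
    · push Not at hall
      obtain ⟨a, ha, hn⟩ := hall
      obtain ⟨w, hw, hF, hw1, hw2, hlt, -⟩ := split_step h2 h3 ha hu hn
      have e : xu u hu.sq = xu w hw.sq * xu (u - w) hF.sq := Units.ext (by
        rw [Units.val_mul, xu_val, xu_val, xu_val,
          show (1 + w) * (1 + (u - w)) = 1 + u + w * (u - w) by noncomm_ring, hw1, add_zero])
      have hwm := rootOf_le_rootGroup hw (xu_mem_rootOf hw (Same.refl hw))
      refine Or.inl (e ▸ mul_mem hwm ?_)
      rcases ih (rk (u - w)) (lt_of_lt_of_le hlt hle) _ hF le_rfl with h | h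
      · exact h
      · have h0 : u - w = 0 := no_mix hs sup_le_group hgen' hwm
          (by rw [xu_sub_one]; exact hw.ne) (commute_val hF.sq h) (by rw [xu_sub_one]; exact hw2)
        rw [show xu (u - w) hF.sq = 1 from Units.ext (by rw [xu_val, h0, add_zero, Units.val_one])]
        exact one_mem _

end Cfsg.Lib.QuadPair
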