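import Cfsg.Agent.RootSub.QuadPair.SpecialPair

/-!
# Commutators of two non-commuting elements with nilpotent product
-/

set_option autoImplicit false
set_option linter.unusedSectionVars false
set_option linter.unusedVariables false
set_option linter.unusedSimpArgs false
set_option linter.style.haveILetI false

open Cfsg
open scoped commutatorElement

namespace Cfsg.Lib.QuadPair

variable {k : Type*} [Field k] {M : Type*} [AddCommGroup M] [Module k M] [FiniteDimensional k M]

local notation "End'" => (M →ₗ[k] M)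
local notation "GL'" => LinearMap.GeneralLinearGroup k M

variable {G : Subgroup (LinearMap.GeneralLinearGroup k M)} {a b c x y z X : M →ₗ[k] M}

theorem MinEl.of_rk_le (ha : MinEl G a) (hx : Fam G x) (hx0 : x ≠ 0) (h : rk x ≤ rk a) : MinEl G x :=
  ⟨hx, hx0, fun z hz hz0 => h.trans (ha.min z hz hz0)⟩

theorem same_of_le (ha : MinEl G a) (hx : Fam G x) (hr : LinearMap.range x ≤ LinearMap.range a)
    (hk : LinearMap.ker a ≤ LinearMap.ker x) : Same G a x := by
  rcases eq_or_ne x 0 with h0 | h0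
  · exact Or.inl h0
  have hre := Submodule.eq_of_le_of_finrank_le hr (ha.min _ hx h0)
  refine Or.inr ⟨ha.of_rk_le hx h0 (Submodule.finrank_mono hr), (Submodule.eq_of_le_of_finrank_le hk ?_).symm, hre⟩
  have e1 := LinearMap.finrank_range_add_finrank_ker x
  have e2 := LinearMap.finrank_range_add_finrank_ker a
  rw [hre] at e1
  omega

theorem MinEl.neg (ha : MinEl G a) : MinEl G (-a) := ((Same.refl ha).neg.data (neg_ne_zero.mpr ha.ne)).1

theorem same_neg_iff : Same G (-a) x ↔ Same G a x :=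
  ⟨Same.trans (LinearMap.ker_neg a) (LinearMap.range_neg a),
    Same.trans (LinearMap.ker_neg a).symm (LinearMap.range_neg a).symm⟩

theorem CommPair.kerAB (h : CommPair G a b) : LinearMap.ker (a * b) = LinearMap.range a ⊔ LinearMap.ker b := by
  refine le_antisymm (fun v hv => ?_) (sup_le (range_le_of_mul_eq_zero h.aba) (ker_le_mul a b))
  rw [LinearMap.mem_ker, Module.End.mul_apply] at hv
  obtain ⟨w, hw⟩ : b v ∈ LinearMap.range (b * a) := h.rangeBA ▸ ⟨⟨v, rfl⟩, hv⟩
  refine Submodule.mem_sup.mpr ⟨a w, ⟨w, rfl⟩, v - a w, ?_, add_sub_cancel _ _⟩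
  rw [LinearMap.mem_ker, map_sub, ← hw, Module.End.mul_apply, sub_self]

theorem CommPair.zero (h : CommPair G a b) (ha : a * a = 0) (hb : b * b = 0) :
    (a * b - b * a) * a = 0 ∧ a * (a * b - b * a) = 0 ∧ (a * b - b * a) * b = 0 ∧ b * (a * b - b * a) = 0 := by
  refine ⟨?_, ?_, ?_, ?_⟩
  · rw [sub_mul, h.aba, mul_assoc, ha, mul_zero, sub_zero]
  · rw [mul_sub, ← mul_assoc, ha, zero_mul, ← mul_assoc, h.aba, sub_zero]
  · rw [sub_mul, h.bab, mul_assoc, hb, mul_zero, sub_zero]
  · rw [mul_sub, ← mul_assoc, h.bab, ← mul_assoc b b, hb, zero_mul, sub_zero]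

theorem CommPair.kerBA (h2 : (2 : k) ≠ 0) (ha : MinEl G a) (hb : MinEl G b) (hn : IsNilpotent (a * b))
    (hne : a * b ≠ b * a) : LinearMap.ker (b * a) = LinearMap.range b ⊔ LinearMap.ker a :=
  (commPair h2 hb ha (nilp_swap hn) hne.symm).kerAB

theorem commPair_spaces (h2 : (2 : k) ≠ 0) (ha : MinEl G a) (hb : MinEl G b) (hn : IsNilpotent (a * b))
    (hne : a * b ≠ b * a) :
    (∀ v ∈ LinearMap.ker (a * b - b * a), a v ∈ LinearMap.range (a * b - b * a)) ∧
      ∀ v ∈ LinearMap.ker (a * b - b * a), b v ∈ LinearMap.range (a * b - b * a) := by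
  have h := commPair h2 ha hb hn hne
  constructor
  · intro v hv
    rw [h.kerX, CommPair.kerBA h2 ha hb hn hne] at hv
    obtain ⟨_, ⟨w, rfl⟩, q, hq, rfl⟩ := Submodule.mem_sup.mp hv.2
    rw [map_add, LinearMap.mem_ker.mp hq, add_zero, h.rangeX]
    exact Submodule.mem_sup_left ⟨w, rfl⟩
  · intro v hv
    rw [h.kerX, h.kerAB] at hv
    obtain ⟨_, ⟨w, rfl⟩, q, hq, rfl⟩ := Submodule.mem_sup.mp hv.1
    rw [map_add, LinearMap.mem_ker.mp hq, add_zero, h.rangeX]
    exact Submodule.mem_sup_right ⟨w, rfl⟩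

/-- All commutators of the two classes have the same kernel and range. -/
theorem comm_spaces (h2 : (2 : k) ≠ 0) (h3 : Nat.card k ≠ 3) (ha : MinEl G a) (hb : MinEl G b)
    (hn : IsNilpotent (a * b)) (hne : a * b ≠ b * a) (hx : Same G a x) (hy : Same G b y) :
    Same G (a * b - b * a) (x * y - y * x) := by
  rcases eq_or_ne x 0 with rfl | hx0
  · exact Or.inl (by simp)
  rcases eq_or_ne y 0 with rfl | hy0
  · exact Or.inl (by simp)
  obtain ⟨mx, kx, rx⟩ := hx.data hx0
  obtain ⟨my, ky, ry⟩ := hy.data hy0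
  have hne' : x * y ≠ y * x := fun h => hne (commute_all h2 h3 mx my h ((Same.refl ha).trans kx.symm rx.symm)
    ((Same.refl hb).trans ky.symm ry.symm))
  have hn' := nilp_congr h2 h3 ha hb hn hx hy
  have P := commPair h2 ha hb hn hne
  have P' := commPair h2 mx my hn' hne'
  refine Or.inr ⟨P'.minX, ?_, ?_⟩
  · rw [P'.kerX, P.kerX, P'.kerAB, P.kerAB, CommPair.kerBA h2 mx my hn' hne', CommPair.kerBA h2 ha hb hn hne,
      kx, rx, ky, ry]
  · rw [P'.rangeX, P.rangeX, P'.rangeAB, P.rangeAB, P'.rangeBA, P.rangeBA, kx, rx, ky, ry]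

/-! ### The graded situation -/

/-- A commuting-up-to-`X` pair with no component from the range of `c` into the range of `X`. -/
structure Graded (G : Subgroup (LinearMap.GeneralLinearGroup k M)) (a b X c : M →ₗ[k] M) : Prop where
  ma : MinEl G a
  mb : MinEl G b
  mc : MinEl G c
  nil : IsNilpotent (a * b)
  ne : a * b ≠ b * a
  eq : X = a * b - b * a
  inv : Inv2 X c
  pa : c * a * c = 0
  pb : c * b * c = 0

theorem Inv2.neg (h : Inv2 X c) : Inv2 (-X) (-c) := by
  refine ⟨?_, ?_, ?_, ?_⟩ <;> simp [h.aa, h.cc, h.aca, h.cac]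

theorem Graded.symm (h : Graded G a b X c) : Graded G b a (-X) (-c) where
  ma := h.mb
  mb := h.ma
  mc := h.mc.neg
  nil := nilp_swap h.nil
  ne := h.ne.symm
  eq := by rw [h.eq, neg_sub]
  inv := h.inv.neg
  pa := by simp [h.pb]
  pb := by simp [h.pa]

theorem Inv2.ker_left (hI : Inv2 X c) : X * (1 - (X * c + c * X)) = 0 ∧ (1 - (X * c + c * X)) * X = 0 := by
  refine ⟨?_, ?_⟩
  · rw [mul_sub, mul_one, hI.proj_left.2, sub_self]
  · rw [sub_mul, one_mul, hI.proj_left.1, sub_self]

/-- The decomposition of an element which maps the kernel of `X` into its range. -/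
theorem decompose (hI : Inv2 X c) (hXx : X * x = 0) (hxX : x * X = 0)
    (hk : ∀ v ∈ LinearMap.ker X, x v ∈ LinearMap.range X) :
    x = X * c * x + x * (c * X) - X * (c * x * c) * X := by
  have h0 : (1 - (X * c + c * X)) * x * (1 - (X * c + c * X)) = 0 := by
    refine LinearMap.ext fun v => ?_
    have hv : (1 - (X * c + c * X)) v ∈ LinearMap.ker X := by
      rw [LinearMap.mem_ker, ← Module.End.mul_apply, hI.ker_left.1]; rfl
    obtain ⟨u, hu⟩ := hk _ hv
    rw [mul_assoc, Module.End.mul_apply, Module.End.mul_apply, ← hu, ← Module.End.mul_apply, hI.ker_left.2]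
    rfl
  have e1 : (X * c + c * X) * x = X * c * x := by rw [add_mul, mul_assoc c X, hXx, mul_zero, add_zero]
  have e2 : x * (X * c + c * X) = x * (c * X) := by rw [mul_add, ← mul_assoc, hxX, zero_mul, zero_add]
  rw [sub_mul, one_mul, mul_sub, mul_one, sub_mul, e1, e2, mul_assoc (X * c) x, e2] at h0
  rw [← sub_eq_zero, ← h0]
  simp only [mul_assoc]
  abel

theorem Graded.facts (h2 : (2 : k) ≠ 0) (h : Graded G a b X c) :
    MinEl G X ∧ X * a = 0 ∧ a * X = 0 ∧ X * b = 0 ∧ b * X = 0 ∧ b = X * c * b + b * (c * X) := by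
  have P := commPair h2 h.ma h.mb h.nil h.ne
  obtain ⟨z1, z2, z3, z4⟩ := P.zero h.ma.sq h.mb.sq
  rw [← h.eq] at z1 z2 z3 z4
  refine ⟨h.eq ▸ P.minX, z1, z2, z3, z4, ?_⟩
  have := decompose h.inv z3 z4 (by rw [h.eq]; exact (commPair_spaces h2 h.ma h.mb h.nil h.ne).2)
  rwa [h.pb, mul_zero, zero_mul, sub_zero] at this

theorem Graded.image_same (h2 : (2 : k) ≠ 0) (h3 : Nat.card k ≠ 3) (h : Graded G a b X c) (hz : Same G X z) :
    Same G b (z * c * b + b * (c * z)) := by
  obtain ⟨mX, hXa, haX, hXb, hbX, hdec⟩ := h.facts h2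
  have hcb : c * b ≠ b * c := fun e => h.mb.ne (by
    rw [hdec, show X * c * b = 0 by rw [mul_assoc, e, ← mul_assoc, hXb, zero_mul],
      show b * (c * X) = 0 by rw [← mul_assoc, ← e, mul_assoc, hbX, mul_zero], add_zero])
  have hncb : IsNilpotent (c * b) := ⟨2, by rw [pow_two, ← mul_assoc, h.pb, zero_mul]⟩
  have hm := (commPair h2 h.mc h.mb hncb hcb).minX
  have e1 : X * (c * b - b * c) = X * c * b := by rw [mul_sub, ← mul_assoc, ← mul_assoc, hXb, zero_mul, sub_zero]
  have e2 : (c * b - b * c) * X = -(b * (c * X)) := by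
    rw [sub_mul, mul_assoc, hbX, mul_zero, zero_sub, mul_assoc]
  have hnX : IsNilpotent (X * (c * b - b * c)) := ⟨2, by
    rw [e1, pow_two, show X * c * b * (X * c * b) = X * c * (b * X) * (c * b) by simp only [mul_assoc], hbX, mul_zero,
      zero_mul]⟩
  have hneX : X * (c * b - b * c) ≠ (c * b - b * c) * X := fun e => h.mb.ne (by
    rw [hdec]
    nth_rewrite 1 [← e1]
    rw [e, e2, neg_add_cancel])
  have key := comm_spaces h2 h3 mX hm hnX hneX hz (Same.refl hm)
  rw [e1, e2, sub_neg_eq_add, ← hdec] at key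
  have f1 : z * b = 0 := mul_eq_zero_of_range ((range_le_of_mul_eq_zero hXb).trans hz.le_ker)
  have f2 : b * z = 0 := mul_eq_zero_of_range (hz.range_le.trans (range_le_of_mul_eq_zero hbX))
  rwa [show z * (c * b - b * c) - (c * b - b * c) * z = z * c * b + b * (c * z) by
    rw [mul_sub, sub_mul, ← mul_assoc, ← mul_assoc z b, f1, zero_mul, sub_zero, mul_assoc c b z, f2, mul_zero,
      zero_sub, sub_neg_eq_add, mul_assoc b c z]] at key

/-- The operator `z c` preserves the range of `b a`. -/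
theorem Graded.invariant (h2 : (2 : k) ≠ 0) (h3 : Nat.card k ≠ 3) (h : Graded G a b X c) (hz : Same G X z) (w : M) :
    (z * c) ((b * a) w) ∈ LinearMap.range (b * a) := by
  obtain ⟨mX, hXa, haX, hXb, hbX, hdec⟩ := h.facts h2
  have hf := h.image_same h2 h3 hz
  have hza : z * a = 0 := mul_eq_zero_of_range ((range_le_of_mul_eq_zero hXa).trans hz.le_ker)
  have e : (z * c) ((b * a) w) = (z * c * b + b * (c * z)) (a w) := by
    have : (z * c * b + b * (c * z)) * a = z * c * (b * a) := by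
      rw [add_mul, mul_assoc b, mul_assoc c z, hza, mul_zero, mul_zero, add_zero, mul_assoc]
    rw [← Module.End.mul_apply, ← Module.End.mul_apply, this]
  rw [(commPair h2 h.ma h.mb h.nil h.ne).rangeBA]
  refine ⟨e ▸ hf.range_le ⟨a w, rfl⟩, ?_⟩
  have : (z * c) ((b * a) w) ∈ LinearMap.range z := ⟨c ((b * a) w), rfl⟩
  exact (hz.range_le.trans (range_le_of_mul_eq_zero haX)) this

theorem Graded.split (h2 : (2 : k) ≠ 0) (h : Graded G a b X c) :
    (∀ u, (a * b * c) ((b * a) u) = 0) ∧ ∀ u, (b * a * c) ((a * b) u) = 0 := by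
  obtain ⟨mX, hXa, haX, hXb, hbX, hdec⟩ := h.facts h2
  have P := commPair h2 h.ma h.mb h.nil h.ne
  have hfix : ∀ v ∈ LinearMap.range X, (a * b * c) v - (b * a * c) v = v := by
    rintro _ ⟨w, rfl⟩
    rw [← LinearMap.sub_apply, ← sub_mul, ← h.eq, ← Module.End.mul_apply, h.inv.aca]
  constructor
  · intro u
    have hu : (b * a) u ∈ LinearMap.range X := by rw [h.eq, P.rangeX]; exact Submodule.mem_sup_right ⟨u, rfl⟩
    have h1 : (a * b * c) ((b * a) u) ∈ LinearMap.range (a * b) := ⟨_, rfl⟩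
    have h2' : (a * b * c) ((b * a) u) ∈ LinearMap.range (b * a) := by
      rw [sub_eq_iff_eq_add.mp (hfix _ hu)]
      exact add_mem ⟨u, rfl⟩ ⟨_, rfl⟩
    exact Submodule.disjoint_def.mp P.disj _ h1 h2'
  · intro u
    have hu : (a * b) u ∈ LinearMap.range X := by rw [h.eq, P.rangeX]; exact Submodule.mem_sup_left ⟨u, rfl⟩
    have h1 : (b * a * c) ((a * b) u) ∈ LinearMap.range (b * a) := ⟨_, rfl⟩
    have h2' : (b * a * c) ((a * b) u) ∈ LinearMap.range (a * b) := by
      rw [show (b * a * c) ((a * b) u) = (a * b * c) ((a * b) u) - (a * b) u by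
        conv_rhs => arg 2; rw [← hfix _ hu]
        rw [sub_sub_cancel]]
      exact sub_mem ⟨_, rfl⟩ ⟨u, rfl⟩
    exact Submodule.disjoint_def.mp P.disj _ h2' h1

theorem Graded.surjective (h2 : (2 : k) ≠ 0) (h3 : Nat.card k ≠ 3) (h : Graded G a b X c) (hz : Same G X z) :
    ∃ f, Same G b f ∧ a * f - f * a = z := by
  obtain ⟨mX, hXa, haX, hXb, hbX, hdec⟩ := h.facts h2
  refine ⟨_, h.image_same h2 h3 hz, ?_⟩
  have P := commPair h2 h.ma h.mb h.nil h.ne
  have hza : z * a = 0 := mul_eq_zero_of_range ((range_le_of_mul_eq_zero hXa).trans hz.le_ker)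
  have haz : a * z = 0 := mul_eq_zero_of_range (hz.range_le.trans (range_le_of_mul_eq_zero haX))
  have hzX : z * (c * X) = z := (by
    refine LinearMap.ext fun v => ?_
    rw [Module.End.mul_apply, ← sub_eq_zero, ← map_sub]
    refine LinearMap.mem_ker.mp (hz.le_ker ?_)
    rw [LinearMap.mem_ker, map_sub, ← Module.End.mul_apply, ← mul_assoc, h.inv.aca, sub_self])
  have hXz : X * c * z = z := LinearMap.ext fun v => by
    obtain ⟨w, hw⟩ := hz.range_le ⟨v, rfl⟩
    rw [Module.End.mul_apply, ← hw, ← Module.End.mul_apply, h.inv.aca]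
  have hbaX : b * a * (c * X) = b * a := LinearMap.ext fun v => by
    rw [Module.End.mul_apply, ← sub_eq_zero, ← map_sub]
    have hv : (c * X) v - v ∈ LinearMap.ker (a * b - b * a) := by
      rw [← h.eq, LinearMap.mem_ker, map_sub, ← Module.End.mul_apply, ← mul_assoc, h.inv.aca, sub_self]
    rw [P.kerX] at hv
    exact hv.2
  obtain ⟨hs1, hs2⟩ := h.split h2
  have hI1 : a * b * c * (z * c) * (b * a) = 0 := LinearMap.ext fun v => by
    obtain ⟨u, hu⟩ := h.invariant h2 h3 hz v
    rw [Module.End.mul_apply, Module.End.mul_apply, ← hu]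
    exact hs1 u
  have hI2 : b * a * c * (z * c) * (a * b) = 0 := LinearMap.ext fun v => by
    obtain ⟨u, hu⟩ := h.symm.invariant h2 h3 (same_neg_iff.mpr hz) v
    rw [mul_neg, LinearMap.neg_apply] at hu
    rw [Module.End.mul_apply, Module.End.mul_apply, show (z * c) ((a * b) v) = (a * b) (-u) by
      rw [map_neg, hu, neg_neg]]
    exact hs2 _
  -- the two components of the identity on the range of `X`
  have hsum : a * b * c - b * a * c = X * c := by rw [← sub_mul, ← h.eq]
  have hcomm : z * c * (b * a * c) = b * a * c * (z * c) := by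
    have l : z * c * (b * a * c) = -(b * a * c * (z * c) * (b * a * c)) := by
      calc z * c * (b * a * c) = (X * c) * (z * c) * (b * a * c) := by rw [← mul_assoc (X * c), hXz]
        _ = a * b * c * (z * c) * (b * a) * c - b * a * c * (z * c) * (b * a * c) := by
          rw [← hsum]; noncomm_ring
        _ = _ := by rw [hI1, zero_mul, zero_sub]
    have r : b * a * c * (z * c) = -(b * a * c * (z * c) * (b * a * c)) := by
      calc b * a * c * (z * c) = b * a * c * (z * c) * (X * c) := by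
            rw [mul_assoc (b * a * c), mul_assoc z c (X * c), ← mul_assoc c X c, h.inv.cac]
        _ = b * a * c * (z * c) * (a * b) * c - b * a * c * (z * c) * (b * a * c) := by
          rw [← hsum]; noncomm_ring
        _ = _ := by rw [hI2, zero_mul, zero_sub]
    rw [l, ← r]
  rw [mul_add, add_mul, ← mul_assoc a (z * c) b, ← mul_assoc a z c, haz, zero_mul, zero_mul, zero_add,
    mul_assoc b (c * z) a, mul_assoc c z a, hza, mul_zero, mul_zero, add_zero, mul_assoc (z * c) b a]
  nth_rewrite 1 [← hbaX]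
  rw [show z * c * (b * a * (c * X)) = z * c * (b * a * c) * X by simp only [mul_assoc], hcomm,
    show b * a * c * (z * c) * X = b * a * c * (z * (c * X)) by simp only [mul_assoc], hzX,
    show a * (b * (c * z)) = a * b * c * z by simp only [mul_assoc], ← sub_mul, hsum, hXz]

/-! ### Removing the lowest component -/

theorem pure_part (h2 : (2 : k) ≠ 0) (hX : MinEl G X) (hc : MinEl G c) (hI : Inv2 X c) (hx : MinEl G x)
    (hXx : X * x = 0) (hxX : x * X = 0) (hk : ∀ v ∈ LinearMap.ker X, x v ∈ LinearMap.range X) :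
    Fam G (x - X * (c * x * c) * X) ∧ rk (x - X * (c * x * c) * X) ≤ rk x ∧
      c * (x - X * (c * x * c) * X) * c = 0 ∧ Same G X (X * (c * x * c) * X) := by
  obtain ⟨x0, hx0⟩ : ∃ x0, x0 = X * (c * x * c) * X := ⟨_, rfl⟩
  have hd := decompose hI hXx hxX hk
  rw [← hx0] at hd ⊢
  obtain ⟨P, hP⟩ : ∃ P, P = X * c + c * X := ⟨_, rfl⟩
  have e1 : P * x = X * c * x := by rw [hP, add_mul, mul_assoc c X, hXx, mul_zero, add_zero]
  have e2 : x * P = x * (c * X) := by rw [hP, mul_add, ← mul_assoc, hxX, zero_mul, zero_add]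
  have e3 : P * x * P = x0 := by
    rw [e1, mul_assoc (X * c), e2, hx0]; simp only [mul_assoc]
  have hd' : x = P * x + x * P - x0 := by rw [e1, e2]; exact hd
  have hxPx : x * P * x = 0 := by
    rw [e2, mul_assoc, mul_assoc c X x, hXx, mul_zero, mul_zero]
  obtain ⟨i, hiG, hi⟩ : ∃ i : GL', i ∈ G ∧ (i : End') = 1 - (2 : k) • P := by
    refine ⟨xu X hX.sq * (xu c hc.sq)⁻¹ * xu X hX.sq * (xu X hX.sq * (xu c hc.sq)⁻¹ * xu X hX.sq), ?_, ?_⟩
    · have := mul_mem (mul_mem hX.toFam.xu_mem_one (inv_mem hc.toFam.xu_mem_one)) hX.toFam.xu_mem_one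
      exact mul_mem this this
    · simp only [Units.val_mul, xu_val, xu_inv]
      rw [hP]
      exact hI.sq
  have hii : i * i = 1 := by
    ext1
    rw [Units.val_mul, hi, Units.val_one, sub_mul, one_mul, mul_sub, mul_one, smul_mul_assoc, mul_smul_comm, hP,
      hI.proj, two_smul, two_smul]
    abel
  have hinv : i⁻¹ = i := inv_eq_of_mul_eq_one_right hii
  have hw : Fam G ((i : End') * x * (i : End')) := by
    have := hx.toFam.conj hiG
    rwa [hinv] at this
  have hxix : x * (i : End') * x = 0 := by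
    rw [hi, mul_sub, mul_one, sub_mul, hx.sq, mul_smul_comm, smul_mul_assoc, hxPx, smul_zero, sub_zero]
  have hF1 : Fam G (x - x0) := by
    have h1 : Fam G (x + (-1 : k) • ((i : End') * x * i)) := hx.toFam.add (hw.smul _)
      (by rw [mul_smul_comm, ← mul_assoc, ← mul_assoc, hxix, zero_mul, smul_zero])
      (by rw [smul_mul_assoc, mul_assoc (i : End') x, mul_assoc, hxix, mul_zero, smul_zero])
    have h1' := h1.smul (2 : k)⁻¹
    have e : x + (-1 : k) • ((i : End') * x * i) = (2 : k) • (x - x0) := by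
      rw [hi, neg_one_smul, sub_mul, one_mul, mul_sub, mul_one, smul_mul_assoc, mul_smul_comm, sub_mul,
        smul_mul_assoc, e3]
      rw [show x + -(x - (2 : k) • (P * x) - (2 : k) • (x * P - (2 : k) • x0)) =
        (2 : k) • (P * x) + (2 : k) • (x * P - (2 : k) • x0) by abel, ← smul_add]
      congr 1
      conv_rhs => rw [hd']
      rw [two_smul]
      abel
    rwa [e, smul_smul, inv_mul_cancel₀ h2, one_smul] at h1'
  have hxx0 : x * x0 = 0 := by rw [hx0, ← mul_assoc, ← mul_assoc, hxX, zero_mul, zero_mul]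
  have hx0x : x0 * x = 0 := by rw [hx0, mul_assoc, hXx, mul_zero]
  refine ⟨hF1, ?_, ?_, ?_⟩
  · have e : x - x0 = x * (1 - P) + (1 - P) * x := by
      rw [mul_sub, sub_mul, mul_one, one_mul]
      nth_rewrite 4 [hd']
      abel
    have hker : LinearMap.range (x * (1 - P)) ≤ LinearMap.range x ⊓ LinearMap.ker (1 - P) := by
      refine le_inf (range_mul_le _ _) ?_
      rintro _ ⟨v, rfl⟩
      have hv : (1 - P) v ∈ LinearMap.ker X := by
        rw [LinearMap.mem_ker, ← Module.End.mul_apply, hP, hI.ker_left.1]; rfl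
      obtain ⟨u, hu⟩ := hk _ hv
      rw [LinearMap.mem_ker, Module.End.mul_apply x, ← hu, ← Module.End.mul_apply, hP, hI.ker_left.2]
      rfl
    have hle : LinearMap.range (x - x0) ≤ LinearMap.range (x * (1 - P)) ⊔ LinearMap.range ((1 - P) * x) := by
      rw [e]
      rintro _ ⟨v, rfl⟩
      exact Submodule.mem_sup.mpr ⟨_, ⟨v, rfl⟩, _, ⟨v, rfl⟩, rfl⟩
    have c1 := Submodule.finrank_mono hle
    have c2 := Submodule.finrank_sup_add_finrank_inf_eq (LinearMap.range (x * (1 - P)))
      (LinearMap.range ((1 - P) * x))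
    have c3 := Submodule.finrank_mono hker
    have c4 : Module.finrank k (LinearMap.range ((1 - P) * x)) +
        Module.finrank k (LinearMap.range x ⊓ LinearMap.ker (1 - P) : Submodule k M) =
        Module.finrank k (LinearMap.range x) := by
      rw [range_mul]; exact finrank_map_add (1 - P) _
    show Module.finrank k (LinearMap.range (x - x0)) ≤ Module.finrank k (LinearMap.range x)
    omega
  · rw [hx0, mul_sub, sub_mul, show c * (X * (c * x * c) * X) * c = c * X * c * x * (c * X * c) by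
      simp only [mul_assoc], hI.cac, sub_self]
  · have hF0 : Fam G x0 := by
      have h1 : Fam G (x + (-1 : k) • (x - x0)) := hx.toFam.add (hF1.smul _)
        (by rw [mul_smul_comm, mul_sub, hx.sq, hxx0, sub_zero, smul_zero])
        (by rw [smul_mul_assoc, sub_mul, hx.sq, hx0x, sub_zero, smul_zero])
      rwa [neg_one_smul, show x + -(x - x0) = x0 by abel] at h1
    refine same_of_le hX hF0 ?_ ?_
    · rw [hx0, mul_assoc]; exact range_mul_le _ _
    · rw [hx0]; exact ker_le_mul _ _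

/-- Every element of the class of `a b - b a` is a commutator with `a`. -/
theorem comm_surjective (h2 : (2 : k) ≠ 0) (h3 : Nat.card k ≠ 3) (ha : MinEl G a) (hb : MinEl G b)
    (hn : IsNilpotent (a * b)) (hne : a * b ≠ b * a) (hc : MinEl G c) (hI : Inv2 (a * b - b * a) c)
    (hz : Same G (a * b - b * a) z) : ∃ f, Same G b f ∧ a * f - f * a = z := by
  have P := commPair h2 ha hb hn hne
  obtain ⟨z1, z2, z3, z4⟩ := P.zero ha.sq hb.sq
  obtain ⟨k1, k2⟩ := commPair_spaces h2 ha hb hn hne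
  obtain ⟨X, hX⟩ : ∃ X, X = a * b - b * a := ⟨_, rfl⟩
  have mX : MinEl G X := hX ▸ P.minX
  rw [← hX] at hI hz z1 z2 z3 z4 k1 k2
  obtain ⟨a0, ha0⟩ : ∃ a0, a0 = X * (c * a * c) * X := ⟨_, rfl⟩
  obtain ⟨b0, hb0⟩ : ∃ b0, b0 = X * (c * b * c) * X := ⟨_, rfl⟩
  obtain ⟨fa, ra, pa, sa⟩ := pure_part h2 mX hc hI ha z1 z2 k1
  obtain ⟨fb, rb, pb, sb⟩ := pure_part h2 mX hc hI hb z3 z4 k2
  rw [← ha0] at fa ra pa sa
  rw [← hb0] at fb rb pb sb
  have a0b : a0 * b = 0 := by rw [ha0, mul_assoc, z3, mul_zero]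
  have ba0 : b * a0 = 0 := by rw [ha0, ← mul_assoc, ← mul_assoc, z4, zero_mul, zero_mul]
  have b0a : b0 * a = 0 := by rw [hb0, mul_assoc, z1, mul_zero]
  have ab0 : a * b0 = 0 := by rw [hb0, ← mul_assoc, ← mul_assoc, z2, zero_mul, zero_mul]
  have XX : X * X = 0 := mX.sq
  have a0b0 : a0 * b0 = 0 := by
    rw [ha0, hb0, show X * (c * a * c) * X * (X * (c * b * c) * X) = X * (c * a * c) * (X * X) * (c * b * c) * X by
      simp only [mul_assoc], XX]
    simp
  have b0a0 : b0 * a0 = 0 := by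
    rw [ha0, hb0, show X * (c * b * c) * X * (X * (c * a * c) * X) = X * (c * b * c) * (X * X) * (c * a * c) * X by
      simp only [mul_assoc], XX]
    simp
  have eab : (a - a0) * (b - b0) = a * b := by rw [sub_mul, mul_sub, mul_sub, ab0, a0b, a0b0]; simp
  have eba : (b - b0) * (a - a0) = b * a := by rw [sub_mul, mul_sub, mul_sub, ba0, b0a, b0a0]; simp
  obtain ⟨a1, ha1⟩ : ∃ a1, a1 = a - a0 := ⟨_, rfl⟩
  obtain ⟨b1, hb1⟩ : ∃ b1, b1 = b - b0 := ⟨_, rfl⟩
  rw [← ha1] at fa ra pa eab eba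
  rw [← hb1] at fb rb pb eab eba
  have ne1 : a1 ≠ 0 := fun h => hne (by rw [← eab, ← eba, h, zero_mul, mul_zero])
  have ne2 : b1 ≠ 0 := fun h => hne (by rw [← eab, ← eba, h, zero_mul, mul_zero])
  have ma1 := ha.of_rk_le fa ne1 ra
  have mb1 := hb.of_rk_le fb ne2 rb
  have hG1 : Graded G a1 b1 X c :=
    ⟨ma1, mb1, hc, by rw [eab]; exact hn, by rw [eab, eba]; exact hne, by rw [eab, eba]; exact hX, hI, pa, pb⟩
  obtain ⟨f1, hf1, hf1z⟩ := hG1.surjective h2 h3 hz
  obtain ⟨y, hy, hyz⟩ := hG1.symm.surjective h2 h3 (z := -b0) (same_neg_iff.mpr sb.neg)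
  have hyG := hy.fam.xu_mem_one
  have t1 : y * b1 * y = 0 := triple_zero h2 h3 ma1 mb1 hG1.nil hy hy (Same.refl mb1)
  have t2 : y * f1 * y = 0 := triple_zero h2 h3 ma1 mb1 hG1.nil hy hy hf1
  have hb' : ((xu y hy.fam.sq : GL') : End') * b1 * (↑(xu y hy.fam.sq)⁻¹ : End') = b := by
    rw [conj_one_add, t1, sub_zero, show y * b1 - b1 * y = b0 by rw [← neg_sub, hyz, neg_neg], hb1, sub_add_cancel]
  have hf : Same G b (((xu y hy.fam.sq : GL') : End') * f1 * (↑(xu y hy.fam.sq)⁻¹ : End')) := by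
    have := hf1.conj hyG
    rwa [hb'] at this
  refine ⟨_, hf, ?_⟩
  rw [conj_one_add, t2, sub_zero]
  have hw : Same G X (y * f1 - f1 * y) := by
    have := comm_spaces h2 h3 ma1 mb1 hG1.nil hG1.ne hy hf1
    rwa [← hG1.eq] at this
  have w1 : a * (y * f1 - f1 * y) = 0 := mul_eq_zero_of_range (hw.range_le.trans (range_le_of_mul_eq_zero z2))
  have w2 : (y * f1 - f1 * y) * a = 0 := mul_eq_zero_of_range ((range_le_of_mul_eq_zero z1).trans hw.le_ker)
  obtain ⟨-, -, -, hXb1, hb1X, -⟩ := hG1.facts h2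
  have a0f : a0 * f1 = 0 := by
    rw [ha0, mul_assoc, mul_eq_zero_of_range (hf1.range_le.trans (range_le_of_mul_eq_zero hXb1)), mul_zero]
  have fa0 : f1 * a0 = 0 := by
    rw [ha0, ← mul_assoc, ← mul_assoc, mul_eq_zero_of_range ((range_le_of_mul_eq_zero hb1X).trans hf1.le_ker),
      zero_mul, zero_mul]
  rw [mul_add, add_mul, w1, w2, add_zero, add_zero, ← hf1z, ha1, sub_mul, mul_sub, a0f, fa0, sub_zero, sub_zero]

end Cfsg.Lib.QuadPair
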