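import Cfsg.Agent.RootSub.QuadPair.RingSL2

/-!
# Generation over an infinite field
-/

set_option autoImplicit false
set_option linter.unusedSectionVars false
set_option linter.unusedVariables false
set_option linter.unusedSimpArgs false
set_option linter.style.haveILetI false

open Matrix

namespace Cfsg.Lib.QuadPair

local notation "SL2" A => Matrix.SpecialLinearGroup (Fin 2) A

variable {k A : Type*} [Field k] [CommRing A] [Algebra k A]

/-- The span of the first `j` powers. -/
def pSpan (x : A) (j : ℕ) : Submodule k A := Submodule.span k (Set.range fun i : Fin j => x ^ (i : ℕ))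

theorem pow_mem_pSpan {x : A} {i j : ℕ} (h : i < j) : x ^ i ∈ pSpan (k := k) x j :=
  Submodule.subset_span ⟨⟨i, h⟩, rfl⟩

theorem pSpan_mono {x : A} {i j : ℕ} (h : i ≤ j) : pSpan (k := k) x i ≤ pSpan x j := by
  rw [pSpan, Submodule.span_le]
  rintro _ ⟨a, rfl⟩
  exact pow_mem_pSpan (lt_of_lt_of_le a.2 h)

theorem mul_mem_pSpan {x y : A} {j : ℕ} (hy : y ∈ pSpan (k := k) x j) : x * y ∈ pSpan (k := k) x (j + 1) := by
  induction hy using Submodule.span_induction with
  | mem z hz =>
    obtain ⟨a, rfl⟩ := hz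
    rw [← pow_succ']
    exact pow_mem_pSpan (Nat.succ_lt_succ a.2)
  | zero => rw [mul_zero]; exact zero_mem _
  | add u w _ _ hu hw => rw [mul_add]; exact add_mem hu hw
  | smul c u _ hu => rw [mul_smul_comm]; exact Submodule.smul_mem _ _ hu

/-- No element of `pSpan j` is orthogonal to it for `L` shifted by `e`. -/
def SNondeg (x : A) (L : A →ₗ[k] k) (e j : ℕ) : Prop :=
  ∀ y ∈ pSpan (k := k) x j, (∀ i < j, L (y * x ^ (i + e)) = 0) → y = 0

theorem snondeg_of_det {x : A} (L : A →ₗ[k] k) (e j : ℕ)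
    (h : (Matrix.of fun a b : Fin j => L (x ^ ((a : ℕ) + b + e))).det ≠ 0) : SNondeg x L e j := by
  intro y hy h0
  obtain ⟨c, rfl⟩ := (Submodule.mem_span_range_iff_exists_fun k).mp hy
  have hc : c = 0 := by
    refine Matrix.eq_zero_of_mulVec_eq_zero h (funext fun a => ?_)
    have := h0 a a.2
    rw [Finset.sum_mul, map_sum] at this
    rw [Pi.zero_apply, ← this]
    simp only [Matrix.mulVec, dotProduct, Matrix.of_apply]
    refine Finset.sum_congr rfl fun b _ => ?_
    rw [smul_mul_assoc, map_smul, smul_eq_mul, ← pow_add, mul_comm]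
    congr 3
    omega
  simp [hc]

theorem det_antidiag (v : ℕ → k) (j : ℕ) (h0 : ∀ i < j, v i = 0) (h1 : v j = 1) :
    (Matrix.of fun a b : Fin (j + 1) => v ((a : ℕ) + b)).det ≠ 0 := by
  intro h
  have hB : ((Matrix.of fun a b : Fin (j + 1) => v ((a : ℕ) + b)).submatrix id Fin.revPerm).det = 1 := by
    rw [Matrix.det_of_lowerTriangular]
    · refine Finset.prod_eq_one fun a _ => ?_
      have hr := Fin.val_rev a
      have ha := a.2
      rw [Matrix.submatrix_apply, id, Fin.revPerm_apply, Matrix.of_apply, show (a : ℕ) + a.rev = j by omega, h1]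
    · intro a b hab
      have hab' : (a : ℕ) < b := hab
      have hr := Fin.val_rev b
      have hb := b.2
      rw [Matrix.submatrix_apply, id, Fin.revPerm_apply, Matrix.of_apply]
      exact h0 _ (by omega)
  rw [Matrix.det_permute', h, mul_zero] at hB
  exact zero_ne_one hB

variable (α : Aˣ) (pb : PowerBasis k A) (hg : pb.gen = (α : A))
include hg

theorem pSpan_top : pSpan (k := k) (α : A) pb.dim = ⊤ := by
  rw [eq_top_iff, ← pb.basis.span_eq, Submodule.span_le]
  rintro _ ⟨i, rfl⟩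
  rw [pb.basis_eq_pow, hg]
  exact pow_mem_pSpan i.2

theorem ne_zero_of_monic {y : A} {j : ℕ} (hj : j < pb.dim) (hy : y - (α : A) ^ j ∈ pSpan (k := k) (α : A) j) :
    y ≠ 0 := by
  intro h
  rw [h, zero_sub, Submodule.neg_mem_iff] at hy
  have hli : LinearIndependent k (fun i : Fin pb.dim => (α : A) ^ (i : ℕ)) := by
    have := pb.basis.linearIndependent
    rwa [show (pb.basis : Fin pb.dim → A) = fun i : Fin pb.dim => (α : A) ^ (i : ℕ) from
      funext fun i => by rw [pb.basis_eq_pow, hg]] at this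
  haveI : Nontrivial A := ⟨_, _, hli.ne_zero ⟨j, hj⟩⟩
  refine hli.notMem_span_image (s := {i : Fin pb.dim | (i : ℕ) < j}) (x := ⟨j, hj⟩) (by simp)
    (Submodule.span_mono ?_ hy)
  rintro _ ⟨a, rfl⟩
  exact ⟨⟨a, by omega⟩, a.2, rfl⟩

theorem mem_succ_of_monic {y : A} {j : ℕ} (hy : y - (α : A) ^ j ∈ pSpan (k := k) (α : A) j) :
    y ∈ pSpan (k := k) (α : A) (j + 1) := by
  have := add_mem (pSpan_mono (Nat.le_succ j) hy) (pow_mem_pSpan (k := k) (x := (α : A)) (Nat.lt_succ_self j))
  rwa [sub_add_cancel] at this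

theorem hankel_reach (L : A →ₗ[k] k)
    (h0 : ∀ j < pb.dim, SNondeg (α : A) L 0 (j + 1))
    (h1 : ∀ j, j + 1 < pb.dim → SNondeg (α : A) L 1 (j + 1)) :
    ∀ j < pb.dim, ∃ p r : A, p - (α : A) ^ j ∈ pSpan (k := k) (α : A) j ∧
      r - (α : A) ^ j ∈ pSpan (k := k) (α : A) j ∧
      (∀ i < j, L (p * (α : A) ^ i) = 0) ∧ (∀ i < j, L (r * (α : A) ^ (i + 1)) = 0) ∧
      ∃ h ∈ rmix k (α : A), ∃ s t : k, s ≠ 0 ∧ t ≠ 0 ∧
        h.1 *ᵥ ![0, 1] = ![algebraMap k A s * r, algebraMap k A t * p] := by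
  intro j
  induction j with
  | zero =>
    intro _
    refine ⟨1, 1, by simp, by simp, fun i hi => absurd hi (Nat.not_lt_zero i), fun i hi => absurd hi (Nat.not_lt_zero i),
      ru (algebraMap k A 1), ru_base_mem 1, 1, 1, one_ne_zero, one_ne_zero, ?_⟩
    rw [mulVec_ru]
    simp
  | succ j ih =>
    intro hj
    have hj' : j < pb.dim := by omega
    obtain ⟨p, r, hp, hr, hpo, hro, h, hh, s, t, hs, ht, hv⟩ := ih hj'
    have hh0 : L (p * (α : A) ^ j) ≠ 0 := fun e => ne_zero_of_monic α pb hg hj' hp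
      (h0 j hj' p (mem_succ_of_monic α pb hg hp) fun i hi => by
        rcases Nat.lt_succ_iff_lt_or_eq.mp hi with hi | rfl
        exacts [hpo i hi, e])
    have hg0 : L (r * (α : A) ^ (j + 1)) ≠ 0 := fun e => ne_zero_of_monic α pb hg hj' hr
      (h1 j hj r (mem_succ_of_monic α pb hg hr) fun i hi => by
        rcases Nat.lt_succ_iff_lt_or_eq.mp hi with hi | rfl
        exacts [hro i hi, e])
    set q := L (r * (α : A) ^ (j + 1)) / L (p * (α : A) ^ j) with hq
    have hq0 : q ≠ 0 := div_ne_zero hg0 hh0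
    set p' := (α : A) * r - q • p with hp'
    have hp'o : ∀ i < j + 1, L (p' * (α : A) ^ i) = 0 := by
      intro i hi
      rw [hp', sub_mul, smul_mul_assoc, map_sub, map_smul, smul_eq_mul, mul_comm (α : A) r, mul_assoc, ← pow_succ']
      rcases Nat.lt_succ_iff_lt_or_eq.mp hi with hi | rfl
      · rw [hro i hi, hpo i hi]; ring
      · rw [hq, div_mul_cancel₀ _ hh0, sub_self]
    have hp'm : p' - (α : A) ^ (j + 1) ∈ pSpan (k := k) (α : A) (j + 1) := by
      rw [show p' - (α : A) ^ (j + 1) = (α : A) * (r - (α : A) ^ j) - q • p by rw [hp', pow_succ']; ring]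
      exact sub_mem (mul_mem_pSpan hr) (Submodule.smul_mem _ _ (mem_succ_of_monic α pb hg hp))
    have hp'0 : L (p' * (α : A) ^ (j + 1)) ≠ 0 := fun e => ne_zero_of_monic α pb hg hj hp'm
      (h0 (j + 1) hj p' (mem_succ_of_monic α pb hg hp'm) fun i hi => by
        rcases Nat.lt_succ_iff_lt_or_eq.mp hi with hi | rfl
        exacts [hp'o i hi, e])
    set d := L (p' * (α : A) ^ (j + 1)) / L (r * (α : A) ^ (j + 1)) with hd
    have hd0 : d ≠ 0 := div_ne_zero hp'0 hg0
    refine ⟨p', p' - d • r, hp'm, ?_, hp'o, fun i hi => ?_, ?_⟩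
    · rw [sub_right_comm]
      exact sub_mem hp'm (Submodule.smul_mem _ _ (mem_succ_of_monic α pb hg hr))
    · rw [sub_mul, smul_mul_assoc, map_sub, map_smul, smul_eq_mul]
      rcases Nat.lt_succ_iff_lt_or_eq.mp hi with hi | rfl
      · rw [hro i hi, hp'o (i + 1) (Nat.succ_lt_succ hi), mul_zero, sub_zero]
      · rw [hd, div_mul_cancel₀ _ hg0, sub_self]
    · refine ⟨ru (algebraMap k A (s * q / (d * t))) * (rl (algebraMap k A (-t / (q * s)) * (α : A)) * h),
        mul_mem (ru_base_mem _) (mul_mem (rl_base_mem _) hh), -s / d, -t / q,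
        div_ne_zero (neg_ne_zero.mpr hs) hd0, div_ne_zero (neg_ne_zero.mpr ht) hq0, ?_⟩
      rw [Matrix.SpecialLinearGroup.coe_mul, Matrix.SpecialLinearGroup.coe_mul, ← mulVec_mulVec, ← mulVec_mulVec,
        hv, mulVec_rl, mulVec_ru]
      have e2 : algebraMap k A (-t / (q * s)) * (α : A) * (algebraMap k A s * r) + algebraMap k A t * p =
          algebraMap k A (-t / q) * p' := by
        have c1 : algebraMap k A (-t / (q * s)) * algebraMap k A s = algebraMap k A (-t / q) := by
          rw [← map_mul]; congr 1; field_simp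
        have c2 : algebraMap k A (-t / q) * algebraMap k A q = -algebraMap k A t := by
          rw [← map_mul, ← map_neg]; congr 1; field_simp
        rw [hp', Algebra.smul_def]
        linear_combination ((α : A) * r) * c1 + p * c2
      have e1 : algebraMap k A s * r + algebraMap k A (s * q / (d * t)) * (algebraMap k A (-t / q) * p') =
          algebraMap k A (-s / d) * (p' - d • r) := by
        have c3 : algebraMap k A (s * q / (d * t)) * algebraMap k A (-t / q) = algebraMap k A (-s / d) := by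
          rw [← map_mul]; congr 1; field_simp
        have c4 : algebraMap k A (-s / d) * algebraMap k A d = -algebraMap k A s := by
          rw [← map_mul, ← map_neg]; congr 1; field_simp
        rw [Algebra.smul_def]
        linear_combination p' * c3 + r * c4
      rw [e2, e1]

theorem hankel_torus (L : A →ₗ[k] k)
    (h0 : ∀ j < pb.dim, SNondeg (α : A) L 0 (j + 1))
    (h1 : ∀ j, j + 1 < pb.dim → SNondeg (α : A) L 1 (j + 1)) (hne : 0 < pb.dim) :
    ∃ r : A, IsUnit r ∧ (∀ x ∈ rUpper (k := k) α, (α : A) * r ^ 2 * x ∈ rUpper (k := k) α) ∧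
      ∀ i < pb.dim - 1, L (r * (α : A) ^ (i + 1)) = 0 := by
  obtain ⟨m, hm⟩ : ∃ m, pb.dim = m + 1 := ⟨pb.dim - 1, by omega⟩
  obtain ⟨p, r, hp, hr, hpo, hro, h, hh, s, t, hs, ht, hv⟩ := hankel_reach α pb hg L h0 h1 m (by omega)
  have hnz : ∀ x : A, (∀ i < m + 1, L (x * (α : A) ^ i) = 0) → x = 0 := fun x hx =>
    h0 m (by omega) x (by rw [← hm, pSpan_top α pb hg]; exact Submodule.mem_top) hx
  set q := L (r * (α : A) ^ (m + 1)) / L (p * (α : A) ^ m) with hq
  have hh0 : L (p * (α : A) ^ m) ≠ 0 := fun e => ne_zero_of_monic α pb hg (by omega) hp (hnz p fun i hi => by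
    rcases Nat.lt_succ_iff_lt_or_eq.mp hi with hi | rfl
    exacts [hpo i hi, e])
  have hlast : (α : A) * r = q • p := by
    rw [← sub_eq_zero]
    refine hnz _ fun i hi => ?_
    rw [sub_mul, smul_mul_assoc, map_sub, map_smul, smul_eq_mul, mul_comm (α : A) r, mul_assoc, ← pow_succ']
    rcases Nat.lt_succ_iff_lt_or_eq.mp hi with hi | rfl
    · rw [hro i hi, hpo i hi]; ring
    · rw [hq, div_mul_cancel₀ _ hh0, sub_self]
  have hq0 : q ≠ 0 := fun e => by
    rw [e, zero_smul, Units.mul_right_eq_zero] at hlast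
    exact ne_zero_of_monic α pb hg (by omega) hr hlast
  set g := rl (algebraMap k A (-t / (q * s)) * (α : A)) * h with hgdef
  have hgmem : g ∈ rmix k (α : A) := mul_mem (rl_base_mem _) hh
  have hg' : g.1 *ᵥ ![0, 1] = ![algebraMap k A s * r, 0] := by
    rw [hgdef, Matrix.SpecialLinearGroup.coe_mul, ← mulVec_mulVec, hv, mulVec_rl]
    have e2 : algebraMap k A (-t / (q * s)) * (α : A) * (algebraMap k A s * r) + algebraMap k A t * p = 0 := by
      have c1 : algebraMap k A (-t / (q * s)) * algebraMap k A s = algebraMap k A (-t / q) := by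
        rw [← map_mul]; congr 1; field_simp
      have c2 : algebraMap k A (-t / q) * algebraMap k A q = -algebraMap k A t := by
        rw [← map_mul, ← map_neg]; congr 1; field_simp
      rw [Algebra.smul_def] at hlast
      linear_combination ((α : A) * r) * c1 + p * c2 + algebraMap k A (-t / q) * hlast
    rw [e2]
  have h01 := congrFun hg' 0
  have h11 := congrFun hg' 1
  simp [Matrix.mulVec, dotProduct, Fin.sum_univ_two] at h01 h11
  have hru : IsUnit r := by
    have hd := g.2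
    rw [Matrix.det_fin_two, h01, h11] at hd
    exact IsUnit.of_mul_eq_one (-(algebraMap k A s * g.1 1 0)) (by linear_combination hd)
  refine ⟨r, hru, fun x hx => ?_, fun i hi => hro i (by omega)⟩
  have hc : g * rl ((α : A) * x) * g⁻¹ ∈ rmix k (α : A) :=
    mul_mem (mul_mem hgmem (rl_mem_of_upper α hx)) (inv_mem hgmem)
  rw [conj_rl_of_col g _ _ h01 h11] at hc
  have := (rUpper (k := k) α).smul_mem (-(s ^ 2)⁻¹) ((mem_rUpper α).mpr hc)
  convert this using 1
  have c : algebraMap k A ((s ^ 2)⁻¹) * algebraMap k A s ^ 2 = 1 := by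
    rw [← map_pow, ← map_mul, inv_mul_cancel₀ (pow_ne_zero 2 hs), map_one]
  rw [Algebra.smul_def, map_neg]
  linear_combination (-((α : A) * r ^ 2 * x)) * c

open MvPolynomial in
theorem rmix_infinite [Infinite k] (h2 : (2 : k) ≠ 0) : rUpper (k := k) α = ⊤ := by
  classical
  haveI := pb.finite
  rcases Nat.eq_zero_or_pos pb.dim with h00 | hn
  · haveI : Subsingleton A := ⟨fun x y => pb.basis.ext_elem fun i => absurd i.2 (by omega)⟩
    exact eq_top_iff.mpr fun x _ => by rw [Subsingleton.elim x 0]; exact zero_mem _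
  let L₀ : A →ₗ[k] k := pb.basis.coord ⟨pb.dim - 1, by omega⟩
  have hL₀v : ∀ i (hi : i < pb.dim), L₀ ((α : A) ^ i) = if i = pb.dim - 1 then 1 else 0 := by
    intro i hi
    rw [show (α : A) ^ i = pb.basis ⟨i, hi⟩ by rw [pb.basis_eq_pow, hg]]
    simp only [L₀, Module.Basis.coord_apply, Module.Basis.repr_self, Finsupp.single_apply]
    simp [Fin.ext_iff]
  have hN₀ : SNondeg (α : A) L₀ 0 pb.dim := by
    have h := det_antidiag (fun i => L₀ ((α : A) ^ i)) (pb.dim - 1)
      (fun i hi => by simp [hL₀v i (by omega), show i ≠ pb.dim - 1 by omega]) (by simp [hL₀v _ (by omega : pb.dim - 1 < pb.dim)])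
    have h' := snondeg_of_det (x := (α : A)) L₀ 0 (pb.dim - 1 + 1) (by simpa using h)
    rwa [Nat.sub_add_cancel hn] at h'
  have hL0 : ∀ x : A, (∀ i < pb.dim, L₀ (x * (α : A) ^ i) = 0) → x = 0 := fun x hx =>
    hN₀ x (by rw [pSpan_top α pb hg]; exact Submodule.mem_top) hx
  let Φ : A →ₗ[k] (Fin pb.dim → k) :=
    { toFun := fun θ i => L₀ (θ * (α : A) ^ (i : ℕ))
      map_add' := fun x y => funext fun i => by simp [add_mul]
      map_smul' := fun c x => funext fun i => by simp }
  have hΦ : Function.Surjective Φ := by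
    rw [← LinearMap.injective_iff_surjective_of_finrank_eq_finrank (by simp [pb.finrank])]
    rw [← LinearMap.ker_eq_bot, LinearMap.ker_eq_bot']
    exact fun θ hθ => hL0 θ fun i hi => congrFun hθ ⟨i, hi⟩
  let M : ℕ → (j : ℕ) → Matrix (Fin j) (Fin j) (MvPolynomial (Fin pb.dim) k) := fun e j =>
    Matrix.of fun a b => ∑ i, C (L₀ (pb.basis i * (α : A) ^ ((a : ℕ) + b + e))) * X i
  have hM : ∀ e j (θ : A), eval (pb.basis.repr θ) (M e j).det =
      (Matrix.of fun a b : Fin j => (L₀.comp (LinearMap.mulLeft k θ)) ((α : A) ^ ((a : ℕ) + b + e))).det := by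
    intro e j θ
    rw [RingHom.map_det]
    congr 1
    ext a b
    simp only [M, RingHom.mapMatrix_apply, Matrix.map_apply, Matrix.of_apply, map_sum, map_mul, eval_C, eval_X,
      LinearMap.comp_apply, LinearMap.mulLeft_apply]
    conv_rhs => rw [← pb.basis.sum_repr θ, Finset.sum_mul, map_sum]
    exact Finset.sum_congr rfl fun i _ => by rw [smul_mul_assoc, map_smul, smul_eq_mul, mul_comm]
  have hwit : ∀ e j, j + e < pb.dim → (M e (j + 1)).det ≠ 0 := by
    intro e j hje h
    obtain ⟨θ, hθ⟩ := hΦ (Pi.single ⟨j + e, hje⟩ 1)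
    have h' := hM e (j + 1) θ
    rw [h, map_zero] at h'
    have hval : ∀ i, i ≤ j → L₀ (θ * (α : A) ^ (i + e)) = if i = j then 1 else 0 := fun i hi => by
      have := congrFun hθ ⟨i + e, by omega⟩
      change L₀ (θ * (α : A) ^ (i + e)) = _ at this
      rw [this, Pi.single_apply]
      simp [Fin.ext_iff]
    exact det_antidiag (fun i => L₀ (θ * (α : A) ^ (i + e))) j
      (fun i hi => by simp [hval i hi.le, hi.ne]) (by simp [hval j le_rfl]) h'.symm
  obtain ⟨f, hfdef⟩ : ∃ f : MvPolynomial (Fin pb.dim) k,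
      f = (∏ j : Fin pb.dim, (M 0 ((j : ℕ) + 1)).det) * ∏ j : Fin (pb.dim - 1), (M 1 ((j : ℕ) + 1)).det := ⟨_, rfl⟩
  have hf : f ≠ 0 := hfdef ▸ mul_ne_zero (Finset.prod_ne_zero_iff.mpr fun j _ => hwit 0 j j.2)
    (Finset.prod_ne_zero_iff.mpr fun j _ => hwit 1 j (by have := j.2; omega))
  have hgood : ∀ θ : A, eval (pb.basis.repr θ) f ≠ 0 →
      (∀ j < pb.dim, SNondeg (α : A) (L₀.comp (LinearMap.mulLeft k θ)) 0 (j + 1)) ∧
      ∀ j, j + 1 < pb.dim → SNondeg (α : A) (L₀.comp (LinearMap.mulLeft k θ)) 1 (j + 1) := by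
    intro θ hθ
    rw [hfdef, map_mul, map_prod, map_prod, mul_ne_zero_iff, Finset.prod_ne_zero_iff, Finset.prod_ne_zero_iff] at hθ
    refine ⟨fun j hj => snondeg_of_det _ _ _ ?_, fun j hj => snondeg_of_det _ _ _ ?_⟩
    · rw [← hM]
      exact hθ.1 ⟨j, hj⟩ (Finset.mem_univ _)
    · rw [← hM]
      exact hθ.2 ⟨j, by omega⟩ (Finset.mem_univ _)
  obtain ⟨c, hc⟩ : ∃ c, eval c f ≠ 0 := by
    by_contra h
    push Not at h
    exact hf (MvPolynomial.funext fun c => by rw [h c, map_zero])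
  have hrepr : ∀ c : Fin pb.dim → k, (pb.basis.repr (∑ i, c i • pb.basis i) : Fin pb.dim → k) = c := fun c =>
    funext fun i => congrFun (pb.basis.repr_sum_self c) i
  obtain ⟨θ₀, hθg⟩ : ∃ θ : A, eval (pb.basis.repr θ) f ≠ 0 := ⟨_, by rw [hrepr]; exact hc⟩
  have hθu : ∀ θ : A, eval (pb.basis.repr θ) f ≠ 0 → IsUnit θ := by
    intro θ hθ
    have g0 := (hgood θ hθ).1 (pb.dim - 1) (by omega)
    rw [Nat.sub_add_cancel hn, SNondeg, pSpan_top α pb hg] at g0
    have hinj : Function.Injective (LinearMap.mulLeft k θ) := by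
      rw [← LinearMap.ker_eq_bot, LinearMap.ker_eq_bot']
      intro y hy
      refine g0 y Submodule.mem_top fun i hi => ?_
      rw [LinearMap.mulLeft_apply] at hy
      simp [← mul_assoc, hy]
    obtain ⟨y, hy⟩ := (LinearMap.injective_iff_surjective.mp hinj) 1
    exact IsUnit.of_mul_eq_one y hy
  obtain ⟨hn0, hn1⟩ := hgood θ₀ hθg
  obtain ⟨r₀, hr₀, -, hr₀o⟩ := hankel_torus α pb hg _ hn0 hn1 hn
  obtain ⟨γi, hγi⟩ : ∃ γi, γi * ((α : A) * (θ₀ * r₀) ^ 2) = 1 :=
    (α.isUnit.mul (((hθu _ hθg).mul hr₀).pow 2)).exists_left_inv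
  let E : Subalgebra k A :=
    { carrier := {e | ∀ x ∈ rUpper (k := k) α, e * x ∈ rUpper (k := k) α}
      mul_mem' := fun {a b} ha hb x hx => by rw [mul_assoc]; exact ha _ (hb x hx)
      add_mem' := fun {a b} ha hb x hx => by rw [add_mul]; exact add_mem (ha x hx) (hb x hx)
      algebraMap_mem' := fun c x hx => by rw [← Algebra.smul_def]; exact Submodule.smul_mem _ _ hx }
  have key : ∀ θ : A, eval (pb.basis.repr θ) f ≠ 0 → θ ^ 2 * γi ∈ E := by
    intro θ hθ
    obtain ⟨g0, g1⟩ := hgood θ hθ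
    obtain ⟨r, hr, hrE, hro⟩ := hankel_torus α pb hg _ g0 g1 hn
    obtain ⟨m, hm⟩ : ∃ m, pb.dim = m + 1 := ⟨pb.dim - 1, by omega⟩
    have hz : ∀ z : A, (∀ i < m, L₀ (z * (α : A) ^ i) = 0) → L₀ (z * (α : A) ^ m) = 0 → z = 0 :=
      fun z h1 h2' => hL0 z fun i hi => by
        rcases Nat.lt_succ_iff_lt_or_eq.mp (hm ▸ hi) with hi | hi
        · exact h1 _ hi
        · rw [hi]; exact h2'
    set z := θ * ((α : A) * r) with hzdef
    set z₀ := θ₀ * ((α : A) * r₀) with hz0def
    have ha : ∀ i < m, L₀ (z * (α : A) ^ i) = 0 := fun i hi => by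
      have := hro i (by omega)
      simp only [LinearMap.comp_apply, LinearMap.mulLeft_apply] at this
      rw [← this, hzdef, pow_succ']
      ring_nf
    have hb : ∀ i < m, L₀ (z₀ * (α : A) ^ i) = 0 := fun i hi => by
      have := hr₀o i (by omega)
      simp only [LinearMap.comp_apply, LinearMap.mulLeft_apply] at this
      rw [← this, hz0def, pow_succ']
      ring_nf
    haveI : Nontrivial A := ⟨_, _, pb.basis.ne_zero ⟨0, hn⟩⟩
    have hb0 : L₀ (z₀ * (α : A) ^ m) ≠ 0 := fun e =>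
      ((hθu _ hθg).mul (α.isUnit.mul hr₀)).ne_zero (hz z₀ hb e)
    set μ := L₀ (z * (α : A) ^ m) / L₀ (z₀ * (α : A) ^ m) with hμ
    have he : z = μ • z₀ := by
      rw [← sub_eq_zero]
      refine hz _ (fun i hi => ?_) ?_
      · rw [sub_mul, smul_mul_assoc, map_sub, map_smul, ha i hi, hb i hi, smul_zero, sub_zero]
      · rw [sub_mul, smul_mul_assoc, map_sub, map_smul, smul_eq_mul, hμ, div_mul_cancel₀ _ hb0, sub_self]
    have hu : IsUnit ((α : A) * r ^ 2) := α.isUnit.mul (hr.pow 2)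
    have hinj : Function.Injective (fun e : E => (⟨(α : A) * r ^ 2 * e.1, E.mul_mem hrE e.2⟩ : E)) :=
      fun e e' h => Subtype.ext (hu.mul_right_injective (congrArg Subtype.val h))
    let mulr : E →ₗ[k] E :=
      { toFun := fun e => ⟨(α : A) * r ^ 2 * e.1, E.mul_mem hrE e.2⟩
        map_add' := fun e e' => Subtype.ext (mul_add _ _ _)
        map_smul' := fun c e => Subtype.ext (mul_smul_comm c _ _) }
    haveI : FiniteDimensional k E := FiniteDimensional.finiteDimensional_submodule (Subalgebra.toSubmodule E)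
    obtain ⟨y, hy⟩ := (LinearMap.injective_iff_surjective (f := mulr)).mp hinj 1
    have hy' : (α : A) * r ^ 2 * y.1 = 1 := congrArg Subtype.val hy
    have h' := E.mul_mem (E.algebraMap_mem (μ ^ 2)) y.2
    rw [Algebra.smul_def, hzdef, hz0def] at he
    convert h' using 1
    rw [map_pow]
    have he2 : (α : A) * θ ^ 2 * r ^ 2 = algebraMap k A μ ^ 2 * ((α : A) * (θ₀ * r₀) ^ 2) := by
      apply α.isUnit.mul_left_cancel
      linear_combination (θ * ((α : A) * r) + algebraMap k A μ * (θ₀ * ((α : A) * r₀))) * he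
    linear_combination (γi * y.1) * he2 - (θ ^ 2 * γi) * hy' + (algebraMap k A μ ^ 2 * y.1) * hγi
  have hall : ∀ z : A, θ₀ * z * γi ∈ E := by
    intro z
    let P : Polynomial k := MvPolynomial.aeval
      (fun i => Polynomial.C (pb.basis.repr θ₀ i) + Polynomial.C (pb.basis.repr z i) * Polynomial.X) f
    have hP : ∀ t, P.eval t = eval (pb.basis.repr (θ₀ + t • z)) f := by
      intro t
      rw [← Polynomial.coe_aeval_eq_eval]
      change Polynomial.aeval t (MvPolynomial.aeval _ f) = _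
      rw [MvPolynomial.comp_aeval_apply, MvPolynomial.aeval_eq_eval]
      congr 2
      funext i
      simp only [map_add, map_mul, Polynomial.aeval_C, Polynomial.aeval_X, map_smul, Finsupp.add_apply,
        Finsupp.smul_apply, smul_eq_mul, Algebra.algebraMap_self, RingHom.id_apply]
      ring
    have hP0 : P ≠ 0 := fun h => hθg (by
      have h' := hP 0
      rw [h, Polynomial.eval_zero, zero_smul, add_zero] at h'
      exact h'.symm)
    have hfin := Polynomial.finite_setOf_isRoot hP0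
    obtain ⟨t₁, ht₁⟩ := (hfin.union (Set.finite_singleton 0)).infinite_compl.nonempty
    obtain ⟨t₂, ht₂⟩ := (hfin.union ({0, t₁} : Set k).toFinite).infinite_compl.nonempty
    simp only [Set.mem_compl_iff, Set.mem_union, Set.mem_setOf_eq, Polynomial.IsRoot.def, Set.mem_singleton_iff,
      Set.mem_insert_iff, not_or, hP] at ht₁ ht₂
    have a := key θ₀ hθg
    have b := key _ ht₁.1
    have d := key _ ht₂.1
    have hne : 2 * (t₁ * t₂ * (t₂ - t₁)) ≠ 0 :=
      mul_ne_zero h2 (mul_ne_zero (mul_ne_zero ht₁.2 ht₂.2.1) (sub_ne_zero.mpr ht₂.2.2))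
    have hsum := E.smul_mem (sub_mem (E.smul_mem (sub_mem b a) (t₂ ^ 2)) (E.smul_mem (sub_mem d a) (t₁ ^ 2)))
      (2 * (t₁ * t₂ * (t₂ - t₁)))⁻¹
    convert hsum using 1
    symm
    rw [inv_smul_eq_iff₀ hne]
    simp only [Algebra.smul_def, map_pow, map_mul, map_sub, map_ofNat]
    ring
  refine eq_top_iff.mpr fun x _ => ?_
  obtain ⟨θi, hθi⟩ := (hθu _ hθg).exists_left_inv
  have := hall (x * ((α : A) * (θ₀ * r₀) ^ 2) * θi)
  rw [show θ₀ * (x * ((α : A) * (θ₀ * r₀) ^ 2) * θi) * γi = x by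
    linear_combination x * hγi + (x * γi * ((α : A) * (θ₀ * r₀) ^ 2)) * hθi] at this
  simpa using this 1 (one_mem_rUpper α)

end Cfsg.Lib.QuadPair
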