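import Cfsg.Agent.RootSub.QuadPair.Pair
import Cfsg.Prelude.Def_RootSubgroups

/-!
# Quadratic elements of smallest rank
-/

set_option autoImplicit false
set_option linter.unusedSectionVars false
set_option linter.unusedVariables false
set_option linter.unusedSimpArgs false
set_option linter.style.haveILetI false

open Polynomial
open scoped commutatorElement

namespace Cfsg.Lib.QuadPair

variable {k : Type*} [Field k] {M : Type*} [AddCommGroup M] [Module k M]

local notation "End'" => (M →ₗ[k] M)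
local notation "GL'" => LinearMap.GeneralLinearGroup k M

/-- `1 + k a` lies in `G` and `a² = 0`. -/
structure Fam (G : Subgroup GL') (a : End') : Prop where
  sq : a * a = 0
  mem : ∀ c : k, ∃ g ∈ G, (g : End') = 1 + c • a

/-- The dimension of the range. -/
noncomputable def rk (a : End') : ℕ := Module.finrank k (LinearMap.range a)

/-- A member of smallest non-zero rank. -/
structure MinEl (G : Subgroup GL') (a : End') : Prop extends Fam G a where
  ne : a ≠ 0
  min : ∀ x, Fam G x → x ≠ 0 → rk a ≤ rk x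

variable {G : Subgroup (LinearMap.GeneralLinearGroup k M)} {a b x y : M →ₗ[k] M}

theorem Fam.xu_mem (h : Fam G a) (c : k) : xu (c • a) (smul_sq_zero c h.sq) ∈ G := by
  obtain ⟨g, hg, e⟩ := h.mem c
  rwa [show xu (c • a) (smul_sq_zero c h.sq) = g from Units.ext e.symm]

theorem Fam.xu_mem_one (h : Fam G a) : xu a h.sq ∈ G := by
  obtain ⟨g, hg, e⟩ := h.mem 1
  rwa [show xu a h.sq = g from Units.ext (by rw [e, one_smul, xu_val])]

theorem Fam.smul (h : Fam G a) (c : k) : Fam G (c • a) :=
  ⟨smul_sq_zero c h.sq, fun d => by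
    obtain ⟨g, hg, e⟩ := h.mem (d * c)
    exact ⟨g, hg, by rw [e, smul_smul]⟩⟩

theorem Fam.add (ha : Fam G a) (hb : Fam G b) (hab : a * b = 0) (hba : b * a = 0) : Fam G (a + b) :=
  ⟨by rw [mul_add, add_mul, add_mul, ha.sq, hb.sq, hab, hba]; simp, fun c => by
    obtain ⟨g, hg, e⟩ := ha.mem c
    obtain ⟨h, hh, e'⟩ := hb.mem c
    refine ⟨g * h, mul_mem hg hh, ?_⟩
    rw [Units.val_mul, e, e']
    simp only [mul_add, add_mul, mul_one, one_mul, smul_mul_assoc, mul_smul_comm, hab, smul_zero, add_zero,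
      smul_add, add_assoc]⟩

theorem Fam.conj (ha : Fam G a) {g : GL'} (hg : g ∈ G) : Fam G ((g : End') * a * (↑g⁻¹ : End')) := by
  refine ⟨?_, fun c => ?_⟩
  · calc (g : End') * a * ↑g⁻¹ * ((g : End') * a * ↑g⁻¹) = (g : End') * (a * ((↑g⁻¹ : End') * g) * a) * ↑g⁻¹ := by
          simp only [mul_assoc]
      _ = 0 := by rw [Units.inv_mul, mul_one, ha.sq, mul_zero, zero_mul]
  · obtain ⟨h, hh, e⟩ := ha.mem c
    refine ⟨g * h * g⁻¹, mul_mem (mul_mem hg hh) (inv_mem hg), ?_⟩
    rw [Units.val_mul, Units.val_mul, e, mul_add, add_mul, mul_one, Units.mul_inv, mul_smul_comm, smul_mul_assoc]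

theorem rk_conj (g : GL') (a : End') : rk ((g : End') * a * (↑g⁻¹ : End')) = rk a := by
  have hsurj : Function.Surjective (↑g⁻¹ : End') := fun v => ⟨(g : End') v, by
    rw [← Module.End.mul_apply, Units.inv_mul]; rfl⟩
  have hinj : Function.Injective (g : End') := fun u v h => by
    have := congrArg (↑g⁻¹ : End') h
    rwa [← Module.End.mul_apply, ← Module.End.mul_apply, Units.inv_mul] at this
  rw [rk, rk, Module.End.mul_eq_comp, Module.End.mul_eq_comp, LinearMap.range_comp_of_range_eq_top _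
    (LinearMap.range_eq_top.mpr hsurj), LinearMap.range_comp]
  exact (Submodule.equivMapOfInjective _ hinj _).finrank_eq.symm

theorem MinEl.conj (ha : MinEl G a) {g : GL'} (hg : g ∈ G) : MinEl G ((g : End') * a * (↑g⁻¹ : End')) where
  toFam := ha.toFam.conj hg
  ne := fun h => ha.ne (by
    have : (↑g⁻¹ : End') * ((g : End') * a * ↑g⁻¹) * (g : End') = a := by
      calc (↑g⁻¹ : End') * ((g : End') * a * ↑g⁻¹) * g = ((↑g⁻¹ : End') * g) * a * ((↑g⁻¹ : End') * g) := by
            simp only [mul_assoc]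
        _ = a := by rw [Units.inv_mul, one_mul, mul_one]
    rw [← this, h, mul_zero, zero_mul])
  min := fun z hz hz0 => (rk_conj g a).le.trans (ha.min z hz hz0)

theorem MinEl.rk_eq (ha : MinEl G a) (hb : MinEl G b) : rk a = rk b :=
  le_antisymm (ha.min b hb.toFam hb.ne) (hb.min a ha.toFam ha.ne)

theorem range_mul_le (f g : End') : LinearMap.range (f * g) ≤ LinearMap.range f := by
  rw [Module.End.mul_eq_comp]; exact LinearMap.range_comp_le_range _ _

theorem range_mul (f g : End') : LinearMap.range (f * g) = (LinearMap.range g).map f := by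
  rw [Module.End.mul_eq_comp]; exact LinearMap.range_comp _ _

theorem ker_le_mul (f g : End') : LinearMap.ker g ≤ LinearMap.ker (f * g) := by
  rw [Module.End.mul_eq_comp]; exact LinearMap.ker_le_ker_comp _ _

variable [FiniteDimensional k M]

theorem finrank_map_add (f : End') (U : Submodule k M) :
    Module.finrank k (U.map f) + Module.finrank k (U ⊓ LinearMap.ker f : Submodule k M) = Module.finrank k U := by
  have h := LinearMap.finrank_range_add_finrank_ker (f.domRestrict U)
  rw [LinearMap.range_domRestrict, LinearMap.ker_domRestrict] at h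
  rw [← h, inf_comm, ← Submodule.finrank_map_subtype_eq U, Submodule.map_comap_subtype, inf_comm]

theorem rk_mul_lt {f : End'} {v : M} (hv : v ∈ LinearMap.range a) (hv0 : v ≠ 0) (hfv : f v = 0) :
    rk (f * a) < rk a := by
  have h := finrank_map_add f (LinearMap.range a)
  have hne : LinearMap.range a ⊓ LinearMap.ker f ≠ ⊥ := fun e =>
    hv0 ((Submodule.mem_bot k).mp (e ▸ ⟨hv, hfv⟩))
  have : 0 < Module.finrank k (LinearMap.range a ⊓ LinearMap.ker f : Submodule k M) :=
    Nat.pos_of_ne_zero fun e => hne (Submodule.finrank_eq_zero.mp e)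
  rw [rk, rk, range_mul]
  omega

theorem MinEl.contra {f : End'} (ha : MinEl G a) (hx : Fam G (f * a)) (hx0 : f * a ≠ 0) {v : M}
    (hv : v ∈ LinearMap.range a) (hv0 : v ≠ 0) (hfv : f v = 0) : False :=
  absurd (ha.min _ hx hx0) (not_le.mpr (rk_mul_lt hv hv0 hfv))

/-! ### Two elements with nilpotent product -/

section Nilpotent

variable (G) in
/-- The elements `1 + c y` are in `G` up to longer words. -/
def Reach (ha : a * a = 0) (hb : b * b = 0) (n : ℕ) (y : End') : Prop :=
  y ∈ wI k a b (n + 1) ∧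
    ∀ c : k, ∃ g : GL', g ∈ G ∧ g ∈ lvl (k := k) ha hb n ∧ (g : End') - (1 + c • y) ∈ wI k a b (n + 2)

theorem Reach.step (ha : a * a = 0) (hb : b * b = 0) {n : ℕ} (h : Reach G ha hb n y) (hx : Fam G x)
    (hx1 : x ∈ wI k a b 1) : Reach G ha hb (n + 1) (x * y - y * x) := by
  refine ⟨sub_mem (by rw [show n + 1 + 1 = 1 + (n + 1) by ring]; exact wI_mul ha hb (by omega) hx1 h.1)
    (wI_mul ha hb le_rfl h.1 hx1), fun c => ?_⟩
  obtain ⟨g, hg, hgl, hge⟩ := h.2 c
  set s := xu x hx.sq
  have hs : s ∈ lvl (k := k) ha hb 0 := ⟨by rw [xu_val, add_sub_cancel_left]; exact hx1,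
    by rw [xu_inv, sub_sub_cancel_left]; exact neg_mem hx1⟩
  refine ⟨⁅s, g⁆, mul_mem (mul_mem (mul_mem hx.xu_mem_one hg) (inv_mem hx.xu_mem_one)) (inv_mem hg),
    by rw [← commutatorElement_inv]; exact inv_mem (lvl_comm ha hb hgl hs), ?_⟩
  set r := (g : End') - (1 + c • y) with hr
  have hz : ((s : End') - 1) * ((g : End') - 1) - ((g : End') - 1) * ((s : End') - 1) =
      c • (x * y - y * x) + (x * r - r * x) := by
    rw [show (g : End') - 1 = c • y + r by rw [hr]; abel, xu_val, add_sub_cancel_left, mul_add, add_mul,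
      mul_smul_comm, smul_mul_assoc, smul_sub]
    abel
  have hu : (↑s⁻¹ : End') * ↑g⁻¹ - 1 ∈ wI k a b 1 := by
    rw [show (↑s⁻¹ : End') * ↑g⁻¹ - 1 = ((↑s⁻¹ : End') - 1) * ((↑g⁻¹ : End') - 1) + ((↑s⁻¹ : End') - 1) +
      ((↑g⁻¹ : End') - 1) by noncomm_ring]
    have hg1 := wI_mono (k := k) a b (show 1 ≤ n + 1 by omega) hgl.2
    exact add_mem (add_mem (wI_mono a b (by omega) (wI_mul ha hb le_rfl hs.2 hg1)) hs.2) hg1
  set u := (↑s⁻¹ : End') * ↑g⁻¹ - 1 with hu'
  have e : ((⁅s, g⁆ : GL') : End') - (1 + c • (x * y - y * x)) =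
      (x * r - r * x) + (c • (x * y - y * x) + (x * r - r * x)) * u := by
    rw [← sub_sub, comm_val_sub ha hb, hz, hu']
    noncomm_ring
  rw [e]
  have hxr : x * r - r * x ∈ wI k a b (n + 1 + 2) :=
    sub_mem (by rw [show n + 1 + 2 = 1 + (n + 2) by ring]; exact wI_mul ha hb (by omega) hx1 hge)
      (by rw [show n + 1 + 2 = n + 2 + 1 by ring]; exact wI_mul ha hb le_rfl hge hx1)
  have hxy : c • (x * y - y * x) ∈ wI k a b (n + 2) :=
    Submodule.smul_mem _ _ (sub_mem (by rw [show n + 2 = 1 + (n + 1) by ring]; exact wI_mul ha hb (by omega) hx1 h.1)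
      (wI_mul ha hb le_rfl h.1 hx1))
  exact add_mem hxr (by
    rw [show n + 1 + 2 = n + 2 + 1 by ring]
    exact wI_mul ha hb le_rfl (add_mem hxy (wI_mono a b (by omega) hxr)) hu)

theorem word_top_fam (h2 : (2 : k) ≠ 0) (ha : Fam G a) (hb : Fam G b) {m : ℕ} (hm : 1 ≤ m)
    (h1 : (a * b) ^ (m + 1) * a = 0) (h1' : (b * a) ^ (m + 1) * b = 0) : Fam G ((a * b) ^ m * a) := by
  have hI : wI k a b (2 * m + 3) = (⊥ : Submodule k End') := by
    rw [eq_bot_iff, wI, Submodule.span_le]
    rintro z ⟨i, hi, hz⟩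
    rcases hi.lt_or_eq with hi | rfl
    · have := wI_eq_bot (k := k) (a := a) (b := b) (N := 2 * m + 3)
        ⟨by rw [show 2 * m + 3 = 2 * (m + 1) + 1 by ring, (wa_odd a b _).1, h1],
          by rw [show 2 * m + 3 = 2 * (m + 1) + 1 by ring, (wa_odd a b _).2, h1']⟩
      rw [← this]
      rcases hz with rfl | rfl
      exacts [wa_mem a b hi, wb_mem a b hi]
    · rcases hz with rfl | rfl
      · rw [show 2 * m + 3 = 2 * (m + 1) + 1 by ring, (wa_odd a b _).1, h1]; exact zero_mem _
      · rw [show 2 * m + 3 = 2 * (m + 1) + 1 by ring, (wa_odd a b _).2, h1']; exact zero_mem _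
  have hzero : ∀ {z : End'} {n : ℕ}, z ∈ wI k a b n → 2 * m + 3 ≤ n → z = 0 := fun hz hn => by
    have := wI_mono a b hn hz
    rwa [hI, Submodule.mem_bot] at this
  have a1 : a ∈ wI k a b 1 := by
    have := wa_mem (k := k) a b (le_refl 1)
    rwa [show (1 : ℕ) = 0 + 1 from rfl, wa_succ, wb_zero, mul_one] at this
  have b1 : b ∈ wI k a b 1 := by
    have := wb_mem (k := k) a b (le_refl 1)
    rwa [show (1 : ℕ) = 0 + 1 from rfl, wb_succ, wa_zero, mul_one] at this
  have hodd : ∀ i : ℕ, Reach G ha.sq hb.sq (2 * i) ((2 : k) ^ i • ((a * b) ^ i * a)) := by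
    intro i
    induction i with
    | zero =>
      refine ⟨Submodule.smul_mem _ _ (by simpa using a1), fun c => ⟨xu (c • a) (smul_sq_zero c ha.sq), ha.xu_mem c,
        (xu_mem_lvl ha.sq hb.sq c).1, ?_⟩⟩
      simp [xu_val]
    | succ i ih =>
      have h' := (ih.step ha.sq hb.sq hb b1).step ha.sq hb.sq ha a1
      rw [show 2 * (i + 1) = 2 * i + 1 + 1 by ring]
      convert h' using 1
      have e1 : a * ((a * b) ^ i * a * b) = 0 := by
        rw [mul_assoc ((a * b) ^ i), ← pow_succ, pow_succ', ← mul_assoc, ← mul_assoc, ha.sq, zero_mul, zero_mul]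
      have e2 : b * ((a * b) ^ i * a) * a = 0 := by rw [mul_assoc, mul_assoc, ha.sq, mul_zero, mul_zero]
      have e3 : a * (b * ((a * b) ^ i * a)) = (a * b) ^ (i + 1) * a := by
        rw [pow_succ', mul_assoc, mul_assoc]
      have e4 : (a * b) ^ i * a * b * a = (a * b) ^ (i + 1) * a := by rw [pow_succ, mul_assoc ((a * b) ^ i) a b]
      simp only [mul_sub, sub_mul, mul_smul_comm, smul_mul_assoc, e1, e2, e3, e4, smul_zero]
      rw [pow_succ, mul_comm, mul_smul, two_smul]
      abel
  have hW := hodd m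
  set W := (a * b) ^ m * a with hW'
  set Y := b * W - W * b with hY'
  have hYsq : Y * Y = 0 := by
    have hY : Y ∈ wI k a b (2 * m + 2) := by
      have hW1 : W ∈ wI k a b (2 * m + 1) := by
        rw [hW', ← (wa_odd a b m).1]; exact wa_mem a b le_rfl
      exact sub_mem (by rw [show 2 * m + 2 = 1 + (2 * m + 1) by ring]; exact wI_mul ha.sq hb.sq (by omega) b1 hW1)
        (wI_mul ha.sq hb.sq le_rfl hW1 b1)
    exact hzero (wI_mul ha.sq hb.sq (by omega) hY hY) (by omega)
  have hFY : Fam G Y := by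
    refine ⟨hYsq, fun c => ?_⟩
    obtain ⟨g, hg, -, hge⟩ := (hW.step ha.sq hb.sq hb b1).2 (c * ((2 : k) ^ m)⁻¹)
    refine ⟨g, hg, sub_eq_zero.mp ?_⟩
    have := hzero hge (by omega)
    rw [mul_smul_comm, smul_mul_assoc, ← smul_sub, smul_smul, mul_assoc c,
      inv_mul_cancel₀ (pow_ne_zero m h2), mul_one] at this
    exact this
  have hFW : Fam G W := by
    have hWsq : W * W = 0 := by
      rw [hW', ← mul_assoc, mul_assoc ((a * b) ^ m) a]
      obtain ⟨l, rfl⟩ : ∃ l, m = l + 1 := ⟨m - 1, by omega⟩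
      rw [pow_succ' (a * b) l, ← mul_assoc a, ← mul_assoc a, ha.sq, zero_mul, zero_mul, mul_zero, zero_mul]
    refine ⟨hWsq, fun c => ?_⟩
    obtain ⟨j, rfl⟩ : ∃ j, m = j + 1 := ⟨m - 1, by omega⟩
    have h2m : Reach G ha.sq hb.sq (2 * j + 1) _ := (hodd j).step ha.sq hb.sq hb b1
    set y := b * ((2 : k) ^ j • ((a * b) ^ j * a)) - (2 : k) ^ j • ((a * b) ^ j * a) * b with hy
    obtain ⟨g, hg, hgl, hge⟩ := h2m.2 (c * ((2 : k) ^ (j + 1))⁻¹)
    set r := (g : End') - (1 + (c * ((2 : k) ^ (j + 1))⁻¹) • y) with hr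
    have hay : a * y - y * a = (2 : k) ^ (j + 1) • W := by
      have e1 : a * ((a * b) ^ j * a * b) = 0 := by
        rw [mul_assoc ((a * b) ^ j), ← pow_succ, pow_succ', ← mul_assoc, ← mul_assoc, ha.sq, zero_mul, zero_mul]
      have e2 : b * ((a * b) ^ j * a) * a = 0 := by rw [mul_assoc, mul_assoc, ha.sq, mul_zero, mul_zero]
      have e3 : a * (b * ((a * b) ^ j * a)) = (a * b) ^ (j + 1) * a := by
        rw [pow_succ', mul_assoc, mul_assoc]
      have e4 : (a * b) ^ j * a * b * a = (a * b) ^ (j + 1) * a := by rw [pow_succ, mul_assoc ((a * b) ^ j) a b]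
      rw [hy, hW']
      simp only [mul_sub, sub_mul, mul_smul_comm, smul_mul_assoc, e1, e2, e3, e4, smul_zero]
      rw [pow_succ (2 : k), mul_comm, mul_smul, two_smul]
      abel
    obtain ⟨β, hβ⟩ : ∃ β : k, a * r - r * a = β • Y := by
      have hcl : ∀ z ∈ wI k a b (2 * j + 1 + 2), ∃ β : k, a * z - z * a = β • Y := by
        intro z hz
        induction hz using Submodule.span_induction with
        | mem z hz =>
          obtain ⟨i, hi, hzi⟩ := hz
          rcases hi.lt_or_eq with hi | rfl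
          · have hz' : z ∈ wI k a b (2 * (j + 1) + 2) := by
              rcases hzi with rfl | rfl
              exacts [wa_mem a b (by omega), wb_mem a b (by omega)]
            refine ⟨0, ?_⟩
            rw [hzero (wI_mul ha.sq hb.sq (by omega) a1 hz') (by omega),
              hzero (wI_mul ha.sq hb.sq le_rfl hz' a1) (by omega), sub_zero, zero_smul]
          · rcases hzi with rfl | rfl
            · refine ⟨0, ?_⟩
              rw [show 2 * j + 1 + 2 = 2 * (j + 1) + 1 by ring, (wa_odd a b _).1, pow_succ' (a * b),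
                ← mul_assoc a, ← mul_assoc a (a * b), ← mul_assoc a a, ha.sq, mul_assoc _ a a, ha.sq]
              simp
            · refine ⟨-1, ?_⟩
              rw [show 2 * j + 1 + 2 = 2 * (j + 1) + 1 by ring, (wa_odd a b _).2, neg_one_smul, hY', hW', neg_sub]
              have e5 : ∀ n, (a * b) ^ n * a = a * (b * a) ^ n := by
                intro n
                induction n with
                | zero => simp
                | succ n ih => rw [pow_succ', pow_succ', mul_assoc (a * b), ih]; simp only [mul_assoc]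
              have e6 : ∀ n, (b * a) ^ n * b = b * (a * b) ^ n := by
                intro n
                induction n with
                | zero => simp
                | succ n ih => rw [pow_succ', pow_succ', mul_assoc (b * a), ih]; simp only [mul_assoc]
              congr 1
              · rw [e5, mul_assoc a]
              · rw [e6, mul_assoc]
        | zero => exact ⟨0, by simp⟩
        | add u v _ _ hu hv =>
          obtain ⟨p, hp⟩ := hu
          obtain ⟨q, hq⟩ := hv
          exact ⟨p + q, by rw [mul_add, add_mul, add_sub_add_comm, hp, hq, add_smul]⟩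
        | smul s u _ hu =>
          obtain ⟨p, hp⟩ := hu
          exact ⟨s * p, by rw [mul_smul_comm, smul_mul_assoc, ← smul_sub, hp, smul_smul]⟩
      exact hcl r hge
    obtain ⟨n, hn, hne⟩ := hFY.mem (-β)
    refine ⟨⁅xu a ha.sq, g⁆ * n, mul_mem (mul_mem (mul_mem (mul_mem ha.xu_mem_one hg)
      (inv_mem ha.xu_mem_one)) (inv_mem hg)) hn, ?_⟩
    have hWmem : W ∈ wI k a b (2 * (j + 1) + 1) := by rw [hW', ← (wa_odd a b _).1]; exact wa_mem a b le_rfl
    have hYmem : Y ∈ wI k a b (2 * (j + 1) + 2) :=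
      sub_mem (by rw [show 2 * (j + 1) + 2 = 1 + (2 * (j + 1) + 1) by ring]; exact wI_mul ha.sq hb.sq (by omega) b1 hWmem)
        (wI_mul ha.sq hb.sq le_rfl hWmem b1)
    have hv : (↑g⁻¹ : End') - 1 ∈ wI k a b (2 * j + 1 + 1) := hgl.2
    set v := (↑g⁻¹ : End') - 1 with hv'
    have hs : ((xu a ha.sq : GL') : End') - 1 = a := by rw [xu_val, add_sub_cancel_left]
    have hWu : W * ((↑(xu a ha.sq)⁻¹ : End') * ↑g⁻¹) = W := by
      rw [xu_inv, show (↑g⁻¹ : End') = 1 + v by rw [hv']; abel,
        show W * ((1 - a) * (1 + v)) = W - W * a + W * v - (W * a) * v by noncomm_ring,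
        show W * a = 0 by rw [hW', mul_assoc, ha.sq, mul_zero],
        hzero (wI_mul ha.sq hb.sq (by omega) hWmem hv) (by omega)]
      simp
    have hYu : Y * ((↑(xu a ha.sq)⁻¹ : End') * ↑g⁻¹) = Y := by
      rw [xu_inv, show (↑g⁻¹ : End') = 1 + v by rw [hv']; abel,
        show Y * ((1 - a) * (1 + v)) = Y - Y * a + Y * v - (Y * a) * v by noncomm_ring,
        hzero (wI_mul ha.sq hb.sq le_rfl hYmem a1) (by omega),
        hzero (wI_mul ha.sq hb.sq (by omega) hYmem hv) (by omega)]
      simp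
    have hh : ((⁅xu a ha.sq, g⁆ : GL') : End') = 1 + (c • W + β • Y) := by
      rw [← sub_eq_iff_eq_add']
      rw [comm_val_sub ha.sq hb.sq, hs, show (g : End') - 1 = (c * ((2 : k) ^ (j + 1))⁻¹) • y + r by rw [hr]; abel,
        mul_add, add_mul, mul_smul_comm, smul_mul_assoc, add_sub_add_comm, ← smul_sub, hay, smul_smul, mul_assoc c,
        inv_mul_cancel₀ (pow_ne_zero _ h2), mul_one, hβ, add_mul, smul_mul_assoc, smul_mul_assoc, hWu, hYu]
    rw [Units.val_mul, hh, hne]
    have hWY : W * Y = 0 := hzero (wI_mul ha.sq hb.sq (by omega) hWmem hYmem) (by omega)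
    simp only [mul_add, add_mul, one_mul, mul_one, smul_mul_assoc, mul_smul_comm, hYsq, hWY, smul_zero, neg_smul, mul_neg, neg_zero, smul_neg]
    abel
  exact hFW

theorem word_top_contra (h2 : (2 : k) ≠ 0) (ha : MinEl G a) (hb : Fam G b) {m : ℕ} (hm : 1 ≤ m)
    (h0 : (a * b) ^ m * a ≠ 0) (h1 : (a * b) ^ (m + 1) * a = 0) (h1' : (b * a) ^ (m + 1) * b = 0) : False := by
  obtain ⟨W, hW'⟩ : ∃ W, W = (a * b) ^ m * a := ⟨_, rfl⟩
  have hFW : Fam G W := hW' ▸ word_top_fam h2 ha.toFam hb hm h1 h1'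
  obtain ⟨v, hv⟩ : ∃ v, W v ≠ 0 := by
    by_contra h
    push Not at h
    exact h0 (hW' ▸ LinearMap.ext h)
  refine ha.contra (f := (a * b) ^ m) (hW' ▸ hFW) h0 (v := W v) ⟨((b * a) ^ m) v, ?_⟩ hv ?_
  · rw [← Module.End.mul_apply, hW']
    congr 1
    clear hFW hv hW' W h0 h1 h1' hm
    induction m with
    | zero => simp
    | succ n ih => rw [pow_succ', pow_succ', mul_assoc (a * b), ← ih]; simp only [mul_assoc]
  · rw [← Module.End.mul_apply, hW', ← mul_assoc, ← pow_add,
      show m + m = m + 1 + (m - 1) by omega, pow_add, mul_assoc]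
    have : (a * b) ^ (m + 1) * ((a * b) ^ (m - 1) * a) = (a * b) ^ (m - 1) * ((a * b) ^ (m + 1) * a) := by
      rw [← mul_assoc, ← pow_add, add_comm, pow_add, mul_assoc]
    rw [this, h1, mul_zero]
    rfl

theorem nilpotent_pair (h2 : (2 : k) ≠ 0) (ha : MinEl G a) (hb : MinEl G b) (hn : IsNilpotent (a * b)) :
    a * b * a = 0 ∧ b * a * b = 0 := by
  classical
  have hex : ∃ m, (a * b) ^ (m + 1) * a = 0 ∧ (b * a) ^ (m + 1) * b = 0 := by
    obtain ⟨N, hN⟩ := hn
    refine ⟨N, by rw [pow_succ, hN, zero_mul, zero_mul], ?_⟩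
    have e6 : ∀ n, (b * a) ^ n * b = b * (a * b) ^ n := by
      intro n
      induction n with
      | zero => simp
      | succ n ih => rw [pow_succ', pow_succ', mul_assoc (b * a), ih]; simp only [mul_assoc]
    rw [e6, pow_succ, hN, zero_mul, mul_zero]
  obtain ⟨h1, h1'⟩ := Nat.find_spec hex
  rcases Nat.eq_zero_or_pos (Nat.find hex) with h | h
  · rw [h, zero_add, pow_one] at h1 h1'
    exact ⟨h1, h1'⟩
  exfalso
  have hmin := Nat.find_min hex (show Nat.find hex - 1 < Nat.find hex by omega)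
  rw [Nat.sub_add_cancel h, not_and_or] at hmin
  rcases hmin with h0 | h0
  · exact word_top_contra h2 ha hb.toFam h h0 h1 h1'
  · exact word_top_contra h2 hb ha.toFam h h0 h1' h1

end Nilpotent

end Cfsg.Lib.QuadPair
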