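import Cfsg.Agent.RootSub.QuadPair.Bridge

/-!
# A pair with non-nilpotent product and the copy of `SL₂` it generates
-/

set_option autoImplicit false
set_option linter.unusedSectionVars false
set_option linter.unusedVariables false
set_option linter.unusedSimpArgs false
set_option linter.style.haveILetI false

open Polynomial
open Cfsg
open scoped commutatorElement

namespace Cfsg.Lib.QuadPair

variable {k : Type*} [Field k] {M : Type*} [AddCommGroup M] [Module k M]

local notation "End'" => (M →ₗ[k] M)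
local notation "GL'" => LinearMap.GeneralLinearGroup k M

variable {G : Subgroup (LinearMap.GeneralLinearGroup k M)} {a b : M →ₗ[k] M}

/-- The data of a pair with non-nilpotent product. -/
structure OppData (G : Subgroup (LinearMap.GeneralLinearGroup k M)) (a b : M →ₗ[k] M) (Q : k[X])
    (c : M →ₗ[k] M) : Prop where
  monic : Q.Monic
  irr : Irreducible Q
  q0 : Q.eval 0 ≠ 0
  rd : RootData Q (a * b) a c
  inj : ∀ x, rho rd x = 0 → x = 0
  up : ∀ f : k[X], rho rd (AdjoinRoot.mk Q f) * a = aeval (a * b) f * a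
  low : ∀ f : k[X], c * rho rd (AdjoinRoot.mk Q (f * X)) = b * aeval (a * b) f
  disj1 : Disjoint (LinearMap.range a) (LinearMap.ker b)
  disj2 : Disjoint (LinearMap.range b) (LinearMap.ker a)

variable [FiniteDimensional k M]

theorem exists_opp (h2 : (2 : k) ≠ 0) (h3 : Nat.card k ≠ 3) (ha : MinEl G a) (hb : MinEl G b)
    (hn : ¬ IsNilpotent (a * b)) : ∃ (Q : k[X]) (c : End'), OppData G a b Q c := by
  obtain ⟨Q, c, hm, hi, h0, D, h1, h2', h3', h4, h5⟩ := oppPair_data h2 h3 ha hb hn
  exact ⟨Q, c, hm, hi, h0, D, h1, h2', h3', h4, h5⟩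

variable {Q : k[X]} {c : M →ₗ[k] M}

theorem OppData.root_ne (o : OppData G a b Q c) : AdjoinRoot.root Q ≠ 0 := by
  intro h
  haveI := Fact.mk o.irr
  have h1 : aeval (AdjoinRoot.root Q) Q = 0 := by rw [AdjoinRoot.aeval_eq, AdjoinRoot.mk_self]
  rw [h, ← coeff_zero_eq_aeval_zero', coeff_zero_eq_eval_zero] at h1
  exact o.q0 ((map_eq_zero _).mp h1)

theorem OppData.sl2_up (o : OppData G a b Q c) (s : k) :
    (sl2Unit o.rd (ru (algebraMap k (AdjoinRoot Q) s)) : End') = 1 + s • a := by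
  rw [sl2Unit_ru, AdjoinRoot.algebraMap_eq, ← AdjoinRoot.mk_C, o.up, aeval_C, ← Algebra.smul_def]

theorem OppData.sl2_low (o : OppData G a b Q c) (s : k) :
    (sl2Unit o.rd (rl (algebraMap k (AdjoinRoot Q) s * AdjoinRoot.root Q)) : End') = 1 + s • b := by
  rw [sl2Unit_rl, AdjoinRoot.algebraMap_eq, ← AdjoinRoot.mk_C, ← AdjoinRoot.mk_X, ← map_mul, o.low, aeval_C,
    ← Algebra.commutes, ← Algebra.smul_def]

theorem scalarFamily_eq {σ : GL'} (h : ((σ : End') - 1) * ((σ : End') - 1) = 0) :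
    scalarFamily σ = Set.range fun s : k => xu (s • ((σ : End') - 1)) (smul_sq_zero s h) := by
  ext τ
  constructor
  · rintro ⟨s, hs⟩
    exact ⟨s, Units.ext hs.symm⟩
  · rintro ⟨s, rfl⟩
    exact ⟨s, rfl⟩

theorem OppData.rmix_top (o : OppData G a b Q c) (h2 : (2 : k) ≠ 0) (h3 : Nat.card k ≠ 3) :
    rmix k (AdjoinRoot.root Q) = ⊤ := by
  haveI := Fact.mk o.irr
  exact rmix_field_top h2 h3 o.root_ne (AdjoinRoot.powerBasis o.monic.ne_zero) (AdjoinRoot.powerBasis_gen _)

theorem OppData.range_eq (o : OppData G a b Q c) (h2 : (2 : k) ≠ 0) (h3 : Nat.card k ≠ 3) (ha : a * a = 0)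
    (hb : b * b = 0) :
    (sl2Unit o.rd).range = Subgroup.closure (Set.range (fun s : k => xu (s • a) (smul_sq_zero s ha)) ∪
      Set.range fun s : k => xu (s • b) (smul_sq_zero s hb)) := by
  rw [MonoidHom.range_eq_map, ← o.rmix_top h2 h3, rmix, MonoidHom.map_closure, Set.image_union, ← Set.range_comp,
    ← Set.range_comp]
  have e1 : (sl2Unit o.rd) ∘ (fun s : k => ru (algebraMap k (AdjoinRoot Q) s)) =
      fun s : k => xu (s • a) (smul_sq_zero s ha) := funext fun s => Units.ext (o.sl2_up s)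
  have e2 : (sl2Unit o.rd) ∘ (fun s : k => rl (algebraMap k (AdjoinRoot Q) s * AdjoinRoot.root Q)) =
      fun s : k => xu (s • b) (smul_sq_zero s hb) := funext fun s => Units.ext (o.sl2_low s)
  rw [e1, e2]

theorem closure_families_le (ha : MinEl G a) (hb : MinEl G b) :
    Subgroup.closure (Set.range (fun s : k => xu (s • a) (smul_sq_zero s ha.sq)) ∪
      Set.range fun s : k => xu (s • b) (smul_sq_zero s hb.sq)) ≤ rootOf ha ⊔ rootOf hb := by
  rw [Subgroup.closure_le]
  rintro _ (⟨s, rfl⟩ | ⟨s, rfl⟩)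
  · exact Subgroup.mem_sup_left (xu_mem_rootOf ha ((Same.refl ha).smul s))
  · exact Subgroup.mem_sup_right (xu_mem_rootOf hb ((Same.refl hb).smul s))

end Cfsg.Lib.QuadPair
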