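import Cfsg.Agent.RootSub.QuadPair.Deep

/-!
# Two square-zero elements of an algebra and the group of their scalar families
-/

set_option autoImplicit false
set_option linter.unusedSectionVars false
set_option linter.unusedVariables false
set_option linter.unusedSimpArgs false
set_option linter.style.haveILetI false

open Polynomial
open scoped commutatorElement

namespace Cfsg.Lib.QuadPair

local notation "SL2" A => Matrix.SpecialLinearGroup (Fin 2) A

variable {k E : Type*} [Field k] [Ring E] [Algebra k E]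

/-- The unit `1 + a` for a square-zero `a`. -/
def xu (a : E) (ha : a * a = 0) : Eˣ :=
  ⟨1 + a, 1 - a, by rw [show (1 + a) * (1 - a) = 1 - a * a by noncomm_ring, ha, sub_zero],
    by rw [show (1 - a) * (1 + a) = 1 - a * a by noncomm_ring, ha, sub_zero]⟩

theorem xu_val (a : E) (ha : a * a = 0) : (xu a ha : E) = 1 + a := rfl

theorem xu_inv (a : E) (ha : a * a = 0) : (↑(xu a ha)⁻¹ : E) = 1 - a := rfl

theorem smul_sq_zero (c : k) {a : E} (ha : a * a = 0) : (c • a) * (c • a) = 0 := by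
  rw [smul_mul_assoc, mul_smul_comm, ha, smul_zero, smul_zero]

/-! ### Alternating words -/

section Words

variable (a b : E)

mutual
/-- Alternating words starting with `a`. -/
def wa : ℕ → E
  | 0 => 1
  | n + 1 => a * wb n
/-- Alternating words starting with `b`. -/
def wb : ℕ → E
  | 0 => 1
  | n + 1 => b * wa n
end

theorem wa_zero : wa a b 0 = 1 := by rw [wa]

theorem wb_zero : wb a b 0 = 1 := by rw [wb]

theorem wa_succ (n : ℕ) : wa a b (n + 1) = a * wb a b n := by rw [wa]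

theorem wb_succ (n : ℕ) : wb a b (n + 1) = b * wa a b n := by rw [wb]

theorem wa_even (n : ℕ) : wa a b (2 * n) = (a * b) ^ n ∧ wb a b (2 * n) = (b * a) ^ n := by
  induction n with
  | zero => simp [wa_zero, wb_zero]
  | succ n ih =>
    rw [show 2 * (n + 1) = 2 * n + 1 + 1 by ring, wa_succ, wb_succ, wb_succ, wa_succ, ih.1, ih.2, ← mul_assoc,
      ← mul_assoc, ← pow_succ', ← pow_succ']
    exact ⟨rfl, rfl⟩

theorem wa_odd (n : ℕ) : wa a b (2 * n + 1) = (a * b) ^ n * a ∧ wb a b (2 * n + 1) = (b * a) ^ n * b := by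
  induction n with
  | zero => simp [wa_succ, wb_succ, wa_zero, wb_zero]
  | succ n ih =>
    rw [show 2 * (n + 1) + 1 = (2 * n + 1) + 1 + 1 by ring, wa_succ a b (2 * n + 1 + 1), wb_succ a b (2 * n + 1),
      wb_succ a b (2 * n + 1 + 1), wa_succ a b (2 * n + 1), ih.1, ih.2,
      pow_succ', pow_succ', mul_assoc, mul_assoc, mul_assoc, mul_assoc]
    exact ⟨rfl, rfl⟩

variable (k)

/-- The span of the alternating words of length at least `n`. -/
def wI (n : ℕ) : Submodule k E := Submodule.span k {y | ∃ i, n ≤ i ∧ (y = wa a b i ∨ y = wb a b i)}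

variable {k}

theorem wa_mem {n i : ℕ} (h : n ≤ i) : wa a b i ∈ wI k a b n := Submodule.subset_span ⟨i, h, Or.inl rfl⟩

theorem wb_mem {n i : ℕ} (h : n ≤ i) : wb a b i ∈ wI k a b n := Submodule.subset_span ⟨i, h, Or.inr rfl⟩

theorem wI_mono {m n : ℕ} (h : m ≤ n) : wI k a b n ≤ wI k a b m :=
  Submodule.span_mono fun _ ⟨i, hi, e⟩ => ⟨i, h.trans hi, e⟩

variable {a b} (ha : a * a = 0) (hb : b * b = 0)
include ha hb

theorem left_mem {n : ℕ} (hn : 1 ≤ n) {y : E} (hy : y ∈ wI k a b n) :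
    a * y ∈ wI k a b (n + 1) ∧ b * y ∈ wI k a b (n + 1) := by
  induction hy using Submodule.span_induction with
  | mem z hz =>
    obtain ⟨i, hi, rfl | rfl⟩ := hz
    · obtain ⟨j, rfl⟩ : ∃ j, i = j + 1 := ⟨i - 1, by omega⟩
      refine ⟨?_, by rw [← wb_succ]; exact wb_mem a b (by omega)⟩
      rw [wa_succ, ← mul_assoc, ha, zero_mul]
      exact zero_mem _
    · obtain ⟨j, rfl⟩ : ∃ j, i = j + 1 := ⟨i - 1, by omega⟩
      refine ⟨by rw [← wa_succ]; exact wa_mem a b (by omega), ?_⟩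
      rw [wb_succ, ← mul_assoc, hb, zero_mul]
      exact zero_mem _
  | zero => simp
  | add x y _ _ hx hy => rw [mul_add, mul_add]; exact ⟨add_mem hx.1 hy.1, add_mem hx.2 hy.2⟩
  | smul c x _ hx =>
    rw [mul_smul_comm, mul_smul_comm]
    exact ⟨Submodule.smul_mem _ _ hx.1, Submodule.smul_mem _ _ hx.2⟩

theorem wI_mul {i j : ℕ} (hj : 1 ≤ j) {x y : E} (hx : x ∈ wI k a b i) (hy : y ∈ wI k a b j) :
    x * y ∈ wI k a b (i + j) := by
  have key : ∀ (l : ℕ), wa a b l * y ∈ wI k a b (l + j) ∧ wb a b l * y ∈ wI k a b (l + j) := by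
    intro l
    induction l with
    | zero => simp [wa_zero, wb_zero, hy]
    | succ l ih =>
      rw [wa_succ, wb_succ, mul_assoc, mul_assoc, show l + 1 + j = l + j + 1 by ring]
      exact ⟨(left_mem ha hb (by omega) ih.2).1, (left_mem ha hb (by omega) ih.1).2⟩
  induction hx using Submodule.span_induction with
  | mem z hz =>
    obtain ⟨l, hl, rfl | rfl⟩ := hz
    exacts [wI_mono a b (by omega) (key l).1, wI_mono a b (by omega) (key l).2]
  | zero => simp
  | add u v _ _ hu hv => rw [add_mul]; exact add_mem hu hv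
  | smul c u _ hu => rw [smul_mul_assoc]; exact Submodule.smul_mem _ _ hu

omit ha hb in
theorem wI_eq_bot {N : ℕ} (h : wa a b N = 0 ∧ wb a b N = 0) : wI k a b (N + 1) = ⊥ := by
  have key : ∀ i, wa a b (N + i) * 1 = wa a b (N + i) := fun i => mul_one _
  have hz : ∀ i, N ≤ i → (wa a b (i + 1) = 0 ∧ wb a b (i + 1) = 0) := by
    intro i hi
    induction i, hi using Nat.le_induction with
    | base => exact ⟨by rw [wa_succ, h.2, mul_zero], by rw [wb_succ, h.1, mul_zero]⟩
    | succ i _ ih => exact ⟨by rw [wa_succ, ih.2, mul_zero], by rw [wb_succ, ih.1, mul_zero]⟩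
  rw [wI, Submodule.span_eq_bot]
  rintro y ⟨i, hi, hy⟩
  obtain ⟨j, rfl⟩ : ∃ j, i = j + 1 := ⟨i - 1, by omega⟩
  rcases hy with rfl | rfl
  exacts [(hz j (by omega)).1, (hz j (by omega)).2]

/-- The units congruent to one modulo words of length at least `n + 1`. -/
def lvl (n : ℕ) : Subgroup Eˣ where
  carrier := {g | (g : E) - 1 ∈ wI k a b (n + 1) ∧ (↑g⁻¹ : E) - 1 ∈ wI k a b (n + 1)}
  one_mem' := by simp
  inv_mem' := fun {g} hg => ⟨hg.2, by rw [inv_inv]; exact hg.1⟩
  mul_mem' := by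
    intro g h hg hh
    have key : ∀ u v : E, u - 1 ∈ wI k a b (n + 1) → v - 1 ∈ wI k a b (n + 1) → u * v - 1 ∈ wI k a b (n + 1) := by
      intro u v hu hv
      rw [show u * v - 1 = (u - 1) * (v - 1) + (u - 1) + (v - 1) by noncomm_ring]
      exact add_mem (add_mem (wI_mono a b (by omega) (wI_mul ha hb (by omega) hu hv)) hu) hv
    refine ⟨by rw [Units.val_mul]; exact key _ _ hg.1 hh.1, ?_⟩
    rw [_root_.mul_inv_rev, Units.val_mul]
    exact key _ _ hh.2 hg.2

theorem xu_mem_lvl (c : k) : xu (c • a) (smul_sq_zero c ha) ∈ lvl (k := k) ha hb 0 ∧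
    xu (c • b) (smul_sq_zero c hb) ∈ lvl (k := k) ha hb 0 := by
  have h1 : a ∈ wI k a b 1 := by
    have := wa_mem (k := k) a b (le_refl 1)
    rwa [show (1 : ℕ) = 0 + 1 from rfl, wa_succ, wb_zero, mul_one] at this
  have h2 : b ∈ wI k a b 1 := by
    have := wb_mem (k := k) a b (le_refl 1)
    rwa [show (1 : ℕ) = 0 + 1 from rfl, wb_succ, wa_zero, mul_one] at this
  refine ⟨⟨?_, ?_⟩, ?_, ?_⟩
  · rw [xu_val, add_sub_cancel_left]; exact Submodule.smul_mem _ _ h1
  · rw [xu_inv, sub_sub_cancel_left]; exact neg_mem (Submodule.smul_mem _ _ h1)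
  · rw [xu_val, add_sub_cancel_left]; exact Submodule.smul_mem _ _ h2
  · rw [xu_inv, sub_sub_cancel_left]; exact neg_mem (Submodule.smul_mem _ _ h2)

theorem comm_val_sub (g h : Eˣ) :
    ((⁅g, h⁆ : Eˣ) : E) - 1 = (((g : E) - 1) * ((h : E) - 1) - ((h : E) - 1) * ((g : E) - 1)) * (↑g⁻¹ * ↑h⁻¹) := by
  rw [show ((g : E) - 1) * ((h : E) - 1) - ((h : E) - 1) * ((g : E) - 1) = (g : E) * h - h * g by noncomm_ring,
    sub_mul, commutatorElement_def, ← Units.val_mul g h, ← Units.val_mul h g, ← Units.val_mul g⁻¹ h⁻¹,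
    ← Units.val_mul, ← Units.val_mul, show h * g * (g⁻¹ * h⁻¹) = 1 by group, Units.val_one]
  congr 2
  group

theorem lvl_comm {i : ℕ} {g h : Eˣ} (hg : g ∈ lvl (k := k) ha hb i) (hh : h ∈ lvl (k := k) ha hb 0) :
    ⁅g, h⁆ ∈ lvl (k := k) ha hb (i + 1) := by
  have key : ∀ {w z : E}, z ∈ wI k a b (i + 1 + 1) → w - 1 ∈ wI k a b 1 → z * w ∈ wI k a b (i + 1 + 1) := by
    intro w z hz hw
    rw [show z * w = z * (w - 1) + z by noncomm_ring]
    exact add_mem (wI_mono a b (by omega) (wI_mul ha hb le_rfl hz hw)) hz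
  have hd : ∀ {u v : E}, u - 1 ∈ wI k a b (i + 1) → v - 1 ∈ wI k a b 1 →
      (u - 1) * (v - 1) - (v - 1) * (u - 1) ∈ wI k a b (i + 1 + 1) := fun hu hv =>
    sub_mem (wI_mul ha hb le_rfl hu hv) (by rw [add_comm (i + 1) 1]; exact wI_mul ha hb (by omega) hv hu)
  have hm : ∀ {u v : E}, u - 1 ∈ wI k a b 1 → v - 1 ∈ wI k a b 1 → u * v - 1 ∈ wI k a b 1 := by
    intro u v hu hv
    rw [show u * v - 1 = (u - 1) * (v - 1) + (u - 1) + (v - 1) by noncomm_ring]
    exact add_mem (add_mem (wI_mono a b (by omega) (wI_mul ha hb le_rfl hu hv)) hu) hv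
  have hg0 : (↑g⁻¹ : E) - 1 ∈ wI k a b 1 := wI_mono a b (by omega) hg.2
  refine ⟨?_, ?_⟩
  · rw [comm_val_sub ha hb]
    exact key (hd hg.1 hh.1) (hm hg0 hh.2)
  · rw [commutatorElement_inv, comm_val_sub ha hb, ← neg_sub, neg_mul]
    exact neg_mem (key (hd hg.1 hh.1) (hm hh.2 hg0))

theorem lcs_le_lvl {K : Subgroup Eˣ} (hK : K ≤ lvl (k := k) ha hb 0) :
    ∀ n, K.lowerCentralSeries n ≤ lvl (k := k) ha hb n := by
  intro n
  induction n with
  | zero => exact hK
  | succ n ih =>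
    rw [Subgroup.lowerCentralSeries_succ, Subgroup.commutator_le]
    exact fun g hg h hh => lvl_comm ha hb (ih hg) (hK hh)

theorem lvl_eq_bot {N : ℕ} (hN : (a * b) ^ N = 0) : lvl (k := k) ha hb (2 * N + 2) = ⊥ := by
  have hN' : (b * a) ^ (N + 1) = 0 := by
    have e : ∀ n, (b * a) ^ (n + 1) = b * (a * b) ^ n * a := by
      intro n
      induction n with
      | zero => simp
      | succ n ih => rw [pow_succ, ih, pow_succ, mul_assoc, mul_assoc, mul_assoc, mul_assoc, mul_assoc]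
    rw [e, hN, mul_zero, zero_mul]
  have h : wa a b (2 * N + 2) = 0 ∧ wb a b (2 * N + 2) = 0 := by
    rw [show 2 * N + 2 = 2 * (N + 1) by ring, (wa_even a b _).1, (wa_even a b _).2, hN', pow_succ, hN, zero_mul]
    exact ⟨rfl, rfl⟩
  rw [eq_bot_iff]
  intro g hg
  rw [Subgroup.mem_bot]
  refine Units.ext ?_
  have := hg.1
  rw [wI_eq_bot h, Submodule.mem_bot, sub_eq_zero] at this
  exact this

end Words

/-! ### The homomorphism from `SL₂` -/

section Hom

/-- Data giving a copy of `SL₂(k[X]/(Q))`. -/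
structure RootData (Q : k[X]) (T a c : E) : Prop where
  ha : a * a = 0
  hc : c * c = 0
  aca : a * c * a = a
  cac : c * a * c = c
  comm : Commute T (a * c)
  ata : ∀ f : k[X], a * (aeval T f * (a * c)) = 0
  hQ : aeval T Q * (a * c) = 0

variable {Q : k[X]} {T a c : E} (D : RootData Q T a c)

/-- The action of `k[X]/(Q)` on the corner. -/
noncomputable def rho (D : RootData Q T a c) (x : AdjoinRoot Q) : E :=
  aeval T (Function.surjInv AdjoinRoot.mk_surjective x) * (a * c)

theorem rho_mk (f : k[X]) : rho D (AdjoinRoot.mk Q f) = aeval T f * (a * c) := by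
  rw [rho, ← sub_eq_zero, ← sub_mul, ← map_sub]
  obtain ⟨g, hg⟩ := AdjoinRoot.mk_eq_mk.mp (Function.surjInv_eq AdjoinRoot.mk_surjective (AdjoinRoot.mk Q f))
  rw [hg, mul_comm, map_mul, mul_assoc, D.hQ, mul_zero]

theorem rho_add (x y : AdjoinRoot Q) : rho D (x + y) = rho D x + rho D y := by
  obtain ⟨f, rfl⟩ := AdjoinRoot.mk_surjective x
  obtain ⟨g, rfl⟩ := AdjoinRoot.mk_surjective y
  rw [← map_add, rho_mk, rho_mk, rho_mk, map_add, add_mul]

theorem rho_zero : rho D 0 = 0 := by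
  rw [← map_zero (AdjoinRoot.mk Q), rho_mk, map_zero, zero_mul]

theorem rho_smul (s : k) (x : AdjoinRoot Q) : rho D (s • x) = s • rho D x := by
  obtain ⟨f, rfl⟩ := AdjoinRoot.mk_surjective x
  rw [AdjoinRoot.smul_mk, rho_mk, rho_mk, map_smul, smul_mul_assoc]

theorem rho_sub (x y : AdjoinRoot Q) : rho D (x - y) = rho D x - rho D y := by
  rw [eq_sub_iff_add_eq, ← rho_add, sub_add_cancel]

theorem rho_one : rho D 1 = a * c := by rw [← map_one (AdjoinRoot.mk Q), rho_mk, map_one, one_mul]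

theorem rho_mul_rho (x y : AdjoinRoot Q) : rho D x * rho D y = rho D (x * y) := by
  obtain ⟨f, rfl⟩ := AdjoinRoot.mk_surjective x
  obtain ⟨g, rfl⟩ := AdjoinRoot.mk_surjective y
  rw [← map_mul, rho_mk, rho_mk, rho_mk, map_mul]
  have hg : Commute (aeval T g) (a * c) := Algebra.commute_of_mem_adjoin_singleton_of_commute
    (aeval_mem_adjoin_singleton k T) D.comm.symm |>.symm
  rw [mul_assoc, ← mul_assoc (a * c), ← hg.eq, mul_assoc (aeval T g), ← mul_assoc]
  congr 1
  rw [← mul_assoc, D.aca]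

theorem a_rho (x : AdjoinRoot Q) : a * rho D x = 0 := by
  obtain ⟨f, rfl⟩ := AdjoinRoot.mk_surjective x
  rw [rho_mk, D.ata]

theorem rho_c (x : AdjoinRoot Q) : rho D x * c = 0 := by
  obtain ⟨f, rfl⟩ := AdjoinRoot.mk_surjective x
  rw [rho_mk, mul_assoc, mul_assoc, D.hc, mul_zero, mul_zero]

theorem ac_rho (x : AdjoinRoot Q) : a * c * rho D x = rho D x := by
  rw [← rho_one D, rho_mul_rho, one_mul]

/-- The map on matrices. -/
noncomputable def cornerMap (N : Matrix (Fin 2) (Fin 2) (AdjoinRoot Q)) : E :=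
  rho D (N 0 0) + rho D (N 0 1) * a + c * rho D (N 1 0) + c * (rho D (N 1 1) * a)

theorem cornerMap_mul (N N' : Matrix (Fin 2) (Fin 2) (AdjoinRoot Q)) :
    cornerMap D (N * N') = cornerMap D N * cornerMap D N' := by
  have r1 : ∀ x y z, rho D x * (rho D y * z) = rho D (x * y) * z := fun x y z => by rw [← mul_assoc, rho_mul_rho]
  have r2 : ∀ x z, a * (rho D x * z) = 0 := fun x z => by rw [← mul_assoc, a_rho, zero_mul]
  have r3 : ∀ x z, rho D x * (c * z) = 0 := fun x z => by rw [← mul_assoc, rho_c, zero_mul]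
  have r4 : ∀ x, a * (c * rho D x) = rho D x := fun x => by rw [← mul_assoc, ac_rho]
  have r5 : ∀ x z, a * (c * (rho D x * z)) = rho D x * z := fun x z => by
    rw [← mul_assoc c, ← mul_assoc a, r4]
  simp only [cornerMap, Matrix.mul_apply, Fin.sum_univ_two, rho_add, mul_add, add_mul, mul_assoc, r1, r2, r3, r4, r5,
    rho_mul_rho, a_rho, mul_zero, zero_mul, add_zero, zero_add]
  abel

theorem cornerMap_add (N N' : Matrix (Fin 2) (Fin 2) (AdjoinRoot Q)) :
    cornerMap D (N + N') = cornerMap D N + cornerMap D N' := by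
  simp only [cornerMap, Matrix.add_apply, rho_add, mul_add, add_mul]
  abel

/-- The homomorphism. -/
noncomputable def sl2Mon : (SL2 (AdjoinRoot Q)) →* E where
  toFun X := 1 + cornerMap D (X.1 - 1)
  map_one' := by simp [cornerMap, rho_zero]
  map_mul' X Y := by
    rw [Matrix.SpecialLinearGroup.coe_mul,
      show X.1 * Y.1 - 1 = (X.1 - 1) * (Y.1 - 1) + ((X.1 - 1) + (Y.1 - 1)) by noncomm_ring,
      cornerMap_add, cornerMap_add, cornerMap_mul]
    noncomm_ring

/-- The homomorphism into the units. -/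
noncomputable def sl2Unit : (SL2 (AdjoinRoot Q)) →* Eˣ := (sl2Mon D).toHomUnits

theorem sl2Unit_val (X : SL2 (AdjoinRoot Q)) : (sl2Unit D X : E) = 1 + cornerMap D (X.1 - 1) := rfl

theorem sl2Unit_ru (x : AdjoinRoot Q) : (sl2Unit D (ru x) : E) = 1 + rho D x * a := by
  rw [sl2Unit_val, cornerMap]
  simp [ru_coe, rho_zero]

theorem sl2Unit_rl (x : AdjoinRoot Q) : (sl2Unit D (rl x) : E) = 1 + c * rho D x := by
  rw [sl2Unit_val, cornerMap]
  simp [rl_coe, rho_zero]

theorem sl2Unit_injective (hinj : ∀ x, rho D x = 0 → x = 0) : Function.Injective (sl2Unit D) := by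
  rw [injective_iff_map_eq_one]
  intro X hX
  have h := congrArg (fun u : Eˣ => (u : E)) hX
  simp only [sl2Unit_val, Units.val_one, add_eq_left] at h
  set N := X.1 - 1 with hN
  have r1 : ∀ x y z, rho D x * (rho D y * z) = rho D (x * y) * z := fun x y z => by rw [← mul_assoc, rho_mul_rho]
  have r2 : ∀ x z, a * (rho D x * z) = 0 := fun x z => by rw [← mul_assoc, a_rho, zero_mul]
  have r3 : ∀ x z, rho D x * (c * z) = 0 := fun x z => by rw [← mul_assoc, rho_c, zero_mul]
  have r4 : ∀ x, a * (c * rho D x) = rho D x := fun x => by rw [← mul_assoc, ac_rho]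
  have r5 : ∀ x z, a * (c * (rho D x * z)) = rho D x * z := fun x z => by
    rw [← mul_assoc c, ← mul_assoc a, r4]
  have k00 : rho D 1 * cornerMap D N * rho D 1 = rho D (N 0 0) := by
    simp only [cornerMap, mul_add, add_mul, mul_assoc, r1, r2, r3, r4, r5, rho_mul_rho, a_rho, mul_zero, zero_mul,
      add_zero, zero_add, one_mul, mul_one]
  have k01 : rho D 1 * cornerMap D N * (c * rho D 1) = rho D (N 0 1) := by
    simp only [cornerMap, mul_add, add_mul, mul_assoc, r1, r2, r3, r4, r5, rho_mul_rho, a_rho, mul_zero, zero_mul,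
      add_zero, zero_add, one_mul, mul_one]
  have k10 : a * cornerMap D N * rho D 1 = rho D (N 1 0) := by
    simp only [cornerMap, mul_add, add_mul, mul_assoc, r1, r2, r3, r4, r5, rho_mul_rho, a_rho, mul_zero, zero_mul,
      add_zero, zero_add, one_mul, mul_one]
  have k11 : a * cornerMap D N * (c * rho D 1) = rho D (N 1 1) := by
    simp only [cornerMap, mul_add, add_mul, mul_assoc, r1, r2, r3, r4, r5, rho_mul_rho, a_rho, mul_zero, zero_mul,
      add_zero, zero_add, one_mul, mul_one]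
  rw [h, mul_zero, zero_mul] at k00 k01 k10 k11
  apply Subtype.ext
  rw [Matrix.SpecialLinearGroup.coe_one, ← sub_eq_zero, ← hN]
  ext i j
  fin_cases i <;> fin_cases j
  exacts [hinj _ k00.symm, hinj _ k01.symm, hinj _ k10.symm, hinj _ k11.symm]

end Hom

/-! ### The pair -/

section Pair

theorem aeval_mid {a b : E} (ha : a * a = 0) (hb : b * b = 0) (f : k[X]) :
    a * aeval (a * b) f * a = 0 ∧ b * aeval (a * b) f * b = 0 := by
  rw [← X_mul_divX_add f, map_add, map_mul, aeval_X, aeval_C, Algebra.algebraMap_eq_smul_one]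
  have h : ∀ n : ℕ, (a * b) ^ (n + 1) * b = 0 := fun n => by
    rw [pow_succ, mul_assoc, mul_assoc, hb, mul_zero, mul_zero]
  have h' : ∀ g : k[X], aeval (a * b) (g * X) * b = 0 := fun g => by
    rw [map_mul, aeval_X, mul_assoc, mul_assoc a, hb, mul_zero, mul_zero]
  constructor
  · rw [mul_add, add_mul, mul_smul_comm, mul_one, smul_mul_assoc, ha, smul_zero, add_zero, ← mul_assoc a,
      ← mul_assoc a a, ha, zero_mul, zero_mul, zero_mul]
  · rw [mul_add, add_mul, mul_smul_comm, mul_one, smul_mul_assoc, hb, smul_zero, add_zero, mul_assoc b]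
    rw [show a * b * aeval (a * b) f.divX = aeval (a * b) (f.divX * X) by
      rw [mul_comm, map_mul, aeval_X], h', mul_zero]

theorem b_aeval {a b : E} (f : k[X]) : b * aeval (a * b) f = aeval (b * a) f * b := by
  induction f using Polynomial.induction_on' with
  | add p q hp hq => rw [map_add, map_add, mul_add, add_mul, hp, hq]
  | monomial n r =>
    rw [aeval_monomial, aeval_monomial, ← mul_assoc, ← Algebra.commutes r b, mul_assoc, mul_assoc]
    congr 1
    induction n with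
    | zero => simp
    | succ n ih => rw [pow_succ, ← mul_assoc, ih, pow_succ, mul_assoc, mul_assoc, mul_assoc]

variable [FiniteDimensional k E]

set_option maxHeartbeats 1000000 in
/-- Everything the polynomial machinery gives for two square-zero elements. -/
theorem pair_data {a b : E} (ha : a * a = 0) (hb : b * b = 0) :
    ∃ (e : ℕ) (Q ε : k[X]) (c : E), Q.Monic ∧ Q.eval 0 ≠ 0 ∧
      (∀ f : k[X], aeval (a * b) f * a = 0 ↔ X ^ e * Q ∣ f) ∧
      X ^ (e + 1) ∣ ε ∧ Q ∣ 1 - ε ∧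
      ∃ D : RootData Q (a * b) (aeval (a * b) ε * a) c,
        (∀ f : k[X], rho D (AdjoinRoot.mk Q f) * (aeval (a * b) ε * a) = aeval (a * b) (f * ε) * a) ∧
        ∀ f : k[X], c * rho D (AdjoinRoot.mk Q (f * X)) = b * aeval (a * b) (f * ε) := by
  classical
  let I : Ideal k[X] :=
    { carrier := {f | aeval (a * b) f * a = 0}
      zero_mem' := by simp
      add_mem' := fun {f g} hf hg => by
        change aeval (a * b) (f + g) * a = 0
        rw [map_add, add_mul, hf, hg, add_zero]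
      smul_mem' := fun f g hg => by
        change aeval (a * b) (f * g) * a = 0
        rw [map_mul, mul_assoc, hg, mul_zero] }
  have hint : IsIntegral k (a * b) := Algebra.IsIntegral.isIntegral _
  obtain ⟨μ₀, hμ₀⟩ := (IsPrincipalIdealRing.principal I).principal
  have hμ₀0 : μ₀ ≠ 0 := fun h => by
    have : minpoly k (a * b) ∈ I := by
      change aeval (a * b) (minpoly k (a * b)) * a = 0
      rw [minpoly.aeval, zero_mul]
    rw [hμ₀, h, Submodule.mem_span_singleton] at this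
    obtain ⟨r, hr⟩ := this
    exact minpoly.ne_zero hint (by rw [← hr, smul_zero])
  obtain ⟨R, hR, hR0⟩ := exists_eq_pow_rootMultiplicity_mul_and_not_dvd μ₀ hμ₀0 0
  rw [map_zero, sub_zero] at hR hR0
  set e := μ₀.rootMultiplicity 0
  have hR1 : R.leadingCoeff ≠ 0 := leadingCoeff_ne_zero.mpr fun h => hR0 (h ▸ dvd_zero _)
  set Q := C R.leadingCoeff⁻¹ * R with hQdef
  have hQm : Q.Monic := monic_C_mul_of_mul_leadingCoeff_eq_one (inv_mul_cancel₀ hR1)
  have hQ0 : Q.eval 0 ≠ 0 := fun h => by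
    rw [hQdef, eval_mul, eval_C, mul_eq_zero, or_iff_right (inv_ne_zero hR1), ← coeff_zero_eq_eval_zero] at h
    exact hR0 (X_dvd_iff.mpr h)
  have hkill : ∀ f : k[X], aeval (a * b) f * a = 0 ↔ X ^ e * Q ∣ f := by
    intro f
    change f ∈ I ↔ _
    rw [hμ₀, Ideal.submodule_span_eq, Ideal.mem_span_singleton]
    have hu : IsUnit (C R.leadingCoeff⁻¹) := isUnit_C.mpr (isUnit_iff_ne_zero.mpr (inv_ne_zero hR1))
    rw [hQdef, mul_left_comm, IsUnit.mul_left_dvd hu, ← hR]
  have hkill2 : ∀ f : k[X], X ^ (e + 1) * Q ∣ f → aeval (a * b) f = 0 := by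
    rintro f ⟨g, rfl⟩
    rw [show X ^ (e + 1) * Q * g = X ^ e * Q * X * g by ring, map_mul, map_mul (aeval (a * b)) (X ^ e * Q) X,
      aeval_X, ← mul_assoc, (hkill _).mpr dvd_rfl, zero_mul, zero_mul]
  have hcop : IsCoprime (X ^ (e + 1)) Q :=
    IsCoprime.pow_left ((prime_X.coprime_iff_not_dvd).mpr fun h => hQ0 (by
      rw [← coeff_zero_eq_eval_zero]; exact X_dvd_iff.mp h))
  have hcop' := hcop
  obtain ⟨u, v, huv⟩ := hcop
  obtain ⟨ε, hε⟩ : ∃ ε, ε = u * X ^ (e + 1) := ⟨_, rfl⟩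
  rw [← hε] at huv
  obtain ⟨g, hgdef⟩ : ∃ g, g = u * X ^ e := ⟨_, rfl⟩
  have hgX : g * X = ε := by rw [hε, hgdef, pow_succ]; ring
  have hεX : X ^ (e + 1) ∣ ε := hε ▸ dvd_mul_left _ u
  have hεQ : Q ∣ 1 - ε := ⟨v, by linear_combination -huv⟩
  have hdiv : ∀ n : ℕ, ∀ f : k[X], X ^ (e + 1) * Q ∣ f * (ε ^ (n + 1) - ε) := by
    intro n f
    refine dvd_mul_of_dvd_right ?_ f
    refine IsCoprime.mul_dvd hcop' ?_ ?_
    · exact dvd_sub (dvd_trans hεX (dvd_pow_self _ (by omega))) hεX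
    · have h1 : Q ∣ ε ^ n - 1 := dvd_trans (dvd_sub_comm.mp hεQ) (by simpa using sub_dvd_pow_sub_pow ε 1 n)
      rw [show ε ^ (n + 1) - ε = ε * (ε ^ n - 1) by ring]
      exact dvd_mul_of_dvd_right h1 _
  have hpa : ∀ {f h : k[X]}, X ^ (e + 1) * Q ∣ f - h → aeval (a * b) f = aeval (a * b) h := fun hd => by
    rw [← sub_eq_zero, ← map_sub]; exact hkill2 _ hd
  obtain ⟨a', ha'⟩ : ∃ a', a' = aeval (a * b) ε * a := ⟨_, rfl⟩
  obtain ⟨c, hc⟩ : ∃ c, c = b * aeval (a * b) (ε * g) := ⟨_, rfl⟩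
  have hac : a' * c = aeval (a * b) (ε ^ 3) := by
    rw [ha', hc, mul_assoc, ← mul_assoc a, show a * b * aeval (a * b) (ε * g) = aeval (a * b) (X * (ε * g)) by
      rw [map_mul (aeval (a * b)) X (ε * g), aeval_X], ← map_mul]
    congr 1
    rw [← hgX]; ring
  have hcac : c * a' * c = c := by
    rw [mul_assoc, hac, hc, mul_assoc, ← map_mul]
    congr 1
    refine hpa ?_
    rw [show ε * g * ε ^ 3 - ε * g = g * (ε ^ (3 + 1) - ε) by ring]
    exact hdiv 3 g
  have haca : a' * c * a' = a' := by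
    rw [hac, ha', ← mul_assoc, ← map_mul, ← pow_succ]
    congr 1
    refine hpa ?_
    simpa using hdiv 3 1
  have D : RootData Q (a * b) a' c :=
    { ha := by
        rw [ha', ← mul_assoc, mul_assoc (aeval (a * b) ε), mul_assoc, (aeval_mid ha hb ε).1, mul_zero]
      hc := by
        rw [hc, ← mul_assoc, mul_assoc b _ b, ← mul_assoc, (aeval_mid ha hb _).2, zero_mul]
      aca := haca
      cac := hcac
      comm := by
        rw [hac]
        exact (Algebra.commute_of_mem_adjoin_singleton_of_commute (aeval_mem_adjoin_singleton k _)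
          (Commute.refl (a * b))).symm.symm
      ata := fun f => by
        rw [ha', ← mul_assoc, ← mul_assoc, mul_assoc (aeval (a * b) ε) a, mul_assoc (aeval (a * b) ε),
          ← mul_assoc (a * aeval (a * b) f), mul_assoc a (aeval (a * b) f) (aeval (a * b) ε), ← map_mul,
          (aeval_mid ha hb _).1, mul_zero, zero_mul]
      hQ := by
        rw [hac, ← map_mul]
        refine hkill2 _ ?_
        rw [mul_comm (X ^ (e + 1)) Q]
        exact mul_dvd_mul_left Q (dvd_trans hεX (dvd_pow_self ε (by norm_num : (3 : ℕ) ≠ 0))) }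
  subst ha'
  refine ⟨e, Q, ε, c, hQm, hQ0, hkill, hεX, hεQ, D, fun f => ?_, fun f => ?_⟩
  · rw [rho_mk, hac, ← map_mul, ← mul_assoc, ← map_mul, ← sub_eq_zero, ← sub_mul, ← map_sub, hkill]
    refine dvd_trans (mul_dvd_mul_right (pow_dvd_pow X (Nat.le_succ e)) Q) ?_
    rw [show f * ε ^ 3 * ε - f * ε = f * (ε ^ (3 + 1) - ε) by ring]
    exact hdiv 3 f
  · rw [rho_mk, hac, ← map_mul, hc, mul_assoc, ← map_mul]
    congr 1
    refine hpa ?_
    rw [show ε * g * (f * X * ε ^ 3) - f * ε = f * (ε ^ (4 + 1) - ε) by rw [← hgX]; ring]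
    exact hdiv 4 f

end Pair

end Cfsg.Lib.QuadPair
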