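import Mathlib
import Cfsg.Agent.RootSub.DicksonGen

/-!
# The subgroup of `SL₂(k[t]/(Q))` generated by `k` above and `k t` below
-/

set_option autoImplicit false
set_option linter.unusedSectionVars false
set_option linter.unusedVariables false
set_option linter.unusedSimpArgs false
set_option linter.style.haveILetI false

open Matrix
open scoped commutatorElement

namespace Cfsg.Lib.QuadPair

local notation "SL2" A => Matrix.SpecialLinearGroup (Fin 2) A

section Basic

variable {A : Type*} [CommRing A]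

/-- An upper unitriangular matrix. -/
def ru (x : A) : SL2 A := ⟨!![1, x; 0, 1], by simp [Matrix.det_fin_two]⟩

/-- A lower unitriangular matrix. -/
def rl (x : A) : SL2 A := ⟨!![1, 0; x, 1], by simp [Matrix.det_fin_two]⟩

theorem ru_coe (x : A) : ((ru x : SL2 A) : Matrix (Fin 2) (Fin 2) A) = !![1, x; 0, 1] := rfl

theorem rl_coe (x : A) : ((rl x : SL2 A) : Matrix (Fin 2) (Fin 2) A) = !![1, 0; x, 1] := rfl

theorem ru_mul (x y : A) : ru x * ru y = ru (x + y) := by
  apply Subtype.ext
  rw [Matrix.SpecialLinearGroup.coe_mul, ru_coe, ru_coe, ru_coe]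
  ext i j
  fin_cases i <;> fin_cases j <;> simp [Matrix.mul_apply, Fin.sum_univ_two, add_comm]

theorem rl_mul (x y : A) : rl x * rl y = rl (x + y) := by
  apply Subtype.ext
  rw [Matrix.SpecialLinearGroup.coe_mul, rl_coe, rl_coe, rl_coe]
  ext i j
  fin_cases i <;> fin_cases j <;> simp [Matrix.mul_apply, Fin.sum_univ_two]

theorem ru_zero : ru (0 : A) = 1 := by
  apply Subtype.ext
  rw [ru_coe, Matrix.SpecialLinearGroup.coe_one, Matrix.one_fin_two]

theorem rl_zero : rl (0 : A) = 1 := by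
  apply Subtype.ext
  rw [rl_coe, Matrix.SpecialLinearGroup.coe_one, Matrix.one_fin_two]

theorem ru_inv (x : A) : (ru x)⁻¹ = ru (-x) :=
  inv_eq_of_mul_eq_one_right (by rw [ru_mul, add_neg_cancel, ru_zero])

theorem rl_inv (x : A) : (rl x)⁻¹ = rl (-x) :=
  inv_eq_of_mul_eq_one_right (by rw [rl_mul, add_neg_cancel, rl_zero])

theorem ru_inj {x y : A} (h : ru x = ru y) : x = y := by
  have := congrArg (fun g : SL2 A => g.1 0 1) h
  simpa [ru_coe] using this

theorem rl_inj {x y : A} (h : rl x = rl y) : x = y := by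
  have := congrArg (fun g : SL2 A => g.1 1 0) h
  simpa [rl_coe] using this

theorem ru_pow (x : A) (n : ℕ) : ru x ^ n = ru (n * x) := by
  induction n with
  | zero => rw [pow_zero, Nat.cast_zero, zero_mul, ru_zero]
  | succ n ih => rw [pow_succ, ih, ru_mul, Nat.cast_succ, add_one_mul]

theorem rl_pow (x : A) (n : ℕ) : rl x ^ n = rl (n * x) := by
  induction n with
  | zero => rw [pow_zero, Nat.cast_zero, zero_mul, rl_zero]
  | succ n ih => rw [pow_succ, ih, rl_mul, Nat.cast_succ, add_one_mul]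

theorem map_ru {B : Type*} [CommRing B] (f : A →+* B) (x : A) :
    Matrix.SpecialLinearGroup.map f (ru x) = ru (f x) := by
  apply Subtype.ext
  change f.mapMatrix (ru x).1 = _
  rw [ru_coe, ru_coe]
  ext i j
  fin_cases i <;> fin_cases j <;> simp

theorem map_rl {B : Type*} [CommRing B] (f : A →+* B) (x : A) :
    Matrix.SpecialLinearGroup.map f (rl x) = rl (f x) := by
  apply Subtype.ext
  change f.mapMatrix (rl x).1 = _
  rw [rl_coe, rl_coe]
  ext i j
  fin_cases i <;> fin_cases j <;> simp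

theorem mulVec_ru (x u v : A) : (ru x : SL2 A).1 *ᵥ ![u, v] = ![u + x * v, v] := by
  funext i
  fin_cases i <;> simp [ru_coe, Matrix.mulVec, dotProduct, Fin.sum_univ_two]

theorem mulVec_rl (x u v : A) : (rl x : SL2 A).1 *ᵥ ![u, v] = ![u, x * u + v] := by
  funext i
  fin_cases i <;> simp [rl_coe, Matrix.mulVec, dotProduct, Fin.sum_univ_two]

/-- Conjugation by `diag(s, 1)` on matrices. -/
def scl (s : Aˣ) (X : Matrix (Fin 2) (Fin 2) A) : Matrix (Fin 2) (Fin 2) A :=
  !![X 0 0, s * X 0 1; (↑s⁻¹ : A) * X 1 0, X 1 1]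

theorem scl_mul (s : Aˣ) (X Y : Matrix (Fin 2) (Fin 2) A) : scl s (X * Y) = scl s X * scl s Y := by
  have h := s.inv_mul
  have h' := s.mul_inv
  ext i j
  fin_cases i <;> fin_cases j <;> simp [scl, Matrix.mul_apply, Fin.sum_univ_two] <;>
    first
      | linear_combination (-(X 0 1 * Y 1 0)) * h
      | linear_combination (-(X 1 0 * Y 0 1)) * h
      | ring

theorem scl_det (s : Aˣ) (X : Matrix (Fin 2) (Fin 2) A) : (scl s X).det = X.det := by
  have h := s.inv_mul
  rw [scl, Matrix.det_fin_two_of, Matrix.det_fin_two]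
  linear_combination (-(X 0 1 * X 1 0)) * h

/-- Conjugation by `diag(s, 1)`. -/
def sclHom (s : Aˣ) : (SL2 A) →* (SL2 A) where
  toFun X := ⟨scl s X.1, (scl_det s X.1).trans X.2⟩
  map_one' := Subtype.ext (by ext i j; fin_cases i <;> fin_cases j <;> simp [scl])
  map_mul' X Y := Subtype.ext (scl_mul s X.1 Y.1)

theorem sclHom_ru (s : Aˣ) (x : A) : sclHom s (ru x) = ru ((s : A) * x) := by
  apply Subtype.ext
  change scl s (ru x).1 = _
  rw [ru_coe, ru_coe]
  ext i j
  fin_cases i <;> fin_cases j <;> simp [scl]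

theorem sclHom_rl (s : Aˣ) (x : A) : sclHom s (rl x) = rl ((↑s⁻¹ : A) * x) := by
  apply Subtype.ext
  change scl s (rl x).1 = _
  rw [rl_coe, rl_coe]
  ext i j
  fin_cases i <;> fin_cases j <;> simp [scl]

/-- Conjugation by `!![0, 1; -a, 0]` on matrices. -/
def swp (a : Aˣ) (X : Matrix (Fin 2) (Fin 2) A) : Matrix (Fin 2) (Fin 2) A :=
  !![X 1 1, -((↑a⁻¹ : A) * X 1 0); -((a : A) * X 0 1), X 0 0]

theorem swp_mul (a : Aˣ) (X Y : Matrix (Fin 2) (Fin 2) A) : swp a (X * Y) = swp a X * swp a Y := by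
  have h := a.inv_mul
  ext i j
  fin_cases i <;> fin_cases j <;> simp [swp, Matrix.mul_apply, Fin.sum_univ_two] <;>
    first
      | linear_combination (-(X 1 0 * Y 0 1)) * h
      | linear_combination (-(X 0 1 * Y 1 0)) * h
      | ring

theorem swp_det (a : Aˣ) (X : Matrix (Fin 2) (Fin 2) A) : (swp a X).det = X.det := by
  have h := a.inv_mul
  rw [swp, Matrix.det_fin_two_of, Matrix.det_fin_two]
  linear_combination (-(X 0 1 * X 1 0)) * h

/-- Conjugation by `!![0, 1; -a, 0]`. -/
def swpHom (a : Aˣ) : (SL2 A) →* (SL2 A) where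
  toFun X := ⟨swp a X.1, (swp_det a X.1).trans X.2⟩
  map_one' := Subtype.ext (by ext i j; fin_cases i <;> fin_cases j <;> simp [swp])
  map_mul' X Y := Subtype.ext (swp_mul a X.1 Y.1)

theorem swpHom_ru (a : Aˣ) (x : A) : swpHom a (ru x) = rl (-((a : A) * x)) := by
  apply Subtype.ext
  change swp a (ru x).1 = _
  rw [ru_coe, rl_coe]
  ext i j
  fin_cases i <;> fin_cases j <;> simp [swp]

theorem swpHom_rl (a : Aˣ) (x : A) : swpHom a (rl x) = ru (-((↑a⁻¹ : A) * x)) := by
  apply Subtype.ext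
  change swp a (rl x).1 = _
  rw [ru_coe, rl_coe]
  ext i j
  fin_cases i <;> fin_cases j <;> simp [swp]

theorem conj_rl_of_col (h : SL2 A) (a y : A) (h01 : h.1 0 1 = a) (h11 : h.1 1 1 = 0) :
    h * rl y * h⁻¹ = ru (-(a ^ 2) * y) := by
  have hd := h.2
  rw [Matrix.det_fin_two, h01, h11] at hd
  rw [mul_inv_eq_iff_eq_mul]
  apply Subtype.ext
  rw [Matrix.SpecialLinearGroup.coe_mul, Matrix.SpecialLinearGroup.coe_mul, ru_coe, rl_coe]
  ext i j
  fin_cases i <;> fin_cases j <;> simp [Matrix.mul_apply, Fin.sum_univ_two, h01, h11] <;>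
    linear_combination (-(a * y)) * hd

/-- An element mapping the upper root element `ru x` to `ru v`. -/
theorem shape_of_ru {h : SL2 A} {x v : A} (e : h * ru x = ru v * h) :
    h.1 1 0 * x = 0 ∧ v * h.1 1 0 = 0 ∧ h.1 0 0 * x = v * h.1 1 1 := by
  have e' := congrArg (fun g : SL2 A => g.1) e
  simp only [Matrix.SpecialLinearGroup.coe_mul, ru_coe] at e'
  have a00 := congrFun (congrFun e' 0) 0
  have a01 := congrFun (congrFun e' 0) 1
  have a11 := congrFun (congrFun e' 1) 1
  simp [Matrix.mul_apply, Fin.sum_univ_two] at a00 a01 a11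
  refine ⟨?_, ?_, ?_⟩ <;> grind

/-- An element mapping `ru 1` to a lower root element. -/
theorem shape_of_rl {h : SL2 A} {v : A} (e : h * ru 1 = rl v * h) : h.1 0 0 = 0 := by
  have e' := congrArg (fun g : SL2 A => g.1) e
  simp only [Matrix.SpecialLinearGroup.coe_mul, ru_coe, rl_coe] at e'
  have a01 := congrFun (congrFun e' 0) 1
  simp [Matrix.mul_apply, Fin.sum_univ_two] at a01
  exact a01

/-- An element of `p`-power order commuting with `ru 1` is upper unitriangular. -/
theorem eq_ru_of_commute {p : ℕ} (hp : Odd p) {h : SL2 A} {n : ℕ} (hn : h ^ p ^ n = 1)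
    (hc : h * ru 1 = ru 1 * h) : h = ru (h.1 0 1) := by
  obtain ⟨h1, -, h3⟩ := shape_of_ru hc
  rw [mul_one] at h1
  rw [mul_one, one_mul] at h3
  have hd := h.2
  rw [Matrix.det_fin_two, h1, mul_zero, sub_zero, ← h3] at hd
  have hpow : ∀ m : ℕ, (h ^ m).1 0 0 = h.1 0 0 ^ m ∧ (h ^ m).1 1 0 = 0 := by
    intro m
    induction m with
    | zero => simp
    | succ m ih =>
      have i1 := ih.1
      have i2 := ih.2
      rw [Matrix.SpecialLinearGroup.coe_pow] at i1 i2 ⊢
      rw [pow_succ, pow_succ]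
      simp [Matrix.mul_apply, Fin.sum_univ_two, i1, i2, h1]
  have ha : h.1 0 0 = 1 := by
    have e := (hpow (p ^ n)).1
    rw [hn] at e
    obtain ⟨m, hm⟩ := hp.pow (n := n)
    rw [hm, pow_succ, pow_mul, pow_two, hd, one_pow, one_mul] at e
    simpa using e.symm
  apply Subtype.ext
  rw [ru_coe]
  ext i j
  fin_cases i <;> fin_cases j <;> simp [ha, h1, ← h3]

variable (k : Type*) [Field k] [Algebra k A]

/-- The subgroup generated by `k` above and `k a` below. -/
def rmix (a : A) : Subgroup (SL2 A) :=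
  Subgroup.closure (Set.range (fun c : k => ru (algebraMap k A c)) ∪
    Set.range fun c : k => rl (algebraMap k A c * a))

variable {k}

theorem ru_base_mem {a : A} (c : k) : ru (algebraMap k A c) ∈ rmix k a := Subgroup.subset_closure (Or.inl ⟨c, rfl⟩)

theorem rl_base_mem {a : A} (c : k) : rl (algebraMap k A c * a) ∈ rmix k a :=
  Subgroup.subset_closure (Or.inr ⟨c, rfl⟩)

theorem rmix_map_le {a : A} (ψ : (SL2 A) →* (SL2 A)) (hu : ∀ c : k, ψ (ru (algebraMap k A c)) ∈ rmix k a)
    (hl : ∀ c : k, ψ (rl (algebraMap k A c * a)) ∈ rmix k a) : (rmix k a).map ψ ≤ rmix k a := by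
  rw [Subgroup.map_le_iff_le_comap, rmix, Subgroup.closure_le]
  rintro _ (⟨c, rfl⟩ | ⟨c, rfl⟩)
  exacts [hu c, hl c]

theorem swp_mem (a : Aˣ) {g : SL2 A} (hg : g ∈ rmix k (a : A)) : swpHom a g ∈ rmix k (a : A) := by
  refine rmix_map_le _ (fun c => ?_) (fun c => ?_) (Subgroup.mem_map_of_mem _ hg)
  · rw [swpHom_ru]
    convert rl_base_mem (a := (a : A)) (-c) using 2
    rw [map_neg]; ring
  · rw [swpHom_rl]
    convert ru_base_mem (a := (a : A)) (-c) using 2
    rw [map_neg, mul_left_comm, Units.inv_mul, mul_one]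

theorem scl_map_le (a : A) (s : kˣ) :
    (rmix k a).map (sclHom (Units.map (algebraMap k A).toMonoidHom s)) ≤ rmix k a := by
  refine rmix_map_le _ (fun c => ?_) fun c => ?_
  · rw [sclHom_ru, Units.coe_map]
    change ru (algebraMap k A s * algebraMap k A c) ∈ _
    rw [← map_mul]
    exact ru_base_mem _
  · rw [sclHom_rl, ← map_inv, Units.coe_map]
    change rl (algebraMap k A ↑s⁻¹ * (algebraMap k A c * a)) ∈ _
    rw [← mul_assoc, ← map_mul]
    exact rl_base_mem _

theorem lcs_mono {G : Type*} [Group G] {H K : Subgroup G} (h : H ≤ K) :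
    ∀ n, H.lowerCentralSeries n ≤ K.lowerCentralSeries n := by
  intro n
  induction n with
  | zero => exact h
  | succ n ih => exact Subgroup.commutator_mono ih h

theorem scl_lcs (a : A) (n : ℕ) (s : kˣ) {x : A} (hx : ru x ∈ (rmix k a).lowerCentralSeries n) :
    ru (algebraMap k A s * x) ∈ (rmix k a).lowerCentralSeries n := by
  have h := Subgroup.mem_map_of_mem (sclHom (Units.map (algebraMap k A).toMonoidHom s)) hx
  rw [Subgroup.map_lowerCentralSeries, sclHom_ru] at h
  exact lcs_mono (scl_map_le a s) n h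

theorem smul_lcs (a : A) (n : ℕ) {x : A} (hx : ru x ∈ (rmix k a).lowerCentralSeries n) (c : k) :
    ru (c • x) ∈ (rmix k a).lowerCentralSeries n := by
  rw [Algebra.smul_def]
  rcases eq_or_ne c 0 with rfl | hc
  · rw [map_zero, zero_mul, ru_zero]; exact one_mem _
  · exact scl_lcs a n (Units.mk0 c hc) hx

variable (a : Aˣ)

/-- The upper entries of the group. -/
def rUpper : Submodule k A where
  carrier := {x | ru x ∈ rmix k (a : A)}
  add_mem' {x y} hx hy := by
    change ru (x + y) ∈ rmix k (a : A)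
    rw [← ru_mul]
    exact mul_mem hx hy
  zero_mem' := by
    change ru (0 : A) ∈ rmix k (a : A)
    rw [ru_zero]
    exact one_mem _
  smul_mem' c x hx := smul_lcs (a : A) 0 hx c

theorem mem_rUpper {x : A} : x ∈ rUpper (k := k) a ↔ ru x ∈ rmix k (a : A) := Iff.rfl

theorem rl_mem_of_upper {x : A} (hx : x ∈ rUpper (k := k) a) : rl ((a : A) * x) ∈ rmix k (a : A) := by
  have h := swp_mem a ((mem_rUpper a).mp ((rUpper a).neg_mem hx))
  rwa [swpHom_ru, mul_neg, neg_neg] at h

theorem one_mem_rUpper : (1 : A) ∈ rUpper (k := k) a := by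
  rw [mem_rUpper, ← map_one (algebraMap k A)]
  exact ru_base_mem _

/-- A group with all root elements contains them deep in its lower central series. -/
theorem all_lcs (H : Subgroup (SL2 A)) (hu : ∀ x, ru x ∈ H) (hl : ∀ x, rl x ∈ H) (s : kˣ)
    (hs : (s : k) ^ 2 ≠ 1) : ∀ (n : ℕ) (x : A), ru x ∈ H.lowerCentralSeries n ∧ rl x ∈ H.lowerCentralSeries n := by
  set u := algebraMap k A (s : k)
  set u' := algebraMap k A (↑s⁻¹ : k)
  have huu : u * u' = 1 := by rw [← map_mul, s.mul_inv, map_one]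
  set d : SL2 A := (ru u * rl (-u') * ru u) * (ru 1 * rl (-1) * ru 1)⁻¹ with hd
  have hdH : d ∈ H := mul_mem (mul_mem (mul_mem (hu _) (hl _)) (hu _)) (inv_mem (mul_mem (mul_mem (hu _) (hl _)) (hu _)))
  have hdc : d.1 = !![u, 0; 0, u'] := by
    rw [hd, _root_.mul_inv_rev, _root_.mul_inv_rev, ru_inv, rl_inv]
    simp only [Matrix.SpecialLinearGroup.coe_mul, ru_coe, rl_coe]
    ext i j
    fin_cases i <;> fin_cases j <;> simp [Matrix.mul_apply, Fin.sum_univ_two] <;> grind
  intro n
  induction n with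
  | zero => exact fun x => ⟨hu x, hl x⟩
  | succ n ih =>
    intro x
    constructor
    · have hne : (1 - (s : k) ^ 2) ≠ 0 := sub_ne_zero.mpr (Ne.symm hs)
      have e : ⁅ru (algebraMap k A (1 - (s : k) ^ 2)⁻¹ * x), d⁆ = ru x := by
        rw [commutatorElement_def, ru_inv, mul_inv_eq_iff_eq_mul]
        apply Subtype.ext
        simp only [Matrix.SpecialLinearGroup.coe_mul, ru_coe, hdc]
        have h1 : algebraMap k A (1 - (s : k) ^ 2)⁻¹ * (1 - u ^ 2) = 1 := by
          rw [← map_one (algebraMap k A), ← map_pow, ← map_sub, ← map_mul, inv_mul_cancel₀ hne, map_one]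
        ext i j
        fin_cases i <;> fin_cases j <;> simp [Matrix.mul_apply, Fin.sum_univ_two] <;> grind
      rw [← e]
      exact Subgroup.commutator_mem_commutator (ih _).1 hdH
    · have hne : (1 - (s : k) ^ 2) ≠ 0 := sub_ne_zero.mpr (Ne.symm hs)
      have e : ⁅rl (algebraMap k A (-(s : k) ^ 2 / (1 - (s : k) ^ 2)) * x), d⁆ = rl x := by
        rw [commutatorElement_def, rl_inv, mul_inv_eq_iff_eq_mul]
        apply Subtype.ext
        simp only [Matrix.SpecialLinearGroup.coe_mul, rl_coe, hdc]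
        have h1 : algebraMap k A (-(s : k) ^ 2 / (1 - (s : k) ^ 2)) * (1 - u ^ 2) = -u ^ 2 := by
          rw [← map_one (algebraMap k A), ← map_pow, ← map_sub, ← map_mul, div_mul_cancel₀ _ hne, map_neg]
        ext i j
        fin_cases i <;> fin_cases j <;> simp [Matrix.mul_apply, Fin.sum_univ_two] <;> grind
      rw [← e]
      exact Subgroup.commutator_mem_commutator (ih _).2 hdH

theorem exists_sq_ne_one (h2 : (2 : k) ≠ 0) (h3 : Nat.card k ≠ 3) : ∃ s : kˣ, (s : k) ^ 2 ≠ 1 := by
  classical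
  by_contra h
  push Not at h
  have hsq : ∀ c : k, c = 0 ∨ c = 1 ∨ c = -1 := fun c => by
    by_cases hc : c = 0
    · exact Or.inl hc
    · exact Or.inr (sq_eq_one_iff.mp (h (Units.mk0 c hc)))
  haveI : Finite k := Set.finite_univ_iff.mp (((Set.finite_singleton (-1)).insert 1 |>.insert 0).subset
    fun c _ => by simpa [Set.mem_insert_iff] using hsq c)
  haveI := Fintype.ofFinite k
  refine h3 ?_
  rw [Nat.card_eq_fintype_card]
  refine le_antisymm ?_ ?_
  · calc Fintype.card k ≤ ({0, 1, -1} : Finset k).card :=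
          Finset.card_le_card fun c _ => by simpa [Finset.mem_insert] using hsq c
      _ ≤ 3 := Finset.card_le_three
  · have e : ({0, 1, -1} : Finset k).card = 3 := by
      rw [Finset.card_eq_three]
      exact ⟨0, 1, -1, zero_ne_one, by simp, fun e => h2 (by linear_combination e), rfl⟩
    rw [← e]
    exact Finset.card_le_univ _

end Basic

end Cfsg.Lib.QuadPair
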