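import Cfsg.Agent.RootSub.QuadPair.ClassTwo
import Cfsg.Agent.RootSub.Components
import Cfsg.Agent.RootSub.Nondegenerate
import Cfsg.Agent.RootSub.SL2

/-!
# The subgroups attached to a quadratic pair form a set of abstract root subgroups
-/

set_option autoImplicit false
set_option linter.unusedSectionVars false
set_option linter.unusedVariables false
set_option linter.unusedSimpArgs false
set_option linter.style.haveILetI false

open Polynomial
open Cfsg
open scoped commutatorElement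

namespace Cfsg.Lib.QuadPair

universe u

/-! ### Restriction to a generated subgroup -/

section Restrict

variable {Γ : Type*} [Group Γ] {P : Set (Subgroup Γ)} {A B H : Subgroup Γ}

theorem restrict_map (hA : A ≤ H) : (A.subgroupOf H).map H.subtype = A := by
  rw [Subgroup.subgroupOf_map_subtype, inf_eq_left.mpr hA]

theorem restrict_inj (hA : A ≤ H) (hB : B ≤ H) (h : A.subgroupOf H = B.subgroupOf H) : A = B := by
  rw [← restrict_map hA, h, restrict_map hB]

theorem pair_restrict (hA : A ≤ H) (hB : B ≤ H) (h : IsRankOnePair A B) :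
    IsRankOnePair (A.subgroupOf H) (B.subgroupOf H) := by
  haveI := h.nilpotent_left
  haveI := h.nilpotent_right
  refine ⟨fun he => h.ne (restrict_inj hA hB he),
    Group.nilpotent_of_mulEquiv (Subgroup.subgroupOfEquivOfLe hA).symm,
    Group.nilpotent_of_mulEquiv (Subgroup.subgroupOfEquivOfLe hB).symm, ?_, ?_⟩
  · intro a ha ha1
    obtain ⟨b, hb, hb1, he⟩ := h.cond_left (a : Γ) ha fun h' => ha1 (Subtype.ext h')
    refine ⟨⟨b, hB hb⟩, hb, fun h' => hb1 (congrArg Subtype.val h'), ?_⟩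
    rw [← RootSub.subgroupOf_conjBy, ← RootSub.subgroupOf_conjBy]
    exact congrArg (fun S => S.subgroupOf H) he
  · intro a ha ha1
    obtain ⟨b, hb, hb1, he⟩ := h.cond_right (a : Γ) ha fun h' => ha1 (Subtype.ext h')
    refine ⟨⟨b, hA hb⟩, hb, fun h' => hb1 (congrArg Subtype.val h'), ?_⟩
    rw [← RootSub.subgroupOf_conjBy, ← RootSub.subgroupOf_conjBy]
    exact congrArg (fun S => S.subgroupOf H) he

theorem pair_of_restrict (hA : A ≤ H) (hB : B ≤ H) (h : IsRankOnePair (A.subgroupOf H) (B.subgroupOf H)) :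
    IsRankOnePair A B := by
  have := RootSub.map_pair H.subtype h (by rw [restrict_map hA, restrict_map hB]; exact fun e => h.ne (by rw [e]))
  rwa [restrict_map hA, restrict_map hB] at this

theorem commutator_restrict (hA : A ≤ H) (hB : B ≤ H) :
    ⁅A.subgroupOf H, B.subgroupOf H⁆ = (⁅A, B⁆ : Subgroup Γ).subgroupOf H := by
  apply Subgroup.map_injective H.subtype_injective
  rw [Subgroup.map_commutator, restrict_map hA, restrict_map hB,
    restrict_map ((Subgroup.commutator_mono hA hB).trans (Subgroup.commutator_le_self H))]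

theorem restrict_rootSet (hH : H = ⨆ B ∈ P, B) (hab : ∀ A ∈ P, ∀ a ∈ A, ∀ a' ∈ A, a * a' = a' * a)
    (hne : ∀ A ∈ P, A ≠ ⊥) (hconj : ∀ A ∈ P, ∀ g ∈ H, conjBy A g ∈ P)
    (hpair : ∀ A ∈ P, ∀ B ∈ P, ⁅A, B⁆ = ⊥ ∨ IsRankOnePair A B ∨ RootCommutatorCase P A B) :
    IsRootSubgroupSet ((fun A : Subgroup Γ => A.subgroupOf H) '' P) := by
  have hle : ∀ A ∈ P, A ≤ H := fun A hA => hH ▸ le_iSup₂ (f := fun B _ => B) A hA
  refine ⟨?_, ?_, ?_, ?_, ?_⟩
  · rintro _ ⟨A, hA, rfl⟩
    exact ⟨⟨fun x y => Subtype.ext (Subtype.ext (hab A hA _ x.2 _ y.2))⟩⟩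
  · rintro _ ⟨A, hA, rfl⟩ h
    exact hne A hA (by rw [← restrict_map (hle A hA), show A.subgroupOf H = ⊥ from h, Subgroup.map_bot])
  · apply Subgroup.map_injective H.subtype_injective
    rw [← MonoidHom.range_eq_map, Subgroup.range_subtype, iSup_image, Subgroup.map_iSup]
    conv_rhs => rw [hH]
    refine iSup_congr fun A => ?_
    rw [Subgroup.map_iSup]
    exact iSup_congr fun hA => restrict_map (hle A hA)
  · rintro _ ⟨A, hA, rfl⟩ g
    exact ⟨conjBy A g, hconj A hA g g.2, RootSub.subgroupOf_conjBy H A g⟩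
  · rintro _ ⟨A, hA, rfl⟩ _ ⟨B, hB, rfl⟩
    rcases hpair A hA B hB with h | h | ⟨h1, h2, h3, h4⟩
    · exact Or.inl (by rw [commutator_restrict (hle A hA) (hle B hB), h, Subgroup.bot_subgroupOf])
    · exact Or.inr (Or.inl (pair_restrict (hle A hA) (hle B hB) h))
    · refine Or.inr (Or.inr ⟨?_, ?_, ?_, ?_⟩)
      · show ⁅A.subgroupOf H, B.subgroupOf H⁆ ∈ _
        rw [commutator_restrict (hle A hA) (hle B hB)]
        exact ⟨_, h1, rfl⟩
      · intro c hc x hx
        refine Subtype.ext (h2 (c : Γ) ?_ (x : Γ) ?_)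
        · have := (commutator_restrict (hle A hA) (hle B hB)) ▸ hc
          exact this
        · have := Subgroup.mem_map_of_mem H.subtype hx
          rwa [Subgroup.map_sup, restrict_map (hle A hA), restrict_map (hle B hB)] at this
      · intro a ha ha1
        apply Subgroup.map_injective H.subtype_injective
        rw [MonoidHom.map_closure, commutator_restrict (hle A hA) (hle B hB), restrict_map (hle _ h1),
          ← h3 (a : Γ) ha fun h' => ha1 (Subtype.ext h'), Set.image_image]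
        congr 1
        ext x
        exact ⟨fun ⟨b, hb, e⟩ => ⟨(b : Γ), hb, e⟩, fun ⟨b, hb, e⟩ => ⟨⟨b, hle B hB hb⟩, hb, e⟩⟩
      · intro b hb hb1
        apply Subgroup.map_injective H.subtype_injective
        rw [MonoidHom.map_closure, commutator_restrict (hle A hA) (hle B hB), restrict_map (hle _ h1),
          ← h4 (b : Γ) hb fun h' => hb1 (Subtype.ext h'), Set.image_image]
        congr 1
        ext x
        exact ⟨fun ⟨a, ha, e⟩ => ⟨(a : Γ), ha, e⟩, fun ⟨a, ha, e⟩ => ⟨⟨a, hle A hA ha⟩, ha, e⟩⟩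

theorem commutator_sup_le (hA : ∀ a ∈ A, ∀ a' ∈ A, a * a' = a' * a) (hB : ∀ b ∈ B, ∀ b' ∈ B, b * b' = b' * b)
    (hc : ∀ c ∈ ⁅A, B⁆, ∀ x ∈ A ⊔ B, c * x = x * c) : ⁅A ⊔ B, A ⊔ B⁆ ≤ ⁅A, B⁆ := by
  obtain ⟨S, hS⟩ : ∃ S : Set Γ, S = (A : Set Γ) ∪ (B : Set Γ) := ⟨_, rfl⟩
  have hcl : A ⊔ B = Subgroup.closure S := by rw [hS, Subgroup.sup_eq_closure]
  have hgen : ∀ g ∈ S, ∀ h ∈ S, ⁅g, h⁆ ∈ ⁅A, B⁆ := by
    rw [hS]
    rintro g (hg | hg) h (hh | hh)
    · rw [commutatorElement_eq_one_iff_mul_comm.mpr (hA g hg h hh)]; exact one_mem _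
    · exact Subgroup.commutator_mem_commutator hg hh
    · rw [← commutatorElement_inv]; exact inv_mem (Subgroup.commutator_mem_commutator hh hg)
    · rw [commutatorElement_eq_one_iff_mul_comm.mpr (hB g hg h hh)]; exact one_mem _
  have hright : ∀ g : Γ, (∀ h ∈ S, ⁅g, h⁆ ∈ ⁅A, B⁆) → ∀ h ∈ Subgroup.closure S, ⁅g, h⁆ ∈ ⁅A, B⁆ := by
    intro g hg h hh
    induction hh using Subgroup.closure_induction with
    | mem h hh => exact hg h hh
    | one => rw [commutatorElement_one_right]; exact one_mem _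
    | mul p q hp hq hp' hq' =>
      rw [show ⁅g, p * q⁆ = ⁅g, p⁆ * (p * ⁅g, q⁆ * p⁻¹) by simp only [commutatorElement_def]; group,
        ← hc _ hq' p (hcl ▸ hp), mul_inv_cancel_right]
      exact mul_mem hp' hq'
    | inv p hp hp' =>
      rw [show ⁅g, p⁻¹⁆ = p⁻¹ * ⁅g, p⁆⁻¹ * p by simp only [commutatorElement_def]; group,
        mul_assoc, hc _ (inv_mem hp') p (hcl ▸ hp), inv_mul_cancel_left]
      exact inv_mem hp'
  rw [Subgroup.commutator_le, hcl]
  intro g hg h hh
  refine hright g (fun t ht => ?_) h hh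
  rw [← commutatorElement_inv]
  exact inv_mem (hright t (hgen t ht) g hg)

end Restrict

variable {k : Type*} [Field k] {M : Type*} [AddCommGroup M] [Module k M] [FiniteDimensional k M]

local notation "End'" => (M →ₗ[k] M)
local notation "GL'" => LinearMap.GeneralLinearGroup k M

variable {G : Subgroup (LinearMap.GeneralLinearGroup k M)} {a b c x y : M →ₗ[k] M} {Q : k[X]}

theorem conj_mem_roots {A : Subgroup GL'} (hA : A ∈ quadraticRootSubgroups G) {g : GL'} (hg : g ∈ G) :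
    conjBy A g ∈ quadraticRootSubgroups G := by
  obtain ⟨a, ha, rfl⟩ := exists_root hA
  rw [rootOf_conj ha hg]
  exact rootOf_mem _

theorem mem_le {A : Subgroup GL'} (hA : A ∈ quadraticRootSubgroups G) : A ≤ G := by
  obtain ⟨a, ha, rfl⟩ := exists_root hA
  exact rootOf_le ha

theorem sup_le_group : (⨆ A ∈ quadraticRootSubgroups G, A) ≤ G := iSup₂_le fun A hA => mem_le hA

theorem pair_not_nilp (h2 : (2 : k) ≠ 0) (h3 : Nat.card k ≠ 3) (ha : MinEl G a) (hb : MinEl G b)
    (h : IsRankOnePair (rootOf ha) (rootOf hb)) : ¬ IsNilpotent (a * b) := by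
  intro hn
  by_cases hab : a * b = b * a
  · exact RootSub.not_commutator_bot h
      ((root_comm_bot ha hb).mpr fun x y hx hy => commute_all h2 h3 ha hb hab hx hy)
  have P := commPair h2 ha hb hn hab
  obtain ⟨z1, z2, z3, z4⟩ := P.zero ha.sq hb.sq
  have he1 : xu a ha.sq ≠ 1 := fun e => ha.ne (by
    have := congrArg (fun u : GL' => (u : End') - 1) e
    simpa [xu_val] using this)
  obtain ⟨f, hf, -, he⟩ := h.cond_left _ (xu_mem_rootOf ha (Same.refl ha)) he1
  have hmem : f⁻¹ * xu a ha.sq * f ∈ conjBy (rootOf ha) f⁻¹ := by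
    rw [RootSub.mem_conjBy, inv_inv,
      show f * (f⁻¹ * xu a ha.sq * f) * f⁻¹ = xu a ha.sq by group]
    exact xu_mem_rootOf ha (Same.refl ha)
  rw [he, RootSub.mem_conjBy, inv_inv, mem_rootOf] at hmem
  obtain ⟨y, hy⟩ : ∃ y, y = (f : End') - 1 := ⟨_, rfl⟩
  have hys : Same G b y := hy ▸ (mem_rootOf hb).mp hf
  obtain ⟨w, hw⟩ : ∃ w : GL', w = xu a ha.sq * (f⁻¹ * xu a ha.sq * f) * (xu a ha.sq)⁻¹ := ⟨_, rfl⟩
  rw [← hw] at hmem
  -- the element whose displacement is both `a + X`-shaped and in the class of `b`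
  have hfinv : (↑f⁻¹ : End') = 1 - y := by
    have := inv_sub_one_of_sq (g := f) (by rw [← hy]; exact hys.mul_eq_zero hb hys)
    rw [← hy, sub_eq_iff_eq_add] at this
    rw [this]; abel
  have hfval : (f : End') = 1 + y := by rw [hy]; abel
  have haya : a * y * a = 0 := triple_zero h2 h3 ha hb hn (Same.refl ha) (Same.refl ha) hys
  have hyay : y * a * y = 0 := triple_zero h2 h3 hb ha (nilp_swap hn) hys hys (Same.refl ha)
  have hz : Same G (a * b - b * a) (a * y - y * a) := comm_spaces h2 h3 ha hb hn hab (Same.refl ha) hys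
  have hval : (w : End') - 1 = a + (a * y - y * a) := by
    rw [hw]
    simp only [Units.val_mul, xu_val, xu_inv, hfinv, hfval]
    rw [show (1 - y) * (1 + a) * (1 + y) = 1 - y * y + (a + (a * y - y * a) - y * a * y) by noncomm_ring,
      hys.mul_eq_zero hb hys, hyay, sub_zero, sub_zero]
    have e1 : (a * y - y * a) * a = 0 := by rw [sub_mul, haya, mul_assoc y a a, ha.sq, mul_zero, sub_zero]
    have e2 : a * (a * y - y * a) = 0 := by rw [mul_sub, ← mul_assoc, ha.sq, zero_mul, ← mul_assoc, haya, sub_zero]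
    generalize a * y - y * a = z at e1 e2 ⊢
    rw [show (1 + a) * (1 + (a + z)) * (1 - a) - 1 = a + z + a * z - z * a - a * z * a - a * a * a - a * a + a * a - a * a
      by noncomm_ring, e2, e1, ha.sq]
    simp
  rw [hval] at hmem
  obtain ⟨z, hz'⟩ : ∃ z, z = a * y - y * a := ⟨_, rfl⟩
  rw [← hz'] at hz hmem
  have k1 : z * b = 0 := mul_eq_zero_of_range ((range_le_of_mul_eq_zero z3).trans hz.le_ker)
  have k2 : b * z = 0 := mul_eq_zero_of_range (hz.range_le.trans (range_le_of_mul_eq_zero z4))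
  have m1 := hmem.mul_eq_zero hb (Same.refl hb)
  have m2 := (Same.refl hb).mul_eq_zero hb hmem
  rw [add_mul, k1, add_zero] at m1
  rw [mul_add, k2, add_zero] at m2
  exact hab (m1.trans m2.symm)

theorem pair_iff (h2 : (2 : k) ≠ 0) (h3 : Nat.card k ≠ 3) (ha : MinEl G a) (hb : MinEl G b) :
    IsRankOnePair (rootOf ha) (rootOf hb) ↔ ¬ IsNilpotent (a * b) :=
  ⟨pair_not_nilp h2 h3 ha hb, rank_one_pair h2 h3 ha hb⟩

theorem trichotomy (h2 : (2 : k) ≠ 0) (h3 : Nat.card k ≠ 3) (hs : Semi G) {A B : Subgroup GL'}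
    (hA : A ∈ quadraticRootSubgroups G) (hB : B ∈ quadraticRootSubgroups G) :
    ⁅A, B⁆ = ⊥ ∨ IsRankOnePair A B ∨ RootCommutatorCase (quadraticRootSubgroups G) A B := by
  obtain ⟨a, ha, rfl⟩ := exists_root hA
  obtain ⟨b, hb, rfl⟩ := exists_root hB
  by_cases hn : IsNilpotent (a * b)
  · by_cases hab : a * b = b * a
    · exact Or.inl ((root_comm_bot ha hb).mpr fun x y hx hy => commute_all h2 h3 ha hb hab hx hy)
    · obtain ⟨hX, heq, h4, h5, hcen, -, -, -⟩ := comm_case h2 h3 hs ha hb hn hab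
      exact Or.inr (Or.inr ⟨heq ▸ rootOf_mem hX, fun l hl => hcen l (heq ▸ hl), h4, h5⟩)
  · exact Or.inr (Or.inl (rank_one_pair h2 h3 ha hb hn))

theorem rootSet_roots (h2 : (2 : k) ≠ 0) (h3 : Nat.card k ≠ 3) (hs : Semi G) :
    IsRootSubgroupSet ((fun A : Subgroup GL' => A.subgroupOf (⨆ B ∈ quadraticRootSubgroups G, B)) ''
      quadraticRootSubgroups G) := by
  refine restrict_rootSet rfl ?_ ?_ (fun A hA g hg => conj_mem_roots hA (sup_le_group hg))
    (fun A hA B hB => trichotomy h2 h3 hs hA hB)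
  · intro A hA
    obtain ⟨a, ha, rfl⟩ := exists_root hA
    exact fun g hg h hh => rootOf_abelian ha hg hh
  · intro A hA
    obtain ⟨a, ha, rfl⟩ := exists_root hA
    exact rootOf_ne_bot ha

theorem exists_partner_root (h2 : (2 : k) ≠ 0) (h3 : Nat.card k ≠ 3) (hs : Semi G) {A : Subgroup GL'}
    (hA : A ∈ quadraticRootSubgroups G) : ∃ B ∈ quadraticRootSubgroups G, IsRankOnePair A B := by
  obtain ⟨a, ha, rfl⟩ := exists_root hA
  obtain ⟨g, hg, hn⟩ := exists_conj_not_nilp h2 h3 hs ha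
  exact ⟨_, rootOf_mem (ha.conj hg), rank_one_pair h2 h3 ha _ hn⟩

/-! ### The copy of `SL₂` inside a rank one pair -/

theorem three_lt_card (h2 : (2 : k) ≠ 0) (h3 : Nat.card k ≠ 3) : 3 < ENat.card k := by
  rcases finite_or_infinite k with hf | hi
  · rw [ENat.card_eq_coe_natCard]
    haveI := Fintype.ofFinite k
    classical
    have h : ({0, 1, -1} : Finset k).card ≤ Fintype.card k := Finset.card_le_univ _
    have e : ({0, 1, -1} : Finset k).card = 3 := by
      rw [Finset.card_insert_of_notMem, Finset.card_insert_of_notMem, Finset.card_singleton]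
      · rw [Finset.mem_singleton]
        intro e
        exact h2 (by linear_combination e)
      · rw [Finset.mem_insert, Finset.mem_singleton]
        rintro (e | e)
        · exact zero_ne_one e
        · exact one_ne_zero (by linear_combination e)
    rw [Nat.card_eq_fintype_card] at h3 ⊢
    exact_mod_cast (show 3 < Fintype.card k by omega)
  · rw [ENat.card_eq_top_of_infinite]
    exact ENat.coe_lt_top 3

theorem root_card (h2 : (2 : k) ≠ 0) (h3 : Nat.card k ≠ 3) (ha : MinEl G a) : 3 < ENat.card (rootOf ha) := by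
  refine lt_of_lt_of_le (three_lt_card h2 h3) (ENat.card_le_card_of_injective
    (f := fun s : k => (⟨xu (s • a) (smul_sq_zero s ha.sq), xu_mem_rootOf ha ((Same.refl ha).smul s)⟩ : rootOf ha))
    fun s t e => ?_)
  have := congrArg (fun u : rootOf ha => ((u : GL') : End') - 1) e
  simp only [xu_val, add_sub_cancel_left] at this
  exact smul_left_injective k ha.ne this

theorem OppData.upper_same (o : OppData G a b Q c) (h2 : (2 : k) ≠ 0) (h3 : Nat.card k ≠ 3) (ha : MinEl G a)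
    (hb : MinEl G b) (t : AdjoinRoot Q) : Same G a (rho o.rd t * a) := by
  have hle : (sl2Unit o.rd).range ≤ G := by
    rw [o.range_eq h2 h3 ha.sq hb.sq]
    exact (closure_families_le ha hb).trans (sup_le (rootOf_le ha) (rootOf_le hb))
  obtain ⟨f, rfl⟩ := AdjoinRoot.mk_surjective t
  refine same_of_le ha ⟨?_, fun s => ⟨sl2Unit o.rd (ru (s • AdjoinRoot.mk Q f)), hle ⟨_, rfl⟩, ?_⟩⟩ ?_ ?_
  · rw [mul_assoc, ← mul_assoc a, a_rho, zero_mul, mul_zero]
  · rw [sl2Unit_ru, rho_smul, smul_mul_assoc]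
  · rw [o.up, ← b_aeval (a := b) (b := a)]
    exact range_mul_le a _
  · exact ker_le_mul _ a

theorem OppData.lower_same (o : OppData G a b Q c) (h2 : (2 : k) ≠ 0) (h3 : Nat.card k ≠ 3) (ha : MinEl G a)
    (hb : MinEl G b) (t : AdjoinRoot Q) : Same G b (c * rho o.rd t) := by
  have hle : (sl2Unit o.rd).range ≤ G := by
    rw [o.range_eq h2 h3 ha.sq hb.sq]
    exact (closure_families_le ha hb).trans (sup_le (rootOf_le ha) (rootOf_le hb))
  haveI := Fact.mk o.irr
  obtain ⟨f, hf⟩ := AdjoinRoot.mk_surjective (t * (AdjoinRoot.root Q)⁻¹)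
  have ht : t = AdjoinRoot.mk Q (f * X) := by
    rw [map_mul, hf, AdjoinRoot.mk_X, inv_mul_cancel_right₀ o.root_ne]
  refine same_of_le hb ⟨?_, fun s => ⟨sl2Unit o.rd (rl (s • t)), hle ⟨_, rfl⟩, ?_⟩⟩ ?_ ?_
  · rw [mul_assoc, ← mul_assoc (rho o.rd t), rho_c, zero_mul, mul_zero]
  · rw [sl2Unit_rl, rho_smul, mul_smul_comm]
  · rw [ht, o.low]
    exact range_mul_le b _
  · rw [ht, o.low, b_aeval]
    exact ker_le_mul _ b

theorem psl2_pair {k : Type*} [Field k] {M : Type*} [AddCommGroup M] [Module k M] [FiniteDimensional k M]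
    {G : Subgroup (LinearMap.GeneralLinearGroup k M)} {a b c : M →ₗ[k] M} {Q : k[X]} (o : OppData G a b Q c)
    (h2 : (2 : k) ≠ 0) (h3 : Nat.card k ≠ 3) (ha : MinEl G a) (hb : MinEl G b) :
    haveI := Fact.mk o.irr
    ∃ A₀ B₀ : Subgroup (LinearMap.GeneralLinearGroup k M), A₀ ≤ rootOf ha ∧ B₀ ≤ rootOf hb ∧
      3 < ENat.card (AdjoinRoot Q) ∧ IsPSL2PairOver (AdjoinRoot Q) A₀ B₀ := by
  haveI := Fact.mk o.irr
  refine ⟨(upperUnipotentSL2 (AdjoinRoot Q)).map (sl2Unit o.rd), (lowerUnipotentSL2 (AdjoinRoot Q)).map (sl2Unit o.rd),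
    ?_, ?_, lt_of_lt_of_le (three_lt_card h2 h3)
      (ENat.card_le_card_of_injective (f := algebraMap k (AdjoinRoot Q)) (algebraMap k _).injective),
    sl2Unit o.rd, ?_, ?_, rfl, rfl⟩
  · rintro _ ⟨g, hg, rfl⟩
    obtain ⟨t, rfl⟩ := RootSub.mem_upper_iff.mp hg
    rw [mem_rootOf, show RootSub.upEl t = ru t from rfl, sl2Unit_ru, add_sub_cancel_left]
    exact o.upper_same h2 h3 ha hb t
  · rintro _ ⟨g, hg, rfl⟩
    obtain ⟨t, rfl⟩ := RootSub.mem_lower_iff.mp hg
    rw [mem_rootOf, show RootSub.loEl t = rl t from rfl, sl2Unit_rl, add_sub_cancel_left]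
    exact o.lower_same h2 h3 ha hb t
  · rw [MonoidHom.range_eq_map, ← Subgroup.map_sup, sup_comm, RootSub.lower_sup_upper]
  · rw [(MonoidHom.ker_eq_bot_iff _).mpr (sl2Unit_injective o.rd o.inj)]
    exact bot_le

theorem pair_contains_psl2 {k : Type u} [Field k] {M : Type u} [AddCommGroup M] [Module k M] [FiniteDimensional k M]
    {G : Subgroup (LinearMap.GeneralLinearGroup k M)} (h2 : (2 : k) ≠ 0) (h3 : Nat.card k ≠ 3)
    {A B : Subgroup (LinearMap.GeneralLinearGroup k M)} (hA : A ∈ quadraticRootSubgroups G)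
    (hB : B ∈ quadraticRootSubgroups G) (h : IsRankOnePair A B) :
    ∃ A₀ B₀ : Subgroup (LinearMap.GeneralLinearGroup k M), A₀ ≤ A ∧ B₀ ≤ B ∧
      ∃ (k₁ : Type u) (_ : Field k₁), 3 < ENat.card k₁ ∧ IsPSL2PairOver k₁ A₀ B₀ := by
  obtain ⟨a, ha, rfl⟩ := exists_root hA
  obtain ⟨b, hb, rfl⟩ := exists_root hB
  obtain ⟨Q, c, o⟩ := exists_opp h2 h3 ha hb (pair_not_nilp h2 h3 ha hb h)
  haveI := Fact.mk o.irr
  obtain ⟨A₀, B₀, h1, h1', h4, h5⟩ := psl2_pair o h2 h3 ha hb
  exact ⟨A₀, B₀, h1, h1', AdjoinRoot Q, inferInstance, h4, h5⟩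

end Cfsg.Lib.QuadPair
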