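import Cfsg.Agent.RootSub.QuadPair.Opposite
import Cfsg.Agent.RootSub.Special

/-!
# Opposite pairs form special rank one groups
-/

set_option autoImplicit false
set_option linter.unusedSectionVars false
set_option linter.unusedVariables false
set_option linter.unusedSimpArgs false
set_option linter.style.haveILetI false

open Polynomial
open Cfsg
open scoped commutatorElement

namespace Cfsg.Lib.QuadPair

variable {k : Type*} [Field k] {M : Type*} [AddCommGroup M] [Module k M]

local notation "End'" => (M →ₗ[k] M)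
local notation "GL'" => LinearMap.GeneralLinearGroup k M

variable {G : Subgroup (LinearMap.GeneralLinearGroup k M)} {a b c x y : M →ₗ[k] M}

/-- Two square-zero elements which are inverse to each other. -/
structure Inv2 (a c : M →ₗ[k] M) : Prop where
  aa : a * a = 0
  cc : c * c = 0
  aca : a * c * a = a
  cac : c * a * c = c

theorem Inv2.symm (h : Inv2 a c) : Inv2 c a := ⟨h.cc, h.aa, h.cac, h.aca⟩

theorem Inv2.proj (h : Inv2 a c) : (a * c + c * a) * (a * c + c * a) = a * c + c * a := by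
  have e1 : a * c * (a * c) = a * c := by rw [← mul_assoc, h.aca]
  have e2 : c * a * (c * a) = c * a := by rw [← mul_assoc, h.cac]
  have e3 : a * c * (c * a) = 0 := by rw [mul_assoc, ← mul_assoc c c, h.cc, zero_mul, mul_zero]
  have e4 : c * a * (a * c) = 0 := by rw [mul_assoc, ← mul_assoc a a, h.aa, zero_mul, mul_zero]
  rw [add_mul, mul_add, mul_add, e1, e2, e3, e4, add_zero, zero_add]

theorem Inv2.proj_left (h : Inv2 a c) : (a * c + c * a) * a = a ∧ a * (a * c + c * a) = a := by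
  constructor
  · rw [add_mul, h.aca, mul_assoc c a a, h.aa, mul_zero, add_zero]
  · rw [mul_add, ← mul_assoc, h.aa, zero_mul, zero_add, ← mul_assoc, h.aca]

theorem Inv2.proj_same (h : Inv2 a c) (hk : LinearMap.ker a ≤ LinearMap.ker x)
    (hr : LinearMap.range x ≤ LinearMap.range a) : (a * c + c * a) * x = x ∧ x * (a * c + c * a) = x := by
  constructor
  · refine LinearMap.ext fun v => ?_
    obtain ⟨w, hw⟩ := hr ⟨v, rfl⟩
    rw [Module.End.mul_apply, ← hw, ← Module.End.mul_apply, h.proj_left.1]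
  · refine LinearMap.ext fun v => ?_
    rw [Module.End.mul_apply, ← sub_eq_zero, ← map_sub]
    refine LinearMap.mem_ker.mp (hk ?_)
    rw [LinearMap.mem_ker, map_sub, ← Module.End.mul_apply, h.proj_left.2, sub_self]

theorem Inv2.conj_eq (h : Inv2 a c) :
    (1 - c) * a * (1 + c) = a + a * c - c * a - c ∧ (1 - a) * c * (1 + a) = -(a + a * c - c * a - c) := by
  constructor
  · rw [show (1 - c) * a * (1 + c) = a + a * c - c * a - c * a * c by noncomm_ring, h.cac]
  · rw [show (1 - a) * c * (1 + a) = c + c * a - a * c - a * c * a by noncomm_ring, h.aca]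
    abel

/-- The involution of the pair. -/
theorem Inv2.sq (h : Inv2 a c) :
    ((1 + a) * (1 - c) * (1 + a)) * ((1 + a) * (1 - c) * (1 + a)) = 1 - (2 : k) • (a * c + c * a) := by
  have hw : (1 + a) * (1 - c) * (1 + a) = 1 - (a * c + c * a) + (a - c) := by
    rw [show (1 + a) * (1 - c) * (1 + a) = 1 + a - c - a * c + a + a * a - c * a - a * c * a by noncomm_ring,
      h.aa, h.aca]
    abel
  have hP := h.proj
  have e1 : (a * c + c * a) * (a - c) = a - c := by
    rw [mul_sub, h.proj_left.1, show (a * c + c * a) * c = c by rw [add_comm]; exact h.symm.proj_left.1]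
  have e2 : (a - c) * (a * c + c * a) = a - c := by
    rw [sub_mul, h.proj_left.2, show c * (a * c + c * a) = c by rw [add_comm]; exact h.symm.proj_left.2]
  have e3 : (a - c) * (a - c) = -(a * c + c * a) := by
    rw [show (a - c) * (a - c) = a * a - (a * c + c * a) + c * c by noncomm_ring, h.aa, h.cc]
    simp
  rw [hw, two_smul]
  generalize hp : a * c + c * a = P at hP e1 e2 e3 ⊢
  generalize a - c = N at e1 e2 e3 ⊢
  rw [show (1 - P + N) * (1 - P + N) = 1 - P - P + P * P + N + N - P * N - N * P + N * N by noncomm_ring,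
    hP, e1, e2, e3]
  abel

variable [FiniteDimensional k M]

theorem opposite (h2 : (2 : k) ≠ 0) (h3 : Nat.card k ≠ 3) (ha : MinEl G a) (hb : MinEl G b)
    (hn : ¬ IsNilpotent (a * b)) : ∃ c, Same G b c ∧ c ≠ 0 ∧ Inv2 a c := by
  obtain ⟨Q, c, o⟩ := exists_opp h2 h3 ha hb hn
  have hI : Inv2 a c := ⟨ha.sq, o.rd.hc, o.rd.aca, o.rd.cac⟩
  have hc0 : c ≠ 0 := fun h => ha.ne (by rw [← hI.aca, h, mul_zero, zero_mul])
  have hFc : Fam G c := by
    refine ⟨hI.cc, fun s => ⟨sl2Unit o.rd (rl (algebraMap k (AdjoinRoot Q) s)), ?_, ?_⟩⟩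
    · have hle : (sl2Unit o.rd).range ≤ G := by
        rw [o.range_eq h2 h3 ha.sq hb.sq]
        exact (closure_families_le ha hb).trans (sup_le (rootOf_le ha) (rootOf_le hb))
      exact hle ⟨_, rfl⟩
    · rw [sl2Unit_rl, Algebra.algebraMap_eq_smul_one, rho_smul, rho_one, mul_smul_comm, ← mul_assoc, hI.cac]
  obtain ⟨f, hf⟩ : ∃ f : k[X], AdjoinRoot.mk Q (f * X) = 1 := by
    haveI := Fact.mk o.irr
    obtain ⟨f, hf⟩ := AdjoinRoot.mk_surjective (AdjoinRoot.root Q)⁻¹
    exact ⟨f, by rw [map_mul, hf, AdjoinRoot.mk_X, inv_mul_cancel₀ o.root_ne]⟩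
  have hcb : c = b * aeval (a * b) f := by rw [← o.low f, hf, rho_one, ← mul_assoc, hI.cac]
  have hr : LinearMap.range c ≤ LinearMap.range b := hcb ▸ range_mul_le b _
  have hk : LinearMap.ker b ≤ LinearMap.ker c := by
    rw [hcb, b_aeval]
    exact ker_le_mul _ b
  have hre := Submodule.eq_of_le_of_finrank_le hr (hb.min c hFc hc0)
  refine ⟨c, Or.inr ⟨⟨hFc, hc0, fun z hz hz0 => ?_⟩, (Submodule.eq_of_le_of_finrank_le hk ?_).symm, hre⟩, hc0, hI⟩
  · rw [rk, hre]; exact hb.min z hz hz0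
  · have e1 := LinearMap.finrank_range_add_finrank_ker c
    have e2 := LinearMap.finrank_range_add_finrank_ker b
    rw [hre] at e1
    omega

theorem nilp_congr_iff (h2 : (2 : k) ≠ 0) (h3 : Nat.card k ≠ 3) (ha : MinEl G a) (hb : MinEl G b)
    (hx : Same G a x) (hx0 : x ≠ 0) (hy : Same G b y) (hy0 : y ≠ 0) :
    IsNilpotent (x * y) ↔ IsNilpotent (a * b) := by
  obtain ⟨mx, kx, rx⟩ := hx.data hx0
  obtain ⟨my, ky, ry⟩ := hy.data hy0
  exact ⟨fun h => nilp_congr h2 h3 mx my h ((Same.refl ha).trans kx.symm rx.symm)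
    ((Same.refl hb).trans ky.symm ry.symm), fun h => nilp_congr h2 h3 ha hb h hx hy⟩

theorem rank_one_condition (h2 : (2 : k) ≠ 0) (h3 : Nat.card k ≠ 3) (ha : MinEl G a) (hb : MinEl G b)
    (hn : ¬ IsNilpotent (a * b)) : RankOneCondition (rootOf ha) (rootOf hb) := by
  intro e he he1
  have hx := (mem_rootOf ha).mp he
  have hx0 : (e : End') - 1 ≠ 0 := fun h0 => he1 (Units.ext (sub_eq_zero.mp h0))
  obtain ⟨mx, kx, rx⟩ := hx.data hx0
  have hn' : ¬ IsNilpotent (((e : End') - 1) * b) := fun h =>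
    hn ((nilp_congr_iff h2 h3 ha hb hx hx0 (Same.refl hb) hb.ne).mp h)
  obtain ⟨y, hy, hy0, hI⟩ := opposite h2 h3 mx hb hn'
  obtain ⟨my, ky, ry⟩ := hy.data hy0
  have hxe : xu ((e : End') - 1) mx.sq = e := Units.ext (by rw [xu_val, add_sub_cancel])
  have hv : xu y my.sq ∈ rootOf hb := xu_mem_rootOf hb hy
  refine ⟨xu y my.sq, hv, fun h1 => hy0 ?_, ?_⟩
  · have := congrArg (fun u : GL' => (u : End') - 1) h1
    simpa [xu_val] using this
  · rw [← rootOf_congr mx ha kx rx, ← rootOf_congr my hb ky ry, rootOf_conj mx (inv_mem (my.toFam.xu_mem_one)),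
      rootOf_conj my (inv_mem (rootOf_le ha he))]
    have e1 : (↑(xu y my.sq)⁻¹ : End') * ((e : End') - 1) * (↑((xu y my.sq)⁻¹)⁻¹ : End') =
        -((↑e⁻¹ : End') * y * (↑(e⁻¹)⁻¹ : End')) := by
      rw [inv_inv, inv_inv, xu_inv, xu_val, hI.conj_eq.1]
      conv_rhs => rw [← hxe, xu_inv, xu_val, hI.conj_eq.2, neg_neg]
    refine rootOf_congr _ _ ?_ ?_
    · rw [e1, LinearMap.ker_neg]
    · rw [e1, LinearMap.range_neg]

theorem rootOf_nilpotent (ha : MinEl G a) : Group.IsNilpotent (rootOf ha) := by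
  letI : CommGroup (rootOf ha) :=
    { (inferInstance : Group (rootOf ha)) with mul_comm := fun g h => Subtype.ext (rootOf_abelian ha g.2 h.2) }
  exact CommGroup.isNilpotent

theorem rank_one_pair (h2 : (2 : k) ≠ 0) (h3 : Nat.card k ≠ 3) (ha : MinEl G a) (hb : MinEl G b)
    (hn : ¬ IsNilpotent (a * b)) : IsRankOnePair (rootOf ha) (rootOf hb) := by
  refine ⟨fun he => hn ?_, rootOf_nilpotent ha, rootOf_nilpotent hb, rank_one_condition h2 h3 ha hb hn,
    rank_one_condition h2 h3 hb ha fun h => hn (nilp_swap h)⟩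
  have := (mem_rootOf hb).mp (he ▸ xu_mem_rootOf ha (Same.refl ha))
  rw [xu_sub_one] at this
  rw [this.mul_eq_zero hb (Same.refl hb)]
  exact IsNilpotent.zero

theorem special_pair (h2 : (2 : k) ≠ 0) (h3 : Nat.card k ≠ 3) (ha : MinEl G a) (hb : MinEl G b)
    (hn : ¬ IsNilpotent (a * b)) : IsSpecialRankOnePair (rootOf ha) (rootOf hb) := by
  have hP := rank_one_pair h2 h3 ha hb hn
  refine ⟨hP, fun e he he1 f hf hf1 hcond => ?_⟩
  have hx := (mem_rootOf ha).mp he
  have hx0 : (e : End') - 1 ≠ 0 := fun h0 => he1 (Units.ext (sub_eq_zero.mp h0))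
  obtain ⟨mx, kx, rx⟩ := hx.data hx0
  have hn' : ¬ IsNilpotent (((e : End') - 1) * b) := fun h =>
    hn ((nilp_congr_iff h2 h3 ha hb hx hx0 (Same.refl hb) hb.ne).mp h)
  obtain ⟨y, hy, hy0, hI⟩ := opposite h2 h3 mx hb hn'
  obtain ⟨my, ky, ry⟩ := hy.data hy0
  have hxe : xu ((e : End') - 1) mx.sq = e := Units.ext (by rw [xu_val, add_sub_cancel])
  have hcond' : conjBy (rootOf ha) (xu y my.sq)⁻¹ = conjBy (rootOf hb) e⁻¹ := by
    rw [← rootOf_congr mx ha kx rx, ← rootOf_congr my hb ky ry, rootOf_conj mx (inv_mem (my.toFam.xu_mem_one)),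
      rootOf_conj my (inv_mem (rootOf_le ha he))]
    have e1 : (↑(xu y my.sq)⁻¹ : End') * ((e : End') - 1) * (↑((xu y my.sq)⁻¹)⁻¹ : End') =
        -((↑e⁻¹ : End') * y * (↑(e⁻¹)⁻¹ : End')) := by
      rw [inv_inv, inv_inv, xu_inv, xu_val, hI.conj_eq.1]
      conv_rhs => rw [← hxe, xu_inv, xu_val, hI.conj_eq.2, neg_neg]
    exact rootOf_congr _ _ (by rw [e1, LinearMap.ker_neg]) (by rw [e1, LinearMap.range_neg])
  have hfy : f = xu y my.sq := RootSub.b_unique hP hf (xu_mem_rootOf hb hy) (hcond.trans hcond'.symm)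
  subst hfy
  rw [← hxe]
  generalize (e : End') - 1 = x at mx hI
  ext1
  simp only [Units.val_mul, xu_val, xu_inv]
  rw [show (1 - y) * (1 + x) * (1 + y) = (1 - y) * (1 + y) + (1 - y) * x * (1 + y) by noncomm_ring, hI.conj_eq.1,
    show (1 - x) * (1 - y) * (1 + x) = (1 - x) * (1 + x) - (1 - x) * y * (1 + x) by noncomm_ring, hI.conj_eq.2,
    show (1 - y) * (1 + y) = 1 - y * y by noncomm_ring, show (1 - x) * (1 + x) = 1 - x * x by noncomm_ring,
    hI.cc, hI.aa]
  abel

/-- The fixed space, the commutator space and the involution of an opposite pair. -/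
theorem pair_involution (h2 : (2 : k) ≠ 0) (h3 : Nat.card k ≠ 3) (ha : MinEl G a) (hb : MinEl G b)
    (hn : ¬ IsNilpotent (a * b)) :
    (∃! i : GL', i ∈ rootOf ha ⊔ rootOf hb ∧ i ≠ 1 ∧ i * i = 1 ∧
      (∀ x ∈ rootOf ha ⊔ rootOf hb, i * x = x * i) ∧
      (∀ m ∈ commutatorSubmodule (rootOf ha ⊔ rootOf hb), (i : End') m = -m) ∧
      (∀ m ∈ fixedSubmodule (rootOf ha ⊔ rootOf hb), (i : End') m = m)) ∧
    IsCompl (fixedSubmodule (rootOf ha ⊔ rootOf hb)) (commutatorSubmodule (rootOf ha ⊔ rootOf hb)) := by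
  obtain ⟨c, hc, hc0, hI⟩ := opposite h2 h3 ha hb hn
  obtain ⟨mc, kc, rc⟩ := hc.data hc0
  obtain ⟨P, hP⟩ : ∃ P, P = a * c + c * a := ⟨_, rfl⟩
  obtain ⟨H, hH⟩ : ∃ H, H = rootOf ha ⊔ rootOf hb := ⟨_, rfl⟩
  rw [← hH]
  have hPP : P * P = P := by rw [hP]; exact hI.proj
  have hgens : ∀ g ∈ H, P * ((g : End') - 1) = (g : End') - 1 ∧ ((g : End') - 1) * P = (g : End') - 1 := by
    let K : Subgroup GL' :=
      { carrier := {g | P * ((g : End') - 1) = (g : End') - 1 ∧ ((g : End') - 1) * P = (g : End') - 1}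
        one_mem' := by simp
        mul_mem' := by
          intro g h hg hh
          show P * (((g * h : GL') : End') - 1) = _ ∧ (((g * h : GL') : End') - 1) * P = _
          rw [Units.val_mul, show (g : End') * h - 1 = ((g : End') - 1) * ((h : End') - 1) + ((g : End') - 1) +
            ((h : End') - 1) by noncomm_ring, mul_add, mul_add, add_mul, add_mul, ← mul_assoc, hg.1,
            mul_assoc ((g : End') - 1), hh.2, hh.1, hg.2]
          exact ⟨rfl, rfl⟩
        inv_mem' := by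
          intro g hg
          show P * ((↑g⁻¹ : End') - 1) = _ ∧ ((↑g⁻¹ : End') - 1) * P = _
          constructor
          · rw [show (↑g⁻¹ : End') - 1 = -(((g : End') - 1) * ↑g⁻¹) by rw [sub_mul, Units.mul_inv, one_mul, neg_sub],
              mul_neg, ← mul_assoc, hg.1]
          · rw [show (↑g⁻¹ : End') - 1 = -(↑g⁻¹ * ((g : End') - 1)) by rw [mul_sub, Units.inv_mul, mul_one, neg_sub],
              neg_mul, mul_assoc, hg.2] }
    have hle : H ≤ K := by
      rw [hH]
      refine sup_le (fun g hg => ?_) (fun g hg => ?_)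
      · have hs := (mem_rootOf ha).mp hg
        show _ ∧ _
        rw [hP]
        exact hI.proj_same hs.le_ker hs.range_le
      · have hs := (mem_rootOf hb).mp hg
        show _ ∧ _
        rw [hP, add_comm]
        exact hI.symm.proj_same (kc.le.trans hs.le_ker) (hs.range_le.trans rc.ge)
    exact fun g hg => hle hg
  have hmemA : xu a ha.sq ∈ H := hH ▸ Subgroup.mem_sup_left (xu_mem_rootOf ha (Same.refl ha))
  have hmemC : xu c mc.sq ∈ H := hH ▸ Subgroup.mem_sup_right (xu_mem_rootOf hb hc)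
  have hfix : fixedSubmodule H = LinearMap.ker P := by
    refine le_antisymm (fun v hv => ?_) ?_
    · rw [fixedSubmodule, Submodule.mem_iInf] at hv
      have h1 := Submodule.mem_iInf _ |>.mp (hv (xu a ha.sq)) hmemA
      have h2' := Submodule.mem_iInf _ |>.mp (hv (xu c mc.sq)) hmemC
      rw [LinearMap.mem_ker, xu_sub_one] at h1 h2'
      rw [LinearMap.mem_ker, hP, LinearMap.add_apply, Module.End.mul_apply, Module.End.mul_apply, h1, h2', map_zero,
        map_zero, add_zero]
    · refine le_iInf₂ fun g hg => fun v hv => ?_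
      rw [LinearMap.mem_ker] at hv ⊢
      rw [← (hgens g hg).2, Module.End.mul_apply, hv, map_zero]
  have hcomm : commutatorSubmodule H = LinearMap.range P := by
    refine le_antisymm (iSup₂_le fun g hg => ?_) ?_
    · rw [← (hgens g hg).1]; exact range_mul_le _ _
    · rintro _ ⟨v, rfl⟩
      rw [hP, LinearMap.add_apply, Module.End.mul_apply, Module.End.mul_apply, commutatorSubmodule]
      refine add_mem ?_ ?_
      · refine Submodule.mem_iSup_of_mem (xu a ha.sq) (Submodule.mem_iSup_of_mem hmemA ?_)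
        rw [xu_sub_one]; exact ⟨_, rfl⟩
      · refine Submodule.mem_iSup_of_mem (xu c mc.sq) (Submodule.mem_iSup_of_mem hmemC ?_)
        rw [xu_sub_one]; exact ⟨_, rfl⟩
  have hcompl : IsCompl (LinearMap.ker P) (LinearMap.range P) := by
    refine ⟨disjoint_iff.mpr (eq_bot_iff.mpr ?_), codisjoint_iff.mpr (eq_top_iff.mpr ?_)⟩
    · rintro v ⟨hv, w, rfl⟩
      rw [SetLike.mem_coe, LinearMap.mem_ker, ← Module.End.mul_apply, hPP] at hv
      rw [hv]; exact zero_mem _
    · intro v _
      refine Submodule.mem_sup.mpr ⟨v - P v, ?_, P v, ⟨v, rfl⟩, sub_add_cancel _ _⟩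
      rw [LinearMap.mem_ker, map_sub, ← Module.End.mul_apply, hPP, sub_self]
  rw [hfix, hcomm]
  refine ⟨?_, hcompl⟩
  obtain ⟨w, hw⟩ : ∃ w : GL', w = xu a ha.sq * (xu c mc.sq)⁻¹ * xu a ha.sq := ⟨_, rfl⟩
  obtain ⟨i, hi⟩ : ∃ i : GL', i = w * w := ⟨_, rfl⟩
  have hwH : i ∈ H := by
    have : w ∈ H := hw ▸ mul_mem (mul_mem hmemA (inv_mem hmemC)) hmemA
    exact hi ▸ mul_mem this this
  have hiv : (i : End') = 1 - (2 : k) • P := by
    rw [hi, Units.val_mul, hw, Units.val_mul, Units.val_mul, xu_val, xu_inv, hI.sq, hP]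
  refine ⟨i, ⟨hwH, ?_, ?_, ?_, ?_, ?_⟩, ?_⟩
  · intro h1
    have h := congrArg (fun u : GL' => ((u : End') - 1) * a) h1
    simp only [hiv, Units.val_one, sub_self, zero_mul] at h
    rw [sub_sub_cancel_left, neg_mul, neg_eq_zero, smul_mul_assoc, hP, hI.proj_left.1, smul_eq_zero] at h
    exact h.elim h2 ha.ne
  · ext1
    rw [Units.val_mul, hiv, Units.val_one, sub_mul, one_mul, mul_sub, mul_one, smul_mul_assoc, mul_smul_comm, hPP,
      two_smul, two_smul]
    abel
  · intro g hg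
    rw [unit_commute_iff, hiv, sub_sub_cancel_left, neg_mul, mul_neg, smul_mul_assoc, mul_smul_comm, (hgens g hg).1,
      (hgens g hg).2]
  · rintro _ ⟨v, rfl⟩
    rw [hiv, LinearMap.sub_apply, LinearMap.smul_apply, Module.End.one_apply, ← Module.End.mul_apply, hPP, two_smul]
    abel
  · intro m hm
    rw [LinearMap.mem_ker] at hm
    rw [hiv, LinearMap.sub_apply, LinearMap.smul_apply, hm, smul_zero, sub_zero]
    rfl
  · rintro j ⟨-, -, -, -, hj1, hj2⟩
    ext1
    refine LinearMap.ext fun v => ?_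
    have hv : v ∈ LinearMap.ker P ⊔ LinearMap.range P := by rw [hcompl.sup_eq_top]; exact Submodule.mem_top
    obtain ⟨p, hp, q, hq, rfl⟩ := Submodule.mem_sup.mp hv
    rw [map_add, map_add, hj2 p hp, hj1 q hq]
    obtain ⟨u, rfl⟩ := hq
    rw [hiv, LinearMap.sub_apply, LinearMap.sub_apply, LinearMap.smul_apply, LinearMap.smul_apply,
      LinearMap.mem_ker.mp hp, smul_zero, sub_zero, Module.End.one_apply, Module.End.one_apply,
      ← Module.End.mul_apply, hPP, two_smul]
    abel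

end Cfsg.Lib.QuadPair
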