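import Cfsg.Agent.RootSub.QuadPair.RootSet

/-!
# An arbitrary quadratic element against the elements of smallest rank
-/

set_option autoImplicit false
set_option linter.unusedSectionVars false
set_option linter.unusedVariables false
set_option linter.unusedSimpArgs false
set_option linter.style.haveILetI false

open Polynomial
open Cfsg
open scoped commutatorElement

namespace Cfsg.Lib.QuadPair

variable {k : Type*} [Field k] {M : Type*} [AddCommGroup M] [Module k M] [FiniteDimensional k M]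

local notation "End'" => (M →ₗ[k] M)
local notation "GL'" => LinearMap.GeneralLinearGroup k M

variable {G : Subgroup (LinearMap.GeneralLinearGroup k M)} {a c u : M →ₗ[k] M}

/-- If the product of `a` and `u` is nilpotent, `u` is annihilated between two copies of `a`. -/
theorem sandwich (h2 : (2 : k) ≠ 0) (ha : MinEl G a) (hu : Fam G u) (hn : IsNilpotent (a * u)) :
    a * u * a = 0 := by
  classical
  have hex : ∃ m, (a * u) ^ (m + 1) * a = 0 := by
    obtain ⟨N, hN⟩ := hn
    exact ⟨N, by rw [pow_succ, hN, zero_mul, zero_mul]⟩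
  have h1 := Nat.find_spec hex
  rcases Nat.eq_zero_or_pos (Nat.find hex) with h | h
  · rwa [h, zero_add, pow_one] at h1
  exfalso
  obtain ⟨m, hm⟩ : ∃ m, m = Nat.find hex := ⟨_, rfl⟩
  rw [← hm] at h1 h
  have h0 : (a * u) ^ m * a ≠ 0 := by
    have := Nat.find_min hex (show m - 1 < Nat.find hex by omega)
    rwa [Nat.sub_add_cancel h] at this
  have e6 : ∀ n, (u * a) ^ n * u = u * (a * u) ^ n := by
    intro n
    induction n with
    | zero => simp
    | succ n ih => rw [pow_succ', pow_succ', mul_assoc (u * a), ih]; simp only [mul_assoc]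
  by_cases hW : (u * a) ^ (m + 1) * u = 0
  · exact word_top_contra h2 ha hu h h0 h1 hW
  have hF : Fam G ((u * a) ^ (m + 1) * u) := by
    refine word_top_fam h2 hu ha.toFam (by omega) ?_ ?_
    · rw [e6, pow_succ' (a * u) (m + 1), show u * (a * u * (a * u) ^ (m + 1)) = u * (a * u * (a * u) ^ (m + 1)) from rfl,
        ← (Commute.pow_self (a * u) (m + 1)).eq, ← mul_assoc ((a * u) ^ (m + 1)) a u, h1, zero_mul, mul_zero]
    · rw [pow_succ' (a * u) (m + 1), mul_assoc, h1, mul_zero]
  obtain ⟨v, hv⟩ : ∃ v, ((a * u) ^ m * a) v ≠ 0 := by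
    by_contra hcon
    push Not at hcon
    exact h0 (LinearMap.ext hcon)
  have e5 : ∀ n, (a * u) ^ n * a = a * (u * a) ^ n := by
    intro n
    induction n with
    | zero => simp
    | succ n ih => rw [pow_succ', pow_succ', mul_assoc (a * u), ih]; simp only [mul_assoc]
  have hlt : rk ((u * a) ^ m * u * a) < rk a := by
    refine rk_mul_lt (v := ((a * u) ^ m * a) v) ?_ hv ?_
    · rw [e5]; exact ⟨_, rfl⟩
    · rw [← Module.End.mul_apply, e6, mul_assoc, ← mul_assoc ((a * u) ^ m), ← pow_add,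
        show m + m = (m - 1) + (m + 1) by omega, pow_add, mul_assoc, h1, mul_zero, mul_zero]
      rfl
  have hle : rk ((u * a) ^ (m + 1) * u) ≤ rk ((u * a) ^ m * u * a) := by
    rw [show (u * a) ^ (m + 1) * u = ((u * a) ^ m * u * a) * u by rw [pow_succ]; simp only [mul_assoc]]
    exact Submodule.finrank_mono (range_mul_le _ _)
  exact absurd (ha.min _ hF hW) (by omega)

/-- Splitting off an element of smallest rank. -/
theorem split_step (h2 : (2 : k) ≠ 0) (h3 : Nat.card k ≠ 3) (ha : MinEl G a) (hu : Fam G u)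
    (hn : ¬ IsNilpotent (a * u)) :
    ∃ w, MinEl G w ∧ Fam G (u - w) ∧ w * (u - w) = 0 ∧ (u - w) * w = 0 ∧ rk (u - w) < rk u ∧
      ¬ IsNilpotent (a * w) := by
  obtain ⟨Q, ε, c, hQm, hirr, hQ0, hkill0, hεa, hεX, hεQ, D, hup, hlow, hG⟩ := pair_core h2 h3 ha hu hn
  obtain ⟨T, hT⟩ : ∃ T, T = a * u := ⟨_, rfl⟩
  rw [← hT] at hkill0 hεa
  obtain ⟨w, hw⟩ : ∃ w, w = u * aeval T ε := ⟨_, rfl⟩
  have hw1 : w * a = u * a := by rw [hw, mul_assoc, hεa]
  have hsq : w * w = 0 ∧ w * (u - w) = 0 ∧ (u - w) * w = 0 := by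
    have key : ∀ f : k[X], u * aeval T f * u = 0 := fun f => by rw [hT]; exact (aeval_mid ha.sq hu.sq f).2
    have e1 : w * u = 0 := hw ▸ key ε
    have e2 : w * w = 0 := by nth_rewrite 2 [hw]; rw [← mul_assoc, e1, zero_mul]
    have e3 : u * w = 0 := by rw [hw, ← mul_assoc, hu.sq, zero_mul]
    exact ⟨e2, by rw [mul_sub, e1, e2, sub_zero], by rw [sub_mul, e3, e2, sub_zero]⟩
  have hFw : Fam G w := by
    refine ⟨hsq.1, fun t => ⟨sl2Unit D (rl (algebraMap k (AdjoinRoot Q) t * AdjoinRoot.root Q)), hG _, ?_⟩⟩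
    rw [sl2Unit_rl, AdjoinRoot.algebraMap_eq, ← AdjoinRoot.mk_C, ← AdjoinRoot.mk_X, ← map_mul, hlow, map_mul, aeval_C,
      ← Algebra.smul_def, mul_smul_comm, hw, hT]
  have hr1 : LinearMap.range w ≤ (LinearMap.range a).map u := by
    obtain ⟨g, hg⟩ := hεX
    rintro _ ⟨v, rfl⟩
    refine ⟨a (u (aeval T g v)), ⟨_, rfl⟩, ?_⟩
    rw [hw, hg, map_mul, aeval_X, hT]
    rfl
  have hdis : Disjoint (LinearMap.range a) (LinearMap.ker u) := core_disj hQ0 (hT ▸ hkill0)
  have hfr : Module.finrank k ((LinearMap.range a).map u) = rk a := by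
    have := finrank_map_add u (LinearMap.range a)
    rwa [hdis.eq_bot, finrank_bot, add_zero] at this
  have hw0 : w ≠ 0 := fun h => hn ⟨2, by
    rw [h, zero_mul] at hw1
    rw [pow_two, ← mul_assoc, mul_assoc a u a, ← hw1, mul_zero, zero_mul]⟩
  have hwr : rk w = rk a := le_antisymm ((Submodule.finrank_mono hr1).trans hfr.le) (ha.min w hFw hw0)
  have hmw : MinEl G w := ha.of_rk_le hFw hw0 hwr.le
  have hrange : LinearMap.range w = (LinearMap.range a).map u :=
    Submodule.eq_of_le_of_finrank_le hr1 (hfr.le.trans hwr.ge)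
  have hFd : Fam G (u - w) := by
    have h := hu.add (hFw.smul (-1)) (by rw [mul_smul_comm, hw, ← mul_assoc, hu.sq, zero_mul, smul_zero])
      (by rw [smul_mul_assoc, hw, hT, (aeval_mid ha.sq hu.sq _).2, smul_zero])
    rwa [neg_one_smul, ← sub_eq_add_neg] at h
  have haw : a * (u - w) = 0 := by
    rw [hw, show u - u * aeval T ε = u * aeval T (1 - ε) by rw [map_sub, map_one, mul_sub, mul_one], ← mul_assoc,
      ← hT]
    nth_rewrite 1 [← aeval_X (R := k) T]
    rw [← map_mul]
    obtain ⟨g, hg⟩ := hεQ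
    rw [hg, show X * (Q * g) = Q * g * X by ring, map_mul, aeval_X]
    nth_rewrite 2 [hT]
    rw [← mul_assoc, (hkill0 _).mpr (dvd_mul_right _ _), zero_mul]
  have hnw : ¬ IsNilpotent (a * w) := fun h => hn (by
    rw [mul_sub, sub_eq_zero] at haw
    rw [haw]
    exact h)
  refine ⟨w, hmw, hFd, hsq.2.1, hsq.2.2, ?_, hnw⟩
  have hdj : LinearMap.range (u - w) ⊓ LinearMap.range w = ⊥ := by
    rw [eq_bot_iff]
    rintro v ⟨⟨p, rfl⟩, hv⟩
    rw [SetLike.mem_coe, hrange] at hv
    obtain ⟨r, hr, hrv⟩ := hv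
    have h0 : a ((u - w) p) = 0 := by rw [← Module.End.mul_apply, haw]; rfl
    rw [← hrv, ← Module.End.mul_apply, ← hT] at h0
    rw [← hrv, core_inj hQ0 (hT ▸ hkill0) hr (hT ▸ h0), map_zero]
    exact zero_mem _
  have hsup : LinearMap.range (u - w) ⊔ LinearMap.range w ≤ LinearMap.range u := by
    have hwu : LinearMap.range w ≤ LinearMap.range u := hw ▸ range_mul_le _ _
    refine sup_le ?_ hwu
    rintro _ ⟨p, rfl⟩
    exact sub_mem ⟨p, rfl⟩ (hwu ⟨p, rfl⟩)
  have c1 := Submodule.finrank_sup_add_finrank_inf_eq (LinearMap.range (u - w)) (LinearMap.range w)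
  rw [hdj, finrank_bot] at c1
  have c2 := Submodule.finrank_mono hsup
  have c3 : 0 < rk w := Nat.pos_of_ne_zero fun h => hw0 (LinearMap.range_eq_bot.mp (Submodule.finrank_eq_zero.mp h))
  unfold rk at c3 ⊢
  omega

end Cfsg.Lib.QuadPair
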