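import Cfsg.Agent.RootSub.QuadPair.Minimal

/-!
# The two kinds of pairs of quadratic elements of smallest rank
-/

set_option autoImplicit false
set_option linter.unusedSectionVars false
set_option linter.unusedVariables false
set_option linter.unusedSimpArgs false
set_option linter.style.haveILetI false

open Polynomial
open scoped commutatorElement

namespace Cfsg.Lib.QuadPair

variable {k : Type*} [Field k] {M : Type*} [AddCommGroup M] [Module k M]
  {G : Subgroup (LinearMap.GeneralLinearGroup k M)} {a b : M →ₗ[k] M}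

local notation "End'" => (M →ₗ[k] M)
local notation "GL'" => LinearMap.GeneralLinearGroup k M

theorem comm_exact (ha : a * a = 0) (hb : b * b = 0) (h1 : a * b * a = 0) (h2 : b * a * b = 0) :
    ((⁅xu a ha, xu b hb⁆ : GL') : End') = 1 + (a * b - b * a) := by
  rw [← sub_eq_iff_eq_add', comm_val_sub ha hb, xu_val, xu_val, add_sub_cancel_left, add_sub_cancel_left, xu_inv,
    xu_inv]
  have e1 : (a * b - b * a) * a = 0 := by rw [sub_mul, h1, mul_assoc, ha, mul_zero, sub_zero]
  have e2 : (a * b - b * a) * b = 0 := by rw [sub_mul, h2, mul_assoc, hb, mul_zero, sub_zero]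
  rw [show (a * b - b * a) * ((1 - a) * (1 - b)) =
    (a * b - b * a) - (a * b - b * a) * a - (a * b - b * a) * b + (a * b - b * a) * a * b by noncomm_ring, e1, e2]
  simp

theorem fam_comm (ha : Fam G a) (hb : Fam G b) (h1 : a * b * a = 0) (h2 : b * a * b = 0) :
    Fam G (a * b - b * a) := by
  refine ⟨?_, fun c => ?_⟩
  · rw [show (a * b - b * a) * (a * b - b * a) = a * b * a * b - a * (b * b) * a - b * (a * a) * b + b * a * b * a
      by noncomm_ring, h1, h2, ha.sq, hb.sq]
    simp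
  · refine ⟨⁅xu (c • a) (smul_sq_zero c ha.sq), xu b hb.sq⁆,
      mul_mem (mul_mem (mul_mem (ha.xu_mem c) hb.xu_mem_one) (inv_mem (ha.xu_mem c))) (inv_mem hb.xu_mem_one), ?_⟩
    rw [comm_exact (smul_sq_zero c ha.sq) hb.sq (by rw [smul_mul_assoc, smul_mul_assoc, mul_smul_comm, h1, smul_zero,
      smul_zero]) (by rw [mul_smul_comm, smul_mul_assoc, h2, smul_zero]), smul_mul_assoc, mul_smul_comm, ← smul_sub]

theorem commute_nilpotent (ha : a * a = 0) (h : a * b = b * a) : IsNilpotent (a * b) :=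
  ⟨2, by rw [pow_two]; nth_rewrite 2 [h]; rw [mul_assoc a b, ← mul_assoc b b, ← mul_assoc a, ← mul_assoc a,
    mul_assoc a b b, ← mul_assoc a, h, mul_assoc b a b, h, ← mul_assoc b b, mul_assoc (b * b), ha, mul_zero]⟩

variable [FiniteDimensional k M]

/-- What a non-commuting pair with nilpotent product looks like. -/
structure CommPair (G : Subgroup (LinearMap.GeneralLinearGroup k M)) (a b : M →ₗ[k] M) : Prop where
  aba : a * b * a = 0
  bab : b * a * b = 0
  minX : MinEl G (a * b - b * a)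
  rangeX : LinearMap.range (a * b - b * a) = LinearMap.range (a * b) ⊔ LinearMap.range (b * a)
  disj : Disjoint (LinearMap.range (a * b)) (LinearMap.range (b * a))
  rangeAB : LinearMap.range (a * b) = LinearMap.range a ⊓ LinearMap.ker b
  rangeBA : LinearMap.range (b * a) = LinearMap.range b ⊓ LinearMap.ker a
  kerX : LinearMap.ker (a * b - b * a) = LinearMap.ker (a * b) ⊓ LinearMap.ker (b * a)

theorem commPair (h2 : (2 : k) ≠ 0) (ha : MinEl G a) (hb : MinEl G b) (hn : IsNilpotent (a * b))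
    (hne : a * b ≠ b * a) : CommPair G a b := by
  obtain ⟨h1, h1'⟩ := nilpotent_pair h2 ha hb hn
  have hFX : Fam G (a * b - b * a) := fam_comm ha.toFam hb.toFam h1 h1'
  have hX0 : a * b - b * a ≠ 0 := sub_ne_zero.mpr hne
  have hd1 := ha.min _ hFX hX0
  have hab := ha.rk_eq hb
  have hle : LinearMap.range (a * b - b * a) ≤ LinearMap.range (a * b) ⊔ LinearMap.range (b * a) := by
    rintro _ ⟨v, rfl⟩
    exact Submodule.mem_sup.mpr ⟨_, ⟨v, rfl⟩, -((b * a) v), neg_mem ⟨v, rfl⟩, by simp [sub_eq_add_neg]⟩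
  have l1 : LinearMap.range (a * b) ≤ LinearMap.range a ⊓ LinearMap.ker b := by
    refine le_inf (range_mul_le a b) ?_
    rintro _ ⟨v, rfl⟩
    rw [LinearMap.mem_ker, ← Module.End.mul_apply, ← mul_assoc, h1']
    rfl
  have l2 : LinearMap.range (b * a) ≤ LinearMap.range b ⊓ LinearMap.ker a := by
    refine le_inf (range_mul_le b a) ?_
    rintro _ ⟨v, rfl⟩
    rw [LinearMap.mem_ker, ← Module.End.mul_apply, ← mul_assoc, h1]
    rfl
  have c1 : Module.finrank k (LinearMap.range (a * b)) +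
      Module.finrank k (LinearMap.range b ⊓ LinearMap.ker a : Submodule k M) = Module.finrank k (LinearMap.range b) := by
    rw [range_mul]; exact finrank_map_add a _
  have c2 : Module.finrank k (LinearMap.range (b * a)) +
      Module.finrank k (LinearMap.range a ⊓ LinearMap.ker b : Submodule k M) = Module.finrank k (LinearMap.range a) := by
    rw [range_mul]; exact finrank_map_add b _
  have c3 := Submodule.finrank_sup_add_finrank_inf_eq (LinearMap.range (a * b)) (LinearMap.range (b * a))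
  have c4 := Submodule.finrank_mono hle
  have c5 := Submodule.finrank_mono l1
  have c6 := Submodule.finrank_mono l2
  unfold rk at hd1 hab
  have hd : LinearMap.range (a * b) ⊓ LinearMap.range (b * a) = ⊥ := by
    rw [← Submodule.finrank_eq_zero]; omega
  refine ⟨h1, h1', ⟨hFX, hX0, fun z hz hz0 => le_trans ?_ (ha.min z hz hz0)⟩,
    Submodule.eq_of_le_of_finrank_le hle (by omega), disjoint_iff.mpr hd,
    Submodule.eq_of_le_of_finrank_le l1 (by omega), Submodule.eq_of_le_of_finrank_le l2 (by omega), ?_⟩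
  · unfold rk; omega
  · refine le_antisymm (fun v hv => ?_) fun v hv => ?_
    · rw [LinearMap.mem_ker, LinearMap.sub_apply, sub_eq_zero] at hv
      have h0 : (a * b) v ∈ LinearMap.range (a * b) ⊓ LinearMap.range (b * a) := ⟨⟨v, rfl⟩, v, hv.symm⟩
      rw [hd, Submodule.mem_bot] at h0
      exact ⟨h0, hv.symm.trans h0⟩
    · obtain ⟨p, q⟩ := hv
      rw [SetLike.mem_coe, LinearMap.mem_ker] at p q
      rw [LinearMap.mem_ker, LinearMap.sub_apply, p, q, sub_zero]

set_option maxHeartbeats 400000 in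
/-- Lifts through a commuting one-parameter factor are exact. -/
theorem lift_exact {A : Type*} [CommRing A] [Algebra k A] (h2 : (2 : k) ≠ 0) (h3 : Nat.card k ≠ 3) (α : A)
    (φ : Matrix.SpecialLinearGroup (Fin 2) A →* GL') {b'' : End'} (hb''s : b'' * b'' = 0)
    (hcomm : ∀ X' ∈ rmix k α, ∀ t : k, Commute (φ X') (xu (t • b'') (smul_sq_zero t hb''s)))
    (hu : ∀ t : k, φ (ru (algebraMap k A t)) ∈ G)
    (hl : ∀ t : k, φ (rl (algebraMap k A t * α)) * xu (t • b'') (smul_sq_zero t hb''s) ∈ G) :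
    (∀ z : A, ru z ∈ rmix k α → φ (ru z) ∈ G) ∧ (rmix k α = ⊤ → ∀ s : A, φ (rl s) ∈ G) := by
  have hxadd : ∀ p q : k, xu ((p + q) • b'') (smul_sq_zero _ hb''s) =
      xu (p • b'') (smul_sq_zero _ hb''s) * xu (q • b'') (smul_sq_zero _ hb''s) := by
    intro p q
    ext1
    rw [Units.val_mul, xu_val, xu_val, xu_val, add_smul, mul_add, add_mul, add_mul, one_mul, mul_one, one_mul,
      smul_mul_assoc, mul_smul_comm, hb''s, smul_zero, smul_zero, add_zero, add_assoc]
  obtain ⟨P, hP⟩ : ∃ P : Subgroup (Matrix.SpecialLinearGroup (Fin 2) (A) × Multiplicative k),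
      P = Subgroup.closure (Set.range (fun t : k => (ru (algebraMap k (A) t), (1 : Multiplicative k))) ∪
        Set.range fun t : k => (rl (algebraMap k (A) t * α), Multiplicative.ofAdd t)) :=
    ⟨_, rfl⟩
  have hP1 : ∀ p ∈ P, p.1 ∈ rmix k α := by
    intro p hp
    suffices hle : P ≤ (rmix k α).comap (MonoidHom.fst _ _) from hle hp
    rw [hP, Subgroup.closure_le]
    rintro _ (⟨t, rfl⟩ | ⟨t, rfl⟩)
    exacts [ru_base_mem t, rl_base_mem t]
  have hP2 : ∀ X' ∈ rmix k α, ∃ t, (X', t) ∈ P := by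
    intro X' hX'
    induction hX' using Subgroup.closure_induction with
    | mem X' hX' =>
      rcases hX' with ⟨s, rfl⟩ | ⟨s, rfl⟩
      · exact ⟨1, by rw [hP]; exact Subgroup.subset_closure (Or.inl ⟨s, rfl⟩)⟩
      · exact ⟨Multiplicative.ofAdd s, by rw [hP]; exact Subgroup.subset_closure (Or.inr ⟨s, rfl⟩)⟩
    | one => exact ⟨1, one_mem P⟩
    | mul X' Y' _ _ hX' hY' =>
      obtain ⟨t, ht⟩ := hX'
      obtain ⟨t', ht'⟩ := hY'
      exact ⟨t * t', by rw [← Prod.mk_mul_mk]; exact mul_mem ht ht'⟩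
    | inv X' _ hX' =>
      obtain ⟨t, ht⟩ := hX'
      exact ⟨t⁻¹, by rw [← Prod.inv_mk]; exact inv_mem ht⟩
  have hPG : ∀ p ∈ P, φ p.1 * xu (Multiplicative.toAdd p.2 • b'') (smul_sq_zero _ hb''s) ∈ G := by
    intro p hp
    rw [hP] at hp
    induction hp using Subgroup.closure_induction with
    | mem p hp =>
      rcases hp with ⟨t, rfl⟩ | ⟨t, rfl⟩
      · convert hu t using 1
        ext1
        simp [xu_val]
      · exact hl t
    | one =>
      convert one_mem G using 1
      ext1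
      simp [xu_val]
    | mul p q hp' hq' hp hq =>
      have hpq := mul_mem hp hq
      convert hpq using 1
      have hc := hcomm q.1 (hP1 q (hP ▸ hq')) (Multiplicative.toAdd p.2)
      simp only [Prod.fst_mul, Prod.snd_mul, toAdd_mul, map_mul]
      rw [hxadd, mul_assoc, mul_assoc, ← mul_assoc (φ q.1), hc.eq, mul_assoc]
    | inv p hp' hp =>
      have hpi := inv_mem hp
      convert hpi using 1
      have hc := hcomm p.1⁻¹ (inv_mem (hP1 p (hP ▸ hp'))) (-Multiplicative.toAdd p.2)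
      have e : (xu (Multiplicative.toAdd p.2 • b'') (smul_sq_zero _ hb''s))⁻¹ =
          xu ((-Multiplicative.toAdd p.2) • b'') (smul_sq_zero _ hb''s) := Units.ext (by
        rw [xu_inv, xu_val, neg_smul, sub_eq_add_neg])
      simp only [Prod.fst_inv, Prod.snd_inv, toAdd_inv]
      rw [_root_.mul_inv_rev, e, ← map_inv, hc.eq]
  have hΘ : ∀ s : kˣ, ∀ (X' : Matrix.SpecialLinearGroup (Fin 2) (A)) (t : k),
      (X', Multiplicative.ofAdd t) ∈ P →
      (sclHom (Units.map (algebraMap k A).toMonoidHom s) X', Multiplicative.ofAdd ((↑s⁻¹ : k) * t)) ∈ P := by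
    intro s X' t h
    obtain ⟨Θ, hΘdef⟩ : ∃ Θ, Θ = (sclHom (Units.map (algebraMap k A).toMonoidHom s)).prodMap
        (AddMonoidHom.toMultiplicative (AddMonoidHom.mulLeft (↑s⁻¹ : k))) := ⟨_, rfl⟩
    have hle : P.map Θ ≤ P := by
      rw [Subgroup.map_le_iff_le_comap]
      conv_lhs => rw [hP]
      rw [Subgroup.closure_le, hΘdef]
      rintro _ (⟨t, rfl⟩ | ⟨t, rfl⟩)
      · rw [SetLike.mem_coe, Subgroup.mem_comap]
        conv_lhs => rw [hP]
        refine Subgroup.subset_closure (Or.inl ⟨(s : k) * t, Prod.ext ?_ ?_⟩)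
        · show ru _ = sclHom _ (ru _)
          rw [sclHom_ru, map_mul]; rfl
        · show (1 : Multiplicative k) = Multiplicative.ofAdd ((↑s⁻¹ : k) * 0)
          rw [mul_zero]; rfl
      · rw [SetLike.mem_coe, Subgroup.mem_comap]
        conv_lhs => rw [hP]
        refine Subgroup.subset_closure (Or.inr ⟨(↑s⁻¹ : k) * t, Prod.ext ?_ rfl⟩)
        show rl _ = sclHom _ (rl _)
        rw [sclHom_rl, map_mul, mul_assoc]; rfl
    have := hle (Subgroup.mem_map_of_mem Θ h)
    rw [hΘdef] at this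
    exact this
  have hscl1 : ∀ s : kˣ, ∀ t : k, ((1 : Matrix.SpecialLinearGroup (Fin 2) (A)), Multiplicative.ofAdd t) ∈ P →
      ((1 : Matrix.SpecialLinearGroup (Fin 2) (A)), Multiplicative.ofAdd ((↑s⁻¹ : k) * t)) ∈ P :=
    fun s t h => by simpa using hΘ s 1 t h
  obtain ⟨c', hc0, hc1, hc2⟩ : ∃ c' : k, c' ≠ 0 ∧ 1 + c' ≠ 0 ∧ c' * c' + c' + 1 ≠ 0 := by
    by_cases h30 : (3 : k) = 0
    · obtain ⟨s, hs⟩ := exists_sq_ne_one (k := k) h2 h3
      refine ⟨s, s.ne_zero, fun e => hs ?_, fun e => hs ?_⟩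
      · linear_combination ((s : k) - 1) * e
      · have h1 : ((s : k) - 1) * ((s : k) - 1) = 0 := by linear_combination e - (s : k) * h30
        rw [mul_self_eq_zero] at h1
        linear_combination ((s : k) + 1) * h1
    · exact ⟨1, one_ne_zero, by rwa [one_add_one_eq_two], fun e => h30 (by linear_combination e)⟩
  have hexact : ∀ z : A, ru z ∈ rmix k α →
      (ru z, Multiplicative.ofAdd (0 : k)) ∈ P := by
    intro z hz
    obtain ⟨t, ht'⟩ : ∃ t : k, (ru z, Multiplicative.ofAdd t) ∈ P :=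
      (hP2 _ hz).elim fun u hu' => ⟨Multiplicative.toAdd u, hu'⟩
    have h1 := hΘ (Units.mk0 c' hc0) _ _ ht'
    have h2' := hΘ (Units.mk0 (1 + c') hc1) _ _ ht'
    rw [sclHom_ru] at h1 h2'
    have h4 := mul_mem (mul_mem ht' h1) (inv_mem h2')
    have e4 : ((ru z, Multiplicative.ofAdd t) : Matrix.SpecialLinearGroup (Fin 2) (A) × Multiplicative k) *
        (ru (algebraMap k (A) c' * z), Multiplicative.ofAdd (c'⁻¹ * t)) *
        (ru (algebraMap k (A) (1 + c') * z), Multiplicative.ofAdd ((1 + c')⁻¹ * t))⁻¹ =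
        (1, Multiplicative.ofAdd ((c' * c' + c' + 1) / (c' * (1 + c')) * t)) := by
      refine Prod.ext ?_ ?_
      · simp only [Prod.fst_mul, Prod.fst_inv]
        rw [ru_inv, ru_mul, ru_mul, ← ru_zero]
        congr 1
        rw [map_add, map_one]; ring
      · simp only [Prod.snd_mul, Prod.snd_inv]
        rw [← ofAdd_neg, ← ofAdd_add, ← ofAdd_add]
        congr 1
        field_simp
        ring
    have h5 : ((1 : Matrix.SpecialLinearGroup (Fin 2) (A)),
        Multiplicative.ofAdd ((c' * c' + c' + 1) / (c' * (1 + c')) * t)) ∈ P := e4 ▸ h4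
    obtain ⟨δ, hδ⟩ : ∃ δ, δ = (c' * c' + c' + 1) / (c' * (1 + c')) := ⟨_, rfl⟩
    have hδ0 : δ ≠ 0 := hδ ▸ div_ne_zero hc2 (mul_ne_zero hc0 hc1)
    rw [← hδ] at h5
    have h6 := hscl1 (Units.mk0 δ hδ0) _ h5
    rw [Units.val_inv_eq_inv_val, Units.val_mk0, inv_mul_cancel_left₀ hδ0] at h6
    have h7 := mul_mem ht' (inv_mem h6)
    rwa [Prod.inv_mk, Prod.mk_mul_mk, inv_one, mul_one, mul_inv_cancel] at h7
  have hruG : ∀ z : A, ru z ∈ rmix k α → φ (ru z) ∈ G := by
    intro z hz
    have := hPG _ (hexact z hz)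
    simp only [toAdd_ofAdd, zero_smul] at this
    convert this using 1
    ext1
    simp [xu_val]
  refine ⟨hruG, fun htop s => ?_⟩
  obtain ⟨w', hw'⟩ : ∃ w' : Matrix.SpecialLinearGroup (Fin 2) (A),
      ∀ s, rl s = w' * ru (-s) * w'⁻¹ := by
    refine ⟨ru 1 * rl (-1) * ru 1, fun s => ?_⟩
    rw [eq_mul_inv_iff_mul_eq]
    apply Subtype.ext
    simp only [Matrix.SpecialLinearGroup.coe_mul, ru_coe, rl_coe]
    ext i j
    fin_cases i <;> fin_cases j <;> simp [Matrix.mul_apply, Fin.sum_univ_two]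
  have hmemr : ∀ Y, Y ∈ rmix k α := fun Y => htop ▸ Subgroup.mem_top Y
  obtain ⟨t, ht⟩ := hP2 w' (hmemr w')
  have h := mul_mem (mul_mem ht (hexact (-s) (hmemr _))) (inv_mem ht)
  have h' := hPG _ h
  simp only [Prod.fst_mul, Prod.snd_mul, Prod.fst_inv, Prod.snd_inv, toAdd_mul, toAdd_inv, toAdd_ofAdd,
    add_zero, add_neg_cancel, zero_smul] at h'
  rw [← hw' s] at h'
  convert h' using 1
  ext1
  simp [xu_val]

set_option maxHeartbeats 400000 in
/-- Everything known about a pair of a minimal and an arbitrary element with non-nilpotent product. -/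
theorem pair_core (h2 : (2 : k) ≠ 0) (h3 : Nat.card k ≠ 3) (ha : MinEl G a) (hb : Fam G b)
    (hn : ¬ IsNilpotent (a * b)) :
    ∃ (Q ε : k[X]) (c : M →ₗ[k] M), Q.Monic ∧ Irreducible Q ∧ Q.eval 0 ≠ 0 ∧
      (∀ f, aeval (a * b) f * a = 0 ↔ Q ∣ f) ∧ aeval (a * b) ε * a = a ∧ X ∣ ε ∧ Q ∣ 1 - ε ∧
      ∃ D : RootData Q (a * b) (aeval (a * b) ε * a) c,
        (∀ f : k[X], rho D (AdjoinRoot.mk Q f) * (aeval (a * b) ε * a) = aeval (a * b) (f * ε) * a) ∧
        (∀ f : k[X], c * rho D (AdjoinRoot.mk Q (f * X)) = b * aeval (a * b) (f * ε)) ∧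
        ∀ X, sl2Unit D X ∈ G := by
  classical
  obtain ⟨e, Q, ε, c, hQm, hQ0, hkill, hεX, hεQ, D, hup, hlow⟩ := pair_data (k := k) ha.sq hb.sq
  set T := a * b with hT
  have hQdeg : 0 < Q.natDegree := by
    by_contra hd
    have hQ1 := hQm.natDegree_eq_zero.mp (by omega)
    refine hn ⟨e + 1, ?_⟩
    have := (hkill (X ^ e)).mpr (by rw [hQ1, mul_one])
    rw [map_pow, aeval_X] at this
    rw [pow_succ]
    nth_rewrite 2 [hT]
    rw [← mul_assoc, this, zero_mul]
  haveI : Nontrivial (AdjoinRoot Q) := AdjoinRoot.nontrivial _ fun h => by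
    rw [Polynomial.degree_eq_natDegree hQm.ne_zero] at h
    exact hQdeg.ne' (by exact_mod_cast h)
  let pb := AdjoinRoot.powerBasis hQm.ne_zero
  have hroot : IsUnit (AdjoinRoot.root Q) := by
    refine IsUnit.of_mul_eq_one (AdjoinRoot.mk Q (C (-(Q.eval 0))⁻¹ * Q.divX)) ?_
    rw [← AdjoinRoot.mk_X, ← map_mul, ← sub_eq_zero, ← map_one (AdjoinRoot.mk Q), ← map_sub, AdjoinRoot.mk_eq_zero]
    refine ⟨C (-(Q.eval 0))⁻¹, ?_⟩
    have hc : C (-(Q.eval 0))⁻¹ * C (Q.eval 0) = (-1 : k[X]) := by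
      rw [← map_mul, inv_neg, neg_mul, inv_mul_cancel₀ hQ0, map_neg, map_one]
    have hQe : Q = X * Q.divX + C (Q.eval 0) := by rw [← coeff_zero_eq_eval_zero, X_mul_divX_add]
    linear_combination -hc - C (-(Q.eval 0))⁻¹ * hQe
  obtain ⟨α, hα⟩ := hroot
  have hg : pb.gen = (α : AdjoinRoot Q) := by rw [hα]; exact AdjoinRoot.powerBasis_gen _
  obtain ⟨a', ha'⟩ : ∃ a', a' = aeval T ε * a := ⟨_, rfl⟩
  obtain ⟨b', hb'⟩ : ∃ b', b' = b * aeval T ε := ⟨_, rfl⟩
  have hup1 : ∀ s : k, (sl2Unit D (ru (algebraMap k (AdjoinRoot Q) s)) : End') = 1 + s • a' := by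
    intro s
    rw [sl2Unit_ru, AdjoinRoot.algebraMap_eq, ← AdjoinRoot.mk_C, hup, ha', map_mul, aeval_C,
      ← Algebra.smul_def, smul_mul_assoc]
  have hlo1 : ∀ s : k, (sl2Unit D (rl (algebraMap k (AdjoinRoot Q) s * (α : AdjoinRoot Q))) : End') = 1 + s • b' := by
    intro s
    rw [sl2Unit_rl, AdjoinRoot.algebraMap_eq, hα, ← AdjoinRoot.mk_C, ← AdjoinRoot.mk_X, ← map_mul, hlow, hb',
      map_mul, aeval_C, ← Algebra.smul_def, mul_smul_comm]
  by_cases he : e = 0
  swap
  · exfalso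
    have ha's : a' * a' = 0 := by rw [ha']; exact D.ha
    have hpa : ∀ {f : k[X]}, X ^ (e + 1) * Q ∣ f → aeval T f = 0 := by
      rintro f ⟨g, rfl⟩
      rw [show X ^ (e + 1) * Q * g = X ^ e * Q * X * g by ring, map_mul, map_mul (aeval T) (X ^ e * Q) X, aeval_X]
      nth_rewrite 2 [hT]
      rw [← mul_assoc, (hkill _).mpr dvd_rfl, zero_mul, zero_mul]
    have hpa2 : ∀ {f : k[X]}, X ^ e * Q ∣ f → aeval T f * a = 0 := fun h => (hkill _).mpr h
    set a'' := a - a' with ha''
    set b'' := b - b' with hb''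
    have hea : a'' = aeval T (1 - ε) * a := by rw [ha'', ha', map_sub, map_one, sub_mul, one_mul]
    have heb : b'' = b * aeval T (1 - ε) := by rw [hb'', hb', map_sub, map_one, mul_sub, mul_one]
    have ha''s : a'' * a'' = 0 := by
      rw [hea, mul_assoc, ← mul_assoc a, (aeval_mid ha.sq hb.sq _).1, mul_zero]
    have hb''s : b'' * b'' = 0 := by
      rw [heb, ← mul_assoc, (aeval_mid ha.sq hb.sq _).2, zero_mul]
    have hdiv : ∀ g : k[X], X ^ (e + 1) * Q ∣ ε * (1 - ε) * g := fun g =>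
      Dvd.dvd.mul_right (mul_dvd_mul hεX hεQ) g
    have z1 : a' * a'' = 0 ∧ a'' * a' = 0 := by
      rw [hea, ha']
      constructor <;> rw [mul_assoc, ← mul_assoc a, (aeval_mid ha.sq hb.sq _).1, mul_zero]
    have z2 : b' * b'' = 0 ∧ b'' * b' = 0 := by
      rw [heb, hb']
      constructor <;> rw [← mul_assoc, (aeval_mid ha.sq hb.sq _).2, zero_mul]
    have z3 : a' * b'' = 0 ∧ a'' * b' = 0 := by
      rw [hea, heb, ha', hb']
      constructor
      all_goals
        rw [mul_assoc, ← mul_assoc a b, ← hT, ← mul_assoc]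
        conv_lhs => rw [← aeval_X (R := k) T]
        rw [aeval_X]
        nth_rewrite 2 [← aeval_X (R := k) T]
        rw [← map_mul, ← map_mul]
        refine hpa ?_
      · rw [show ε * X * (1 - ε) = ε * (1 - ε) * X by ring]; exact hdiv X
      · rw [show (1 - ε) * X * ε = ε * (1 - ε) * X by ring]; exact hdiv X
    have z4 : b' * a'' = 0 ∧ b'' * a' = 0 := by
      rw [hea, heb, ha', hb']
      constructor <;> rw [mul_assoc, ← mul_assoc (aeval T _), ← map_mul, hpa2, mul_zero]
      · exact dvd_trans (mul_dvd_mul_right (pow_dvd_pow X (Nat.le_succ e)) Q) (mul_dvd_mul hεX hεQ)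
      · rw [mul_comm (1 - ε) ε]
        exact dvd_trans (mul_dvd_mul_right (pow_dvd_pow X (Nat.le_succ e)) Q) (mul_dvd_mul hεX hεQ)
    have hN : (a'' * b'') ^ (e + 1) = 0 := by
      have e1 : a'' * b'' = aeval T ((1 - ε) * X * (1 - ε)) := by
        rw [hea, heb, map_mul, map_mul, aeval_X, hT]
        simp only [mul_assoc]
      rw [e1, ← map_pow]
      refine hpa ?_
      rw [show ((1 - ε) * X * (1 - ε)) ^ (e + 1) = X ^ (e + 1) * ((1 - ε) ^ (e + 1)) * (1 - ε) ^ (e + 1) by
        rw [← mul_pow, ← mul_pow]; ring]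
      exact (mul_dvd_mul_left _ (dvd_trans hεQ (dvd_pow_self _ (by omega)))).mul_right _
    let s : Set ((Matrix.SpecialLinearGroup (Fin 2) (AdjoinRoot Q)) × GL') :=
      Set.range (fun t : k => (ru (algebraMap k (AdjoinRoot Q) t), xu (t • a'') (smul_sq_zero t ha''s))) ∪
      Set.range fun t : k => (rl (algebraMap k (AdjoinRoot Q) t * (α : AdjoinRoot Q)), xu (t • b'') (smul_sq_zero t hb''s))
    set P := Subgroup.closure s with hP
    set K := Subgroup.closure (Set.range (fun t : k => xu (t • a'') (smul_sq_zero t ha''s)) ∪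
      Set.range fun t : k => xu (t • b'') (smul_sq_zero t hb''s)) with hK
    have hsnd : P.map (MonoidHom.snd _ _) ≤ K := by
      rw [Subgroup.map_le_iff_le_comap, hP, Subgroup.closure_le]
      rintro _ (⟨t, rfl⟩ | ⟨t, rfl⟩)
      exacts [Subgroup.subset_closure (Or.inl ⟨t, rfl⟩), Subgroup.subset_closure (Or.inr ⟨t, rfl⟩)]
    have hfst : P.map (MonoidHom.fst _ _) = rmix k (α : AdjoinRoot Q) := by
      rw [hP, MonoidHom.map_closure, rmix, Set.image_union, ← Set.range_comp, ← Set.range_comp]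
      rfl
    have hKl : K ≤ lvl (k := k) ha''s hb''s 0 := by
      rw [hK, Subgroup.closure_le]
      rintro _ (⟨t, rfl⟩ | ⟨t, rfl⟩)
      exacts [(xu_mem_lvl ha''s hb''s t).1, (xu_mem_lvl ha''s hb''s t).2]
    have hcomm : ∀ X ∈ rmix k (α : AdjoinRoot Q), ∀ Y ∈ K, Commute (sl2Unit D X) Y := by
      have hgen : ∀ (g y : GL') (p q : End'), (g : End') = 1 + p → (y : End') = 1 + q → p * q = 0 → q * p = 0 →
          g * y = y * g := by
        intro g y p q hg hy hpq hqp
        ext1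
        rw [Units.val_mul, Units.val_mul, hg, hy,
          show (1 + p) * (1 + q) = 1 + p + q + p * q by noncomm_ring,
          show (1 + q) * (1 + p) = 1 + p + q + q * p by noncomm_ring, hpq, hqp]
      suffices (rmix k (α : AdjoinRoot Q)).map (sl2Unit D) ≤ Subgroup.centralizer (K : Set GL') from
        fun X hX Y hY => (Subgroup.mem_centralizer_iff.mp (this (Subgroup.mem_map_of_mem _ hX)) Y hY).symm
      rw [hK, Subgroup.centralizer_closure, Subgroup.map_le_iff_le_comap, rmix, Subgroup.closure_le]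
      intro X hX
      rw [SetLike.mem_coe, Subgroup.mem_comap, Subgroup.mem_centralizer_iff]
      rcases hX with ⟨t, rfl⟩ | ⟨t, rfl⟩ <;> rintro _ (⟨u, rfl⟩ | ⟨u, rfl⟩)
      all_goals refine (hgen _ _ _ _ (by first | exact hup1 t | exact hlo1 t) (xu_val _ _) ?_ ?_).symm
      all_goals simp [smul_mul_assoc, mul_smul_comm, z1.1, z1.2, z2.1, z2.2, z3.1, z3.2, z4.1, z4.2]
    have hexp : ∀ p q : End', (1 + p) * (1 + q) = 1 + p + q + p * q := fun p q => by noncomm_ring
    have hPG : ∀ p ∈ P, sl2Unit D p.1 * p.2 ∈ G := by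
      intro p hp
      induction hp using Subgroup.closure_induction with
      | mem p hp =>
        rcases hp with ⟨t, rfl⟩ | ⟨t, rfl⟩
        · obtain ⟨g, hg, hge⟩ := ha.mem t
          convert hg using 1
          ext1
          rw [Units.val_mul, hup1, xu_val, hge, hexp (t • a') (t • a''), smul_mul_assoc, mul_smul_comm, z1.1, ha'']
          simp [smul_sub]
        · obtain ⟨g, hg, hge⟩ := hb.mem t
          convert hg using 1
          ext1
          rw [Units.val_mul, hlo1, xu_val, hge, hexp (t • b') (t • b''), smul_mul_assoc, mul_smul_comm, z2.1, hb'']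
          simp [smul_sub]
      | one => simp [one_mem]
      | mul p q hp' hq' hp hq =>
        have hc := hcomm _ (hfst ▸ Subgroup.mem_map_of_mem _ hq') _ (hsnd (Subgroup.mem_map_of_mem _ hp'))
        have := mul_mem hp hq
        rw [Prod.fst_mul, Prod.snd_mul, map_mul]
        convert this using 1
        simp only [MonoidHom.coe_fst, MonoidHom.coe_snd] at hc
        rw [mul_assoc, mul_assoc, ← mul_assoc p.2, ← hc.eq, mul_assoc]
      | inv p hp' hp =>
        have hc := hcomm _ (hfst ▸ Subgroup.mem_map_of_mem _ hp') _ (hsnd (Subgroup.mem_map_of_mem _ hp'))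
        have := inv_mem hp
        simp only [MonoidHom.coe_fst, MonoidHom.coe_snd] at hc
        rw [Prod.fst_inv, Prod.snd_inv, map_inv, ← hc.symm.inv_inv.eq]
        rwa [_root_.mul_inv_rev] at this
    obtain ⟨z, hz, hzd⟩ := exists_deep h2 h3 α pb hg (2 * (e + 1) + 2)
    have hlift : ∀ t : k, sl2Unit D (ru (t • z)) ∈ G := by
      intro t
      have ht := hzd t
      rw [← hfst, ← Subgroup.map_lowerCentralSeries] at ht
      obtain ⟨p, hp, hpe⟩ := ht
      have h2' := lcs_mono hsnd (2 * (e + 1) + 2) (by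
        rw [← Subgroup.map_lowerCentralSeries]; exact Subgroup.mem_map_of_mem _ hp)
      have h3' := lcs_le_lvl ha''s hb''s hKl _ h2'
      rw [lvl_eq_bot ha''s hb''s hN, Subgroup.mem_bot] at h3'
      have := hPG p (P.lowerCentralSeries_antitone (Nat.zero_le _) hp)
      rw [MonoidHom.coe_fst] at hpe
      rw [MonoidHom.coe_snd] at h3'
      rwa [hpe, h3', mul_one] at this
    obtain ⟨f, rfl⟩ := AdjoinRoot.mk_surjective z
    obtain ⟨x, hx⟩ : ∃ x, x = aeval T (f * ε) * a := ⟨_, rfl⟩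
    have hFx : Fam G x := by
      refine ⟨by rw [hx, mul_assoc, ← mul_assoc a, (aeval_mid ha.sq hb.sq _).1, mul_zero], fun t =>
        ⟨_, hlift t, ?_⟩⟩
      rw [sl2Unit_ru, rho_smul, smul_mul_assoc, hup, hx]
    have hx0 : x ≠ 0 := fun h => by
      rw [hx, hkill] at h
      apply hz
      rw [AdjoinRoot.mk_eq_zero]
      have hQε : IsCoprime Q ε := by
        obtain ⟨v, hv⟩ := hεQ
        exact ⟨v, 1, by linear_combination -hv⟩
      exact hQε.dvd_of_dvd_mul_right (dvd_trans (dvd_mul_left _ _) h)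
    obtain ⟨w, hw⟩ : ∃ w : M, (aeval T (X ^ (e - 1) * Q) * a) w ≠ 0 := by
      by_contra hcon
      push Not at hcon
      have h := (hkill _).mp (LinearMap.ext hcon)
      have hne : (X : k[X]) ^ (e - 1) * Q ≠ 0 := mul_ne_zero (pow_ne_zero _ X_ne_zero) hQm.ne_zero
      have := natDegree_le_of_dvd h hne
      rw [natDegree_mul (pow_ne_zero _ X_ne_zero) hQm.ne_zero, natDegree_mul (pow_ne_zero _ X_ne_zero) hQm.ne_zero,
        natDegree_X_pow, natDegree_X_pow] at this
      omega
    refine ha.contra (f := aeval T (f * ε)) (hx ▸ hFx) (hx ▸ hx0)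
      (v := (aeval T (X ^ (e - 1) * Q) * a) w) ?_ hw ?_
    · have hcm : aeval T (X ^ (e - 1) * Q) * a = a * aeval (b * a) (X ^ (e - 1) * Q) := (b_aeval _).symm
      rw [hcm]
      exact ⟨_, rfl⟩
    · rw [← Module.End.mul_apply, ← mul_assoc, ← map_mul, hpa2]
      · rfl
      · obtain ⟨g, hg'⟩ := hεX
        refine ⟨f * g * X ^ e, ?_⟩
        rw [hg', pow_succ]
        have : (X : k[X]) ^ e = X * X ^ (e - 1) := by rw [← pow_succ', Nat.sub_add_cancel (by omega)]
        linear_combination (f * X * g * Q * X ^ (e - 1)) * (0 : k[X]) + (f * g * X ^ e * Q) * this * (-1)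
  subst he
  have hkill0 : ∀ f, aeval T f * a = 0 ↔ Q ∣ f := fun f => by rw [hkill, pow_zero, one_mul]
  have hεa : aeval T ε * a = a := by
    have := (hkill0 (1 - ε)).mpr hεQ
    rw [map_sub, map_one, sub_mul, one_mul, sub_eq_zero] at this
    exact this.symm
  have hpa : ∀ {f : k[X]}, X * Q ∣ f → aeval T f = 0 := by
    rintro f ⟨g, rfl⟩
    rw [show X * Q * g = Q * g * X by ring, map_mul, aeval_X]
    nth_rewrite 2 [hT]
    rw [← mul_assoc, (hkill0 _).mpr (dvd_mul_right _ _), zero_mul]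
  obtain ⟨b'', hb''⟩ : ∃ b'', b'' = b - b' := ⟨_, rfl⟩
  have heb : b'' = b * aeval T (1 - ε) := by rw [hb'', hb', map_sub, map_one, mul_sub, mul_one]
  have hb''s : b'' * b'' = 0 := by rw [heb, ← mul_assoc, (aeval_mid ha.sq hb.sq _).2, zero_mul]
  have z2 : b' * b'' = 0 ∧ b'' * b' = 0 := by
    rw [heb, hb']
    constructor <;> rw [← mul_assoc, (aeval_mid ha.sq hb.sq _).2, zero_mul]
  have hba : b'' * a' = 0 ∧ a' * b'' = 0 := by
    rw [ha', hεa, heb]
    constructor
    · rw [mul_assoc, (hkill0 _).mpr hεQ, mul_zero]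
    · rw [← mul_assoc, ← hT]
      conv_lhs => arg 1; rw [← aeval_X (R := k) T]
      rw [← map_mul]
      exact hpa (mul_dvd_mul_left X hεQ)
  have hcomm : ∀ (X' : Matrix.SpecialLinearGroup (Fin 2) (AdjoinRoot Q)), X' ∈ rmix k (α : AdjoinRoot Q) → ∀ t : k,
      Commute (sl2Unit D X') (xu (t • b'') (smul_sq_zero t hb''s)) := by
    intro X' hX'
    induction hX' using Subgroup.closure_induction with
    | mem X' hX' =>
      intro t
      rcases hX' with ⟨s, rfl⟩ | ⟨s, rfl⟩ <;> refine Units.ext ?_ <;> rw [Units.val_mul, Units.val_mul, xu_val]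
      · rw [hup1]; simp [mul_add, add_mul, smul_mul_assoc, mul_smul_comm, hba.1, hba.2]; abel
      · rw [hlo1]; simp [mul_add, add_mul, smul_mul_assoc, mul_smul_comm, z2.1, z2.2]; abel
    | one => intro t; rw [map_one]; exact Commute.one_left _
    | mul X' Y' _ _ hX' hY' => intro t; rw [map_mul]; exact (hX' t).mul_left (hY' t)
    | inv X' _ hX' => intro t; rw [map_inv]; exact (hX' t).inv_left
  obtain ⟨hruG, hrlG⟩ := lift_exact (G := G) h2 h3 (α : AdjoinRoot Q) (sl2Unit D) hb''s hcomm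
    (fun t => by
      obtain ⟨g, hg, hge⟩ := ha.mem t
      convert hg using 1
      ext1
      rw [hup1, hge, ha', hεa])
    (fun t => by
      obtain ⟨g, hg, hge⟩ := hb.mem t
      convert hg using 1
      ext1
      rw [Units.val_mul, hlo1, xu_val, hge,
        show (1 + t • b') * (1 + t • b'') = 1 + (t • b' + t • b'') + t • b' * t • b'' by
          generalize t • b' = p
          generalize t • b'' = q
          noncomm_ring,
        smul_mul_assoc, mul_smul_comm, z2.1, smul_zero, smul_zero, add_zero, ← smul_add, hb'', add_sub_cancel])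
  have hirr : Irreducible Q := by
    by_contra hni
    obtain ⟨p, q, hpq, hpu, hqu⟩ : ∃ p q, Q = p * q ∧ ¬ IsUnit p ∧ ¬ IsUnit q := by
      by_contra hcon
      push Not at hcon
      exact hni ⟨fun h => hQdeg.ne' (natDegree_eq_zero_of_isUnit h), fun p q h => or_iff_not_imp_left.mpr (hcon p q h)⟩
    have hp0 : p ≠ 0 := left_ne_zero_of_mul (hpq ▸ hQm.ne_zero)
    have hq0 : q ≠ 0 := right_ne_zero_of_mul (hpq ▸ hQm.ne_zero)
    have hnp : AdjoinRoot.mk Q p ≠ 0 := fun h => by
      obtain ⟨r, hr⟩ := AdjoinRoot.mk_eq_zero.mp h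
      exact hqu (IsUnit.of_mul_eq_one r (mul_left_cancel₀ hp0 (by linear_combination -hr - r * hpq)))
    have hnq : AdjoinRoot.mk Q q ≠ 0 := fun h => by
      obtain ⟨r, hr⟩ := AdjoinRoot.mk_eq_zero.mp h
      exact hpu (IsUnit.of_mul_eq_one r (mul_left_cancel₀ hq0 (by linear_combination -hr - r * hpq)))
    obtain ⟨z, hz, hzu, hzd⟩ := exists_nonunit h2 h3 α pb hg ⟨_, hnp, fun hu => hnq (hu.mul_right_eq_zero.mp (by
      rw [← map_mul, ← hpq, AdjoinRoot.mk_self]))⟩
    obtain ⟨w, hw, hzw⟩ : ∃ w, w ≠ 0 ∧ z * w = 0 := by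
      by_contra hcon
      push Not at hcon
      haveI := pb.finite
      have hinj : Function.Injective (LinearMap.mulLeft k z) := by
        rw [← LinearMap.ker_eq_bot, LinearMap.ker_eq_bot']
        intro y hy
        by_contra hy0
        exact hcon y hy0 hy
      obtain ⟨y, hy⟩ := (LinearMap.injective_iff_surjective.mp hinj) 1
      exact hzu (IsUnit.of_mul_eq_one y hy)
    obtain ⟨fz, rfl⟩ := AdjoinRoot.mk_surjective z
    obtain ⟨fw, rfl⟩ := AdjoinRoot.mk_surjective w
    rw [← map_mul, AdjoinRoot.mk_eq_zero] at hzw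
    have hupa : rho D (AdjoinRoot.mk Q fz) * (aeval T ε * a) = aeval T fz * a := by
      rw [hup, map_mul, mul_assoc, hεa]
    have hFx : Fam G (aeval T fz * a) := by
      refine ⟨by rw [mul_assoc, ← mul_assoc a, (aeval_mid ha.sq hb.sq _).1, mul_zero], fun t =>
        ⟨_, hruG _ (hzd t), ?_⟩⟩
      rw [sl2Unit_ru, rho_smul, smul_mul_assoc, hupa]
    obtain ⟨v, hv⟩ : ∃ v : M, (aeval T fw * a) v ≠ 0 := by
      by_contra hcon
      push Not at hcon
      exact hw (AdjoinRoot.mk_eq_zero.mpr ((hkill0 _).mp (LinearMap.ext hcon)))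
    refine ha.contra (f := aeval T fz) hFx (fun h => hz (AdjoinRoot.mk_eq_zero.mpr ((hkill0 _).mp h)))
      (v := (aeval T fw * a) v) ?_ hv ?_
    · rw [show aeval T fw * a = a * aeval (b * a) fw from (b_aeval _).symm]
      exact ⟨_, rfl⟩
    · rw [← Module.End.mul_apply, ← mul_assoc, ← map_mul, (hkill0 _).mpr hzw]
      rfl
  haveI := Fact.mk hirr
  have htop : rmix k (α : AdjoinRoot Q) = ⊤ :=
    rmix_field_top h2 h3 α.ne_zero pb hg
  refine ⟨Q, ε, c, hQm, hirr, hQ0, hkill0, hεa, by simpa using hεX, hεQ, D, hup, hlow, fun X' => ?_⟩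
  suffices hle : (⊤ : Subgroup (Matrix.SpecialLinearGroup (Fin 2) (AdjoinRoot Q))) ≤ G.comap (sl2Unit D) from
    hle (Subgroup.mem_top X')
  rw [← RootSub.lower_sup_upper]
  refine sup_le (fun g hg' => ?_) (fun g hg' => ?_)
  · obtain ⟨s, rfl⟩ := RootSub.mem_lower_iff.mp hg'
    rw [Subgroup.mem_comap, show RootSub.loEl s = rl s from rfl]
    exact hrlG htop s
  · obtain ⟨s, rfl⟩ := RootSub.mem_upper_iff.mp hg'
    rw [Subgroup.mem_comap, show RootSub.upEl s = ru s from rfl]
    exact hruG s (htop ▸ Subgroup.mem_top _)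

theorem core_inj {Q : k[X]} (hQ0 : Q.eval 0 ≠ 0) (hkill0 : ∀ f, aeval (a * b) f * a = 0 ↔ Q ∣ f) {r : M}
    (hr : r ∈ LinearMap.range a) (h : (a * b) r = 0) : r = 0 := by
  obtain ⟨w, rfl⟩ := hr
  have h0 : (aeval (a * b) Q * a) w = 0 := by rw [(hkill0 Q).mpr dvd_rfl]; rfl
  rw [← X_mul_divX_add Q, mul_comm X, map_add, map_mul, aeval_X, aeval_C, Algebra.algebraMap_eq_smul_one, add_mul,
    LinearMap.add_apply, mul_assoc, Module.End.mul_apply, Module.End.mul_apply (a * b), h, map_zero, zero_add,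
    smul_mul_assoc, one_mul, LinearMap.smul_apply, smul_eq_zero] at h0
  exact h0.resolve_left (by rw [coeff_zero_eq_eval_zero]; exact hQ0)

theorem core_disj {Q : k[X]} (hQ0 : Q.eval 0 ≠ 0) (hkill0 : ∀ f, aeval (a * b) f * a = 0 ↔ Q ∣ f) :
    Disjoint (LinearMap.range a) (LinearMap.ker b) := by
  rw [disjoint_iff, eq_bot_iff]
  rintro v ⟨hv, hv'⟩
  rw [SetLike.mem_coe, LinearMap.mem_ker] at hv'
  exact core_inj hQ0 hkill0 hv (by rw [Module.End.mul_apply, hv', map_zero])

/-- What a pair with non-nilpotent product looks like. -/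
theorem oppPair_data (h2 : (2 : k) ≠ 0) (h3 : Nat.card k ≠ 3) (ha : MinEl G a) (hb : MinEl G b)
    (hn : ¬ IsNilpotent (a * b)) :
    ∃ (Q : k[X]) (c : M →ₗ[k] M), Q.Monic ∧ Irreducible Q ∧ Q.eval 0 ≠ 0 ∧ ∃ D : RootData Q (a * b) a c,
      (∀ x, rho D x = 0 → x = 0) ∧ (∀ f : k[X], rho D (AdjoinRoot.mk Q f) * a = aeval (a * b) f * a) ∧
      (∀ f : k[X], c * rho D (AdjoinRoot.mk Q (f * X)) = b * aeval (a * b) f) ∧
      Disjoint (LinearMap.range a) (LinearMap.ker b) ∧ Disjoint (LinearMap.range b) (LinearMap.ker a) := by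
  obtain ⟨Q, ε, c, hQm, hirr, hQ0, hkill0, hεa, -, hεQ, D, hup, hlow, -⟩ := pair_core h2 h3 ha hb.toFam hn
  have hinjT : ∀ r ∈ LinearMap.range a, (a * b) r = 0 → r = 0 := fun r hr h =>
    core_inj hQ0 hkill0 hr h
  have hdis1 : Disjoint (LinearMap.range a) (LinearMap.ker b) := core_disj hQ0 hkill0
  have hbR : (LinearMap.range a).map b = LinearMap.range b := by
    refine Submodule.eq_of_le_of_finrank_le (LinearMap.map_le_range) ?_
    have h := finrank_map_add b (LinearMap.range a)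
    rw [hdis1.eq_bot, finrank_bot, add_zero] at h
    rw [h]
    exact (ha.rk_eq hb).ge
  have hdis2 : Disjoint (LinearMap.range b) (LinearMap.ker a) := by
    rw [disjoint_iff, eq_bot_iff]
    rintro v ⟨hv, hv'⟩
    rw [SetLike.mem_coe, ← hbR] at hv
    obtain ⟨r, hr, rfl⟩ := hv
    rw [SetLike.mem_coe, LinearMap.mem_ker] at hv'
    rw [hinjT r hr (by rw [Module.End.mul_apply, hv']), map_zero]
    exact zero_mem _
  have hεb : b * aeval (a * b) ε = b := by
    have : b * aeval (a * b) (1 - ε) = 0 := by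
      refine LinearMap.ext fun m => ?_
      have hmem : b m ∈ (LinearMap.range a).map b := hbR ▸ ⟨m, rfl⟩
      obtain ⟨_, ⟨w, rfl⟩, hwe⟩ := hmem
      rw [b_aeval, Module.End.mul_apply, ← hwe, ← Module.End.mul_apply, ← Module.End.mul_apply, ← b_aeval,
        mul_assoc, (hkill0 _).mpr hεQ, mul_zero]
      rfl
    rw [map_sub, map_one, mul_sub, mul_one, sub_eq_zero] at this
    exact this.symm
  obtain ⟨D', -⟩ : ∃ D' : RootData Q (a * b) a c, D' = D' := by
    have h := D
    rw [hεa] at h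
    exact ⟨h, rfl⟩
  have hρ : ∀ x, rho D x = rho D' x := fun x => by simp only [rho, hεa]
  have hrinj : ∀ x, rho D' x = 0 → x = 0 := by
    intro x hx
    obtain ⟨f, rfl⟩ := AdjoinRoot.mk_surjective x
    have h := hup f
    rw [hρ, hx, zero_mul, map_mul, mul_assoc, hεa] at h
    rw [AdjoinRoot.mk_eq_zero]
    exact (hkill0 f).mp h.symm
  have hup' : ∀ f : k[X], rho D' (AdjoinRoot.mk Q f) * a = aeval (a * b) f * a := fun f => by
    have h := hup f
    rw [hρ, map_mul, mul_assoc, hεa] at h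
    exact h
  have hlow' : ∀ f : k[X], c * rho D' (AdjoinRoot.mk Q (f * X)) = b * aeval (a * b) f := fun f => by
    have h := hlow f
    rw [hρ, mul_comm f ε, map_mul (aeval (a * b)), ← mul_assoc b, hεb] at h
    exact h
  exact ⟨Q, c, hQm, hirr, hQ0, D', hrinj, hup', hlow', hdis1, hdis2⟩

end Cfsg.Lib.QuadPair
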